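import Mathlib

set_option autoImplicit false
set_option linter.all false

/-! A local argument: the automorphisms of a group with a suitable subgroup `H` are inner. -/

namespace Cfsg.Agent.LyO

open Subgroup
open scoped commutatorElement

variable {G : Type*} [Group G]

theorem map_comm_eq {f : G →* G} {X Y : Subgroup G} (hX : X.map f = X) (hY : Y.map f = Y) :
    (⁅X, Y⁆ : Subgroup G).map f = ⁅X, Y⁆ := by rw [map_commutator, hX, hY]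

theorem norm_comm {g : G} {X Y : Subgroup G} (hX : g ∈ normalizer (X : Set G))
    (hY : g ∈ normalizer (Y : Set G)) : g ∈ normalizer ((⁅X, Y⁆ : Subgroup G) : Set G) := by
  rw [mem_normalizer_iff_map_conj_eq] at *
  exact map_comm_eq hX hY

theorem norm_map {f : G →* G} {X : Subgroup G} (hX : X.map f = X) {g : G}
    (hg : g ∈ normalizer (X : Set G)) : f g ∈ normalizer (X : Set G) := by
  have := le_normalizer_map (H := X) f (mem_map_of_mem f hg)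
  rwa [hX] at this

theorem map_inv_eq {β : MulAut G} {X : Subgroup G} (hX : X.map (β : G →* G) = X) :
    X.map ((β⁻¹ : MulAut G) : G →* G) = X := by
  conv_lhs => rw [← hX]
  rw [map_map]
  have : ((β⁻¹ : MulAut G) : G →* G).comp (β : G →* G) = MonoidHom.id G := by
    ext x; simp
  rw [this, map_id]

theorem map_eq_of_le [Finite G] {β : MulAut G} {X : Subgroup G} (h : X.map (β : G →* G) ≤ X) :
    X.map (β : G →* G) = X :=
  eq_of_le_of_card_ge h (card_map_of_injective β.injective).ge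

theorem conj_mem {X : Subgroup G} {g x : G} (hg : g ∈ normalizer (X : Set G)) (hx : x ∈ X) :
    g * x * g⁻¹ ∈ X := (mem_normalizer_iff.1 hg x).1 hx

theorem conj_mem' {X : Subgroup G} {g x : G} (hg : g ∈ normalizer (X : Set G)) (hx : x ∈ X) :
    g⁻¹ * x * g ∈ X := (mem_normalizer_iff''.1 hg x).1 hx

/-- A self-normalising `p`-subgroup, relative to `p`-overgroups, is a Sylow subgroup. -/
theorem exists_conj_fix [Finite G] {p : ℕ} [Fact p.Prime] {P : Subgroup G} (hP : IsPGroup p P)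
    (h : ∀ S : Subgroup G, IsPGroup p S → P ≤ S → S ≤ normalizer (P : Set G) → S ≤ P)
    (α : MulAut G) : ∃ g, P.map ((MulAut.conj g * α : MulAut G) : G →* G) = P := by
  obtain ⟨S, hS⟩ := hP.exists_le_sylow
  haveI := S.isPGroup'.isNilpotent
  have h1 : (S : Subgroup G) = P := by
    have h2 := normalizerCondition_iff_only_full_group_self_normalizing.1
      (normalizerCondition_of_isNilpotent (G := (S : Subgroup G))) (P.subgroupOf S) ?_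
    · exact le_antisymm (subgroupOf_eq_top.1 h2) hS
    · rw [← subgroupOf_normalizer_eq hS]
      refine le_antisymm (fun x hx => ?_) fun x hx => le_normalizer hx
      exact h (normalizer (P : Set G) ⊓ S) S.isPGroup'.to_inf_right (le_inf le_normalizer hS)
        inf_le_left ⟨hx, x.2⟩
  obtain ⟨g, hg⟩ := MulAction.exists_smul_eq G (α • S) S
  refine ⟨g, ?_⟩
  have h3 := congrArg (fun T : Sylow p G => (T : Subgroup G)) hg
  simp only [Sylow.coe_subgroup_smul, Sylow.pointwise_smul_def, ← mul_smul] at h3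
  rw [h1] at h3
  exact h3

structure Loc (H L P Q R P1 : Subgroup G) (z a b e : G) (T : Set G) : Prop where
  hz : z ∉ H
  z2 : z * z ∈ H
  stab : ∀ k ∈ H, z⁻¹ * k * z ∈ H ↔ k ∈ L
  LP1 : L ≤ P1
  P1H : P1 ≤ H
  bP : b ∈ P
  PP1 : P ≤ P1
  aP1 : a ∈ P1
  fixv : ∀ g, (∀ k ∈ (⁅P, P⁆ : Subgroup G), g⁻¹ * k * g ∈ H) → g ∈ H ∨ ∃ h ∈ H, ∃ k ∈ H, g = h * z * k
  blk : ∀ h ∈ H, (∀ k ∈ (⁅P, P⁆ : Subgroup G), h⁻¹ * k * h ∈ L) → ∃ i : ℕ, (b ^ i)⁻¹ * h ∈ L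
  PL : ∀ x ∈ P, x ∈ L → x ∈ Q
  bL : b ∉ L
  QL : Q ≤ L
  QP : Q ≤ P
  RP : R ≤ P
  CQ : ⁅P, P⁆ ≤ Q
  CR : ⁅P, P⁆ ≤ R
  Qc : ⁅⁅Q, Q⁆, Q⁆ = ⊥
  Rc : ⁅⁅R, R⁆, R⁆ ≠ ⊥
  eN : e ∈ normalizer (R : Set G)
  aN : a ∈ normalizer (Q : Set G)
  bN : b ∈ normalizer (Q : Set G)
  zN : z ∈ normalizer (Q : Set G)
  cos : ∀ k ∈ P1, ∃ t ∈ T, t⁻¹ * k ∈ normalizer (P : Set G)
  tj : ∀ t ∈ T, t ∈ normalizer (P : Set G) ∨ ∃ p ∈ P, t = p * a
  cases : ∀ t ∈ T, (∀ x ∈ (⁅⁅⁅P, P⁆, P⁆, P⁆ : Subgroup G), ∀ y ∈ (⁅⁅⁅P, P⁆, P⁆, P⁆ : Subgroup G),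
      Commute (z⁻¹ * x * z) (t * y * t⁻¹)) ∨ ∃ l ∈ L, l ∈ normalizer (P : Set G) ∧
      ⁅t⁻¹ * (z⁻¹ * l * z) * t * b * (t⁻¹ * (z⁻¹ * l * z) * t)⁻¹, b⁆ ∉ L
  nc : ∃ x ∈ (⁅⁅⁅P, P⁆, P⁆, P⁆ : Subgroup G), ∃ y ∈ (⁅⁅⁅P, P⁆, P⁆, P⁆ : Subgroup G),
      ¬ Commute x (a * y * a⁻¹)
  gen : ∀ Y : Subgroup G, a ∈ Y → e ∈ Y → P ≤ Y → H ≤ Y
  NL : ∀ h ∈ H, (∀ l ∈ L, h⁻¹ * l * h ∈ L) → h ∈ L
  cent : ∀ k ∈ H, (∀ l ∈ L, Commute k l) → k = 1
  p5 : IsPGroup 5 P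
  max : ∀ S ≤ H, IsPGroup 5 S → P ≤ S → S ≤ P
  out : ∀ β : MulAut G, H.map (β : G →* G) = H → ∃ h ∈ H, ∀ x ∈ H, β x = h * x * h⁻¹
  top : ∀ Y : Subgroup G, H ≤ Y → z ∈ Y → Y = ⊤

namespace Loc

variable {H L P Q R P1 : Subgroup G} {z a b e : G} {T : Set G} (A : Loc H L P Q R P1 z a b e T)
include A

theorem PH : P ≤ H := A.PP1.trans A.P1H
theorem LH : L ≤ H := A.LP1.trans A.P1H
theorem CP : ⁅P, P⁆ ≤ P := A.CQ.trans A.QP

theorem red {h k x : G} (hk : k ∈ H) (hx : h⁻¹ * x * h ∈ H)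
    (hg : (h * z * k)⁻¹ * x * (h * z * k) ∈ H) : h⁻¹ * x * h ∈ L := by
  refine (A.stab _ hx).1 ?_
  convert H.mul_mem (H.mul_mem hk hg) (H.inv_mem hk) using 1
  group

theorem key0 {g : G} (hg : ∀ k ∈ (⁅P, P⁆ : Subgroup G), g⁻¹ * k * g ∈ H) :
    g ∈ H ∨ ∃ i : ℕ, ∃ k ∈ H, g = b ^ i * z * k := by
  rcases A.fixv g hg with h | ⟨h, hh, k, hk, rfl⟩
  · exact .inl h
  obtain ⟨i, hi⟩ := A.blk h hh fun x hx =>
    A.red hk (H.mul_mem (H.mul_mem (H.inv_mem hh) (A.PH (A.CP hx))) hh) (hg x hx)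
  exact .inr ⟨i, _, H.mul_mem ((A.stab _ (A.LH hi)).2 hi) hk, by group⟩

theorem key1 {i : ℕ} {k x : G} (hk : k ∈ H) (hx : x ∈ P)
    (hg : (b ^ i * z * k)⁻¹ * x * (b ^ i * z * k) ∈ H) : x ∈ Q := by
  have h1 : (b ^ i)⁻¹ * x * b ^ i ∈ P := P.mul_mem (P.mul_mem (P.inv_mem (P.pow_mem A.bP i)) hx)
    (P.pow_mem A.bP i)
  exact (mem_normalizer_iff''.1 (pow_mem A.bN i) x).2 (A.PL _ h1 (A.red hk (A.PH h1) hg))

theorem NP {g : G} (hg : g ∈ normalizer (P : Set G)) : g ∈ H := by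
  rcases A.key0 (g := g) (fun k hk => A.PH (conj_mem' hg (A.CP hk))) with h | ⟨i, k, hk, rfl⟩
  · exact h
  exact absurd (A.QL (A.key1 hk A.bP (A.PH (conj_mem' hg A.bP)))) A.bL

theorem memP1 {k : G} (hk : k ∈ H) (h : ∀ x ∈ (⁅P, P⁆ : Subgroup G), k⁻¹ * x * k ∈ L) : k ∈ P1 := by
  obtain ⟨i, hi⟩ := A.blk k hk h
  simpa using P1.mul_mem (P1.pow_mem (A.PP1 A.bP) i) (A.LP1 hi)

theorem NP1 {g : G} (hg : g ∈ normalizer (P : Set G)) : g ∈ P1 :=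
  A.memP1 (A.NP hg) fun _ hx => A.QL (A.CQ (conj_mem' (norm_comm hg hg) hx))

theorem key {β : MulAut G} (hβ : P.map (β : G →* G) = P) {X : Subgroup G} (h1 : ⁅P, P⁆ ≤ X)
    (h2 : X ≤ P) {y : G} (hy : y ∈ normalizer (X : Set G)) :
    β y ∈ H ∨ (X.map (β : G →* G) ≤ Q ∧ ∃ i : ℕ, ∃ k ∈ H, β y = b ^ i * z * k) := by
  have h3 : ∀ x ∈ P, β x ∈ P := fun x hx => hβ.le (mem_map_of_mem _ hx)
  have h4 : ∀ x ∈ X, (β y)⁻¹ * β x * β y ∈ H := fun x hx => by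
    simpa using A.PH (h3 _ (h2 (conj_mem' hy hx)))
  rcases A.key0 (g := β y) (fun k hk => by
    obtain ⟨x, hx, rfl⟩ := (map_comm_eq hβ hβ).ge hk
    exact h4 x (h1 hx)) with h | ⟨i, k, hk, h⟩
  · exact .inl h
  refine .inr ⟨?_, i, k, hk, h⟩
  rintro _ ⟨x, hx, rfl⟩
  exact A.key1 hk (h3 x (h2 hx)) (h ▸ h4 x hx)

theorem map_e {β : MulAut G} (hβ : P.map (β : G →* G) = P) : β e ∈ H := by
  rcases A.key hβ A.CR A.RP A.eN with h | ⟨h, -⟩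
  · exact h
  refine absurd ?_ A.Rc
  rw [← map_eq_bot_iff_of_injective (f := (β : G →* G)) _ β.injective, eq_bot_iff, ← A.Qc,
    map_commutator, map_commutator]
  exact commutator_mono (commutator_mono h h) h

theorem map_a [Finite G] {β : MulAut G} (hβ : P.map (β : G →* G) = P) : β a ∈ H := by
  by_contra hm
  obtain ⟨h1, i, k, hk, h2⟩ := (A.key hβ A.CQ A.QP A.aN).resolve_left hm
  have h3 : β a ∈ normalizer (Q : Set G) := norm_map (map_eq_of_le h1) A.aN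
  have h4 : k ∈ normalizer (Q : Set G) := by
    rw [h2] at h3
    exact (mul_mem_cancel_left (mul_mem (pow_mem A.bN i) A.zN)).1 h3
  obtain ⟨j, hj, hn⟩ := A.cos k (A.memP1 hk fun x hx => A.QL (conj_mem' h4 (A.CQ hx)))
  have hb : b ^ i ∈ normalizer (P : Set G) := le_normalizer (P.pow_mem A.bP i)
  rcases A.cases j hj with h | ⟨l, hl, hl', h⟩
  · obtain ⟨x, hx, y, hy, h5⟩ := A.nc
    have h6 := map_comm_eq (map_comm_eq (map_comm_eq hβ hβ) hβ) hβ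
    have h7 : ∀ g ∈ normalizer (P : Set G),
        g ∈ normalizer ((⁅⁅⁅P, P⁆, P⁆, P⁆ : Subgroup G) : Set G) := fun g hg =>
      norm_comm (norm_comm (norm_comm hg hg) hg) hg
    have h8 := h _ (conj_mem' (h7 _ hb) (h6.le (mem_map_of_mem _ hx))) _
      (conj_mem (h7 _ hn) (h6.le (mem_map_of_mem _ hy)))
    refine h5 (Commute.of_map β.injective ?_)
    have h9 := h8.map (MulAut.conj (b ^ i * z))
    simp only [MulAut.conj_apply, MonoidHom.coe_coe] at h9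
    rw [map_mul, map_mul, map_inv, h2]
    convert h9 using 1 <;> group
  · have h5 : β⁻¹ (b ^ i * l * (b ^ i)⁻¹) ∈ P1 :=
      A.NP1 (norm_map (map_inv_eq hβ) (mul_mem (mul_mem hb hl') (inv_mem hb)))
    have h6 := P1.mul_mem (P1.mul_mem (P1.inv_mem A.aP1) h5) A.aP1
    have h7 : β (a⁻¹ * β⁻¹ (b ^ i * l * (b ^ i)⁻¹) * a) = k⁻¹ * (z⁻¹ * l * z) * k := by
      rw [map_mul, map_mul, map_inv, h2, MulAut.apply_inv_self]; group
    generalize a⁻¹ * β⁻¹ (b ^ i * l * (b ^ i)⁻¹) * a = u at h6 h7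
    have h8 : β u ∈ H := h7 ▸ H.mul_mem (H.mul_mem (H.inv_mem hk) ((A.stab _ (A.LH hl)).2 hl)) hk
    obtain ⟨j', hj', hn'⟩ := A.cos u h6
    rcases A.tj j' hj' with h9 | ⟨p, hp, h9⟩
    · have h10 : β u ∈ normalizer (P : Set G) :=
        norm_map hβ ((mul_mem_cancel_left (inv_mem h9)).1 hn')
      have h11 : j⁻¹ * (z⁻¹ * l * z) * j ∈ normalizer (P : Set G) := by
        convert mul_mem (mul_mem hn h10) (inv_mem hn) using 1
        rw [h7]; group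
      exact h (A.QL (A.CQ (commutator_mem_commutator (conj_mem h11 A.bP) A.bP)))
    · have h10 : β (j'⁻¹ * u) ∈ H := A.NP (norm_map hβ hn')
      have h11 : β p ∈ H := A.PH (hβ.le (mem_map_of_mem _ hp))
      refine hm ?_
      convert H.mul_mem (H.mul_mem (H.inv_mem h11) h8) (H.inv_mem h10) using 1
      simp only [h9, map_mul, map_inv]
      group

theorem fix_z {β : MulAut G} (hβ : ∀ x ∈ H, β x = x) : β z = z := by
  have h1 : β z ∉ H := fun h => A.hz (β.injective (hβ _ h) ▸ h)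
  have h2 : ∀ l ∈ L, (β z)⁻¹ * l * β z = z⁻¹ * l * z := fun l hl => by
    rw [← hβ _ ((A.stab _ (A.LH hl)).2 hl), map_mul, map_mul, map_inv, hβ _ (A.LH hl)]
  have h3 : ∀ l ∈ L, (β z)⁻¹ * l * β z ∈ H := fun l hl => h2 l hl ▸ (A.stab _ (A.LH hl)).2 hl
  obtain ⟨h, hh, k, hk, h4⟩ := (A.fixv _ fun k hk => h3 k (A.QL (A.CQ hk))).resolve_left h1
  have h5 : h ∈ L := A.NL h hh fun l hl =>
    A.red hk (H.mul_mem (H.mul_mem (H.inv_mem hh) (A.LH hl)) hh) (h4 ▸ h3 l hl)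
  have h6 : z⁻¹ * β z ∈ H := by
    convert H.mul_mem ((A.stab _ hh).2 h5) hk using 1
    rw [h4]; group
  have h7 := A.cent _ h6 fun l hl => by
    have h8 : z * l * z⁻¹ ∈ H := by
      convert H.mul_mem (H.mul_mem A.z2 ((A.stab _ (A.LH hl)).2 hl)) (H.inv_mem A.z2) using 1
      group
    have h9 := h2 _ ((A.stab _ h8).1 (by convert A.LH hl using 1; group))
    have h10 : z⁻¹ * (z * l * z⁻¹) * z = l := by group
    rw [h10] at h9
    show z⁻¹ * β z * l = l * (z⁻¹ * β z)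
    conv_lhs => rw [← h9]
    group
  exact (inv_mul_eq_one.1 h7).symm

theorem inner [Finite G] (α : MulAut G) : ∃ g, MulAut.conj g * α = 1 := by
  haveI : Fact (Nat.Prime 5) := ⟨by norm_num⟩
  obtain ⟨g, hg⟩ := exists_conj_fix A.p5
    (fun S h1 h2 h3 => A.max S (fun x hx => A.NP (h3 hx)) h1 h2) α
  generalize hβ : MulAut.conj g * α = β at hg
  have h1 : H.map (β : G →* G) ≤ H := map_le_iff_le_comap.2 (A.gen _ (A.map_a hg) (A.map_e hg)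
    (map_le_iff_le_comap.1 (hg.le.trans A.PH)))
  obtain ⟨h, -, h2⟩ := A.out β (map_eq_of_le h1)
  refine ⟨h⁻¹ * g, ?_⟩
  rw [map_mul, mul_assoc, hβ]
  have h3 : ∀ x ∈ H, (MulAut.conj h⁻¹ * β) x = x := fun x hx => by
    rw [MulAut.mul_apply, h2 x hx, MulAut.conj_apply]; group
  have h4 := A.top (MonoidHom.eqLocus ((MulAut.conj h⁻¹ * β : MulAut G) : G →* G) (MonoidHom.id G))
    h3 (A.fix_z h3)
  ext x
  exact (h4.ge (mem_top x) :)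

end Loc

/-! ### Small lemmas -/

theorem five {c x : G} (h5 : c ^ 5 = 1) {Y : Subgroup G} (hx : x ∈ zpowers c) (hY : x ∈ Y) :
    x = 1 ∨ c ∈ Y := by
  by_cases hc : c = 1
  · exact .inr (hc ▸ Y.one_mem)
  haveI : Fact (Nat.Prime 5) := ⟨by norm_num⟩
  haveI : Fact (Nat.card (zpowers c)).Prime := ⟨by
    rw [Nat.card_zpowers, orderOf_eq_prime h5 hc]; norm_num⟩
  rcases (Y.subgroupOf (zpowers c)).eq_bot_or_eq_top_of_prime_card with h | h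
  · exact .inl (congrArg Subtype.val (mem_bot.1 (h.le (show (⟨x, hx⟩ : zpowers c) ∈ _ from hY))))
  · exact .inr (subgroupOf_eq_top.1 h (mem_zpowers c))

theorem inf_le_of_five {b : G} (h5 : b ^ 5 = 1) {L Q : Subgroup G} (hb : b ∉ L) (hQ : Q ≤ L)
    (hN : b ∈ normalizer (Q : Set G)) : ∀ x ∈ zpowers b ⊔ Q, x ∈ L → x ∈ Q := by
  intro x hx hL
  have h1 : x ∈ ((zpowers b ⊔ Q : Subgroup G) : Set G) := hx
  rw [coe_mul_of_left_le_normalizer_right _ _ (zpowers_le.2 hN)] at h1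
  obtain ⟨u, hu, q, hq, rfl⟩ := h1
  rcases five h5 hu ((mul_mem_cancel_right (hQ hq)).1 hL) with h | h
  · simpa [h] using hq
  · exact absurd h hb

theorem simple_of {L P1 : Subgroup G} {c u v : G} (hL : L ≤ P1)
    (ovr : ∀ Y : Subgroup G, L ≤ Y → ∀ x ∈ Y, x ∈ P1 ∨ Y = ⊤)
    (hN : P1 ≤ normalizer (zpowers c : Set G)) (h5 : c ^ 5 = 1)
    (ncl : ∀ N : Subgroup G, N.Normal → c ∈ N → N = ⊤) (hc : c = ⁅u, v⁆)
    (cent : ∀ k, (∀ l ∈ L, Commute k l) → k = 1) (N : Subgroup G) [hn : N.Normal] :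
    N = ⊥ ∨ N = ⊤ := by
  by_cases h0 : c ∈ N
  · exact .inr (ncl N hn h0)
  by_cases h1 : L ⊔ N = ⊤
  · have h2 : zpowers c ⊔ N = ⊤ := ncl _ (normalizer_eq_top_iff.1 (eq_top_iff.2 (h1.ge.trans
      (sup_le ((hL.trans hN).trans normalizer_le_normalizer_sup_normal)
        (le_sup_right.trans le_normalizer))))) (mem_sup_left (mem_zpowers c))
    have h3 : ∀ x : G, ∃ n : ℤ, (x : G ⧸ N) = (c : G ⧸ N) ^ n := fun x => by
      have h4 : x ∈ ((zpowers c ⊔ N : Subgroup G) : Set G) := h2.ge (mem_top x)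
      rw [mul_normal] at h4
      obtain ⟨_, ⟨n, rfl⟩, q, hq, rfl⟩ := h4
      exact ⟨n, by simp [(QuotientGroup.eq_one_iff q).2 hq]⟩
    refine absurd ((QuotientGroup.eq_one_iff c).1 ?_) h0
    obtain ⟨n, hu⟩ := h3 u
    obtain ⟨m, hv⟩ := h3 v
    have h4 : Commute (u : G ⧸ N) v := by rw [hu, hv]; exact (Commute.refl _).zpow_zpow n m
    rw [hc]
    exact (map_commutatorElement (QuotientGroup.mk' N) u v).trans h4.commutator_eq
  · have h2 : c ∈ centralizer (N : Set G) := fun n hn' => by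
      have h3 := (ovr _ le_sup_left n (mem_sup_right hn')).resolve_right h1
      have h4 : n * c * n⁻¹ * c⁻¹ ∈ zpowers c :=
        mul_mem (conj_mem (hN h3) (mem_zpowers c)) (inv_mem (mem_zpowers c))
      have h5' : n * c * n⁻¹ * c⁻¹ ∈ N := by
        convert N.mul_mem hn' (hn.conj_mem _ (N.inv_mem hn') c) using 1; group
      have h6 := (five h5 h4 h5').resolve_right h0
      rwa [mul_inv_eq_one, mul_inv_eq_iff_eq_mul] at h6
    have h3 := ncl _ inferInstance h2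
    exact .inl (eq_bot_iff.2 fun n hn' => cent n fun l _ => h3.ge (mem_top l) n hn')

/-! ### Transfer from the abstract group -/

structure LocK {K : Type*} [Group K] (L P Q R P1 E E' Q' : Subgroup K) (a b e l l' : K) (T : Set K) :
    Prop where
  LP1 : L ≤ P1
  bP : b ∈ P
  PP1 : P ≤ P1
  aP1 : a ∈ P1
  blk : ∀ h, (∀ k ∈ (⁅P, P⁆ : Subgroup K), h⁻¹ * k * h ∈ L) → ∃ i : ℕ, (b ^ i)⁻¹ * h ∈ L
  PL : ∀ x ∈ P, x ∈ L → x ∈ Q
  bL : b ∉ L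
  QL : Q ≤ L
  QP : Q ≤ P
  RP : R ≤ P
  CQ : ⁅P, P⁆ ≤ Q
  CR : ⁅P, P⁆ ≤ R
  Qc : ⁅⁅Q, Q⁆, Q⁆ = ⊥
  Rc : ⁅⁅R, R⁆, R⁆ ≠ ⊥
  eN : e ∈ normalizer (R : Set K)
  aN : a ∈ normalizer (Q : Set K)
  bN : b ∈ normalizer (Q : Set K)
  QQ : Q' ≤ Q
  cos : ∀ k ∈ P1, ∃ t ∈ T, t⁻¹ * k ∈ normalizer (P : Set K)
  tj : ∀ t ∈ T, t ∈ normalizer (P : Set K) ∨ ∃ p ∈ P, t = p * a
  hE : ⁅⁅⁅P, P⁆, P⁆, P⁆ = E
  lL : l ∈ L
  lN : l ∈ normalizer (P : Set K)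
  cases : ∀ t ∈ T, (∀ x ∈ E', ∀ y ∈ E, Commute x (t * y * t⁻¹)) ∨
      ⁅t⁻¹ * l' * t * b * (t⁻¹ * l' * t)⁻¹, b⁆ ∉ L
  nc : ∃ x ∈ E, ∃ y ∈ E, ¬ Commute x (a * y * a⁻¹)
  gen : ∀ Y : Subgroup K, a ∈ Y → e ∈ Y → P ≤ Y → Y = ⊤
  NL : ∀ h, (∀ l ∈ L, h⁻¹ * l * h ∈ L) → h ∈ L
  cent : ∀ k, (∀ l ∈ L, Commute k l) → k = 1
  p5 : IsPGroup 5 P
  max : ∀ S : Subgroup K, IsPGroup 5 S → P ≤ S → S ≤ P
  out : ∀ β : MulAut K, ∃ h, ∀ x, β x = h * x * h⁻¹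

theorem LocK.loc {K : Type*} [Group K] [Finite G] {L P Q R P1 E E' Q' : Subgroup K} {a b e l l' : K}
    {T : Set K} (A : LocK L P Q R P1 E E' Q' a b e l l' T) {ρ : K →* G} (inj : Function.Injective ρ)
    {z : G} (hz : z ∉ ρ.range) (z2 : z * z ∈ ρ.range) (stab : ∀ k, z⁻¹ * ρ k * z ∈ ρ.range ↔ k ∈ L)
    (fixv : ∀ g, (∀ k ∈ (⁅P, P⁆ : Subgroup K), g⁻¹ * ρ k * g ∈ ρ.range) →
      g ∈ ρ.range ∨ ∃ h ∈ ρ.range, ∃ k ∈ ρ.range, g = h * z * k)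
    (zQ : ∀ x ∈ Q, ∃ y ∈ Q', z⁻¹ * ρ x * z = ρ y) (zE : ∀ x ∈ E, ∃ y ∈ E', z⁻¹ * ρ x * z = ρ y)
    (zl : z⁻¹ * ρ l * z = ρ l') (top : ∀ Y : Subgroup G, ρ.range ≤ Y → z ∈ Y → Y = ⊤) :
    Loc ρ.range (L.map ρ) (P.map ρ) (Q.map ρ) (R.map ρ) (P1.map ρ) z (ρ a) (ρ b) (ρ e) (ρ '' T) := by
  have m : ∀ {X : Subgroup K} {x : K}, ρ x ∈ X.map ρ ↔ x ∈ X := mem_map_iff_mem inj
  have n : ∀ {X : Subgroup K} {x : K}, x ∈ normalizer (X : Set K) →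
      ρ x ∈ normalizer (X.map ρ : Set G) := fun h => le_normalizer_map ρ (mem_map_of_mem ρ h)
  have hE : ⁅⁅⁅P.map ρ, P.map ρ⁆, P.map ρ⁆, P.map ρ⁆ = E.map ρ := by
    rw [← A.hE, map_commutator, map_commutator, map_commutator]
  refine ⟨hz, z2, ?_, map_mono A.LP1, map_le_range _ _, m.2 A.bP, map_mono A.PP1, m.2 A.aP1, ?_, ?_,
    ?_, fun h => A.bL (m.1 h), map_mono A.QL, map_mono A.QP, map_mono A.RP, ?_, ?_, ?_, ?_,
    n A.eN, n A.aN, n A.bN, ?_, ?_, ?_, ?_, ?_, ?_, ?_, ?_, A.p5.map ρ, ?_, ?_, top⟩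
  · rintro _ ⟨k, rfl⟩; rw [stab, m]
  · exact fun g hg => fixv g fun k hk => hg _ (map_commutator P P ρ ▸ m.2 hk)
  · rintro _ ⟨h, rfl⟩ hh
    obtain ⟨i, hi⟩ := A.blk h fun k hk => m.1 (by
      simpa using hh _ (map_commutator P P ρ ▸ m.2 hk))
    exact ⟨i, by simpa using m.2 hi⟩
  · rintro _ ⟨x, hx, rfl⟩ h; exact m.2 (A.PL x hx (m.1 h))
  · rw [← map_commutator]; exact map_mono A.CQ
  · rw [← map_commutator]; exact map_mono A.CR
  · rw [← map_commutator, ← map_commutator, A.Qc, Subgroup.map_bot]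
  · rw [← map_commutator, ← map_commutator, Ne, map_eq_bot_iff_of_injective _ inj]; exact A.Rc
  · refine (inv_mem_iff (x := z)).1 (mem_normalizer_fintype ?_)
    rintro _ ⟨x, hx, rfl⟩
    obtain ⟨y, hy, h⟩ := zQ x hx
    rw [inv_inv, h]; exact m.2 (A.QQ hy)
  · rintro _ ⟨k, hk, rfl⟩
    obtain ⟨t, ht, h⟩ := A.cos k hk
    exact ⟨_, ⟨t, ht, rfl⟩, by simpa using n h⟩
  · rintro _ ⟨t, ht, rfl⟩
    rcases A.tj t ht with h | ⟨p, hp, rfl⟩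
    · exact .inl (n h)
    · exact .inr ⟨_, m.2 hp, map_mul _ _ _⟩
  · rintro _ ⟨t, ht, rfl⟩
    rcases A.cases t ht with h | h
    · left
      rw [hE]
      rintro _ ⟨x, hx, rfl⟩ _ ⟨y, hy, rfl⟩
      obtain ⟨x', hx', h1⟩ := zE x hx
      rw [h1]
      simpa using (h x' hx' y hy).map ρ
    · refine .inr ⟨_, m.2 A.lL, n A.lN, fun h1 => h (m.1 ?_)⟩
      rw [zl] at h1
      simpa only [map_commutatorElement, map_mul, map_inv] using h1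
  · obtain ⟨x, hx, y, hy, h⟩ := A.nc
    rw [hE]
    exact ⟨_, m.2 hx, _, m.2 hy, fun h1 => h (Commute.of_map inj (by simpa using h1))⟩
  · intro Y h1 h2 h3
    rintro _ ⟨k, rfl⟩
    exact (A.gen (Y.comap ρ) h1 h2 (map_le_iff_le_comap.1 h3)).ge (mem_top k)
  · rintro _ ⟨h, rfl⟩ hh
    exact m.2 (A.NL h fun l hl => m.1 (by simpa using hh _ (m.2 hl)))
  · rintro _ ⟨k, rfl⟩ hk
    rw [A.cent k fun l hl => Commute.of_map inj (hk _ (m.2 hl)), map_one]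
  · intro S h1 h2 h3 x hx
    obtain ⟨k, rfl⟩ := h1 hx
    exact m.2 (A.max (S.comap ρ) (h2.comap_of_injective ρ inj) (map_le_iff_le_comap.1 h3) hx)
  · intro β hβ
    let f := MonoidHom.ofInjective inj
    let g : ρ.range ≃* ρ.range := (β.subgroupMap ρ.range).trans (MulEquiv.subgroupCongr hβ)
    obtain ⟨h, hh⟩ := A.out (f.trans (g.trans f.symm))
    refine ⟨_, ⟨h, rfl⟩, ?_⟩
    rintro _ ⟨x, rfl⟩
    have h1 : g (f x) = f (h * x * h⁻¹) := by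
      rw [← hh x]; exact (f.apply_symm_apply _).symm
    have h2 := congrArg Subtype.val h1
    rw [← map_inv, ← map_mul, ← map_mul]
    exact h2

end Cfsg.Agent.LyO
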