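import Cfsg.Agent.LyO.Gen

set_option autoImplicit false
set_option linter.all false

/-! Cosets fixed by a subgroup, from a double coset enumeration. -/

namespace Cfsg.Agent.LyO

open Cfsg.Agent.CGT Subgroup Equiv
open scoped commutatorElement

variable {K G A : Type*} [Group K] [Group G] [CommGroup A]

/-- The stabiliser of the coset `g H`. -/
def TS (H : Subgroup G) (ρ : K →* G) (g : G) : Subgroup K where
  carrier := {k | g⁻¹ * ρ k * g ∈ H}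
  one_mem' := by simpa using H.one_mem
  mul_mem' := fun {a b} ha hb => by
    have := H.mul_mem ha hb
    show _ ∈ H
    convert this using 1
    rw [map_mul]; group
  inv_mem' := fun {a} ha => by
    have := H.inv_mem ha
    show _ ∈ H
    convert this using 1
    rw [map_inv]; group

def DC (H : Subgroup G) (z g : G) : Prop := ∃ u ∈ H, ∃ v ∈ H, g = u * z * v

theorem DC.mul {H : Subgroup G} {z g u v : G} (h : DC H z g) (hu : u ∈ H) (hv : v ∈ H) :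
    DC H z (u * g * v) := by
  obtain ⟨a, ha, b, hb, rfl⟩ := h
  exact ⟨_, H.mul_mem hu ha, _, H.mul_mem hb hv, by group⟩

structure Sit (D : Dce) (X : Ctx K G A) (ns : List Net) (n ω O : ℕ) : Prop where
  hy : D.Hyp X ns
  up : D.Upto X n
  one : ∀ a, X.ι a = 1
  rg : X.H = X.σ.range
  p : Pt X.φ X.γ D.k ns D.ts D.B D.LW ω O

noncomputable def badB (D : Dce) (ns : List Net) (n ω O e : ℕ) (S : List ℕ) : Bool :=
  allL S (D.refOK n e false [e]) && fixB D.k ns D.ts (S.map D.lw) [] ω O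

noncomputable def nodeF (D : Dce) (ns : List Net) (n ω O : ℕ) (N : List ℕ) (T E : List (List ℕ))
    (d : ℕ) (S : List ℕ) (r : ℕ) (J cs : List ℕ) (O1 O2 : ℕ) (ce : List (List (List ℕ × ℕ))) : Bool :=
  allL S (D.refOK n d false [d]) && (D.refOK n d true [1] r && (allL J (D.refOK n d true N) &&
    (covB D.k ns D.ts (S.map D.lw) cs [D.lw r] ω O1 && (covB D.k ns D.ts (S.map D.lw) cs (J.map D.lw) ω O2 &&
    (Nat.beq (Nat.land O (Nat.lor O1 O2)) O &&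
      zipB (r :: J) ce fun r c => zipB T c fun t x => Nat.ble x.2 (msk D.k) && (tb O1 x.2 &&
        tb O2 (ap D.k (msk D.k) D.ts (cj (app (D.lw r) t) (xp E x.1)) x.2)))))))

namespace Sit

variable {D : Dce} {X : Ctx K G A} {ns : List Net} {n ω O : ℕ} (s : Sit D X ns n ω O)
include s

theorem τ (v : List ℤ) : X.τ v = 1 := s.one _

theorem refS {d r : ℕ} (h : D.refOK n d false [d] r = true) :
    ev (ext X.γ) (D.lw r) ∈ TS X.H X.σ (D.W X d) := by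
  obtain ⟨e, he, q, t, h1⟩ := Dce.refOK_sound s.hy s.up h
  rw [List.mem_singleton.1 he, Dce.Rel, s.τ] at h1
  show _ ∈ X.H
  simpa [Ctx.s] using h1

theorem refJ {d r : ℕ} {N : List ℕ} (h : D.refOK n d true N r = true) : ∃ e ∈ N, ∃ q,
    (D.W X d)⁻¹ * X.σ (ev (ext X.γ) (D.lw r)) * X.z * X.σ q * D.W X e ∈ X.H := by
  obtain ⟨e, he, q, t, h1⟩ := Dce.refOK_sound s.hy s.up h
  rw [Dce.Rel, s.τ] at h1
  exact ⟨e, he, ev (ext X.γ) q, by simpa [Ctx.s, mul_assoc] using h1⟩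

theorem push {l : K} (hl : l ∈ gw X.γ D.LW) : X.z⁻¹ * X.σ l * X.z ∈ X.H := by
  obtain ⟨m, a, h⟩ := s.hy.push_mem hl
  rw [mul_assoc, h, s.one]
  simpa using s.hy.sub m

theorem pushW (u : List ℕ) : X.z⁻¹ * X.σ (ev (ext X.γ) (xp D.LW u)) * X.z =
    X.σ (ev (ext X.γ) (xp D.TW u)) := by
  have := s.hy.push_word u
  rw [s.τ, mul_one] at this
  rw [mul_assoc, inv_mul_eq_iff_eq_mul]
  exact this

theorem pushG (U : List (List ℕ)) : ∀ x ∈ gw X.γ (U.map (xp D.LW)),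
    ∃ y ∈ gw X.γ (U.map (xp D.TW)), X.z⁻¹ * X.σ x * X.z = X.σ y := fun x hx => by
  obtain ⟨y, hy, e⟩ := gw_le (H := TS ((gw X.γ (U.map (xp D.TW))).map X.σ) X.σ X.z) (fun u hu => by
    obtain ⟨w, hw, rfl⟩ := List.mem_map.1 hu
    exact ⟨_, ev_mem_gw _ (List.mem_map_of_mem hw), (s.pushW w).symm⟩) hx
  exact ⟨y, hy, e.symm⟩

theorem z2 : X.z * X.z ∈ X.H ∨ D.P ≠ [] := by
  by_cases h : D.P = []
  · left
    have h1 := s.hy.inv
    rw [h, s.τ, X.s_nil, one_mul, mul_one] at h1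
    have h2 : X.z * X.z = (X.s D.Q)⁻¹ := by
      rw [eq_inv_iff_mul_eq_one, mul_assoc, ← h1, mul_inv_cancel]
    rw [h2]
    exact X.H.inv_mem (s.hy.sub _)
  · exact .inr h

theorem dc1 (z2 : X.z * X.z ∈ X.H) {r : ℕ} (h : D.refOK n 0 true [1] r = true) :
    DC X.H X.z (D.W X 1) := by
  obtain ⟨e, he, q, h1⟩ := s.refJ h
  rw [List.mem_singleton.1 he, Dce.W_zero] at h1
  refine ⟨_, X.H.mul_mem (X.H.inv_mem (s.hy.sub q)) (X.H.inv_mem z2), _,
    X.H.mul_mem (X.H.inv_mem (s.hy.sub (ev (ext X.γ) (D.lw r)))) h1, ?_⟩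
  group

theorem bad (stab : ∀ k, X.z⁻¹ * X.σ k * X.z ∈ X.H → k ∈ gw X.γ D.LW) {e : ℕ} {S : List ℕ}
    (h : badB D ns n ω O e S = true) : ¬ DC X.H X.z (D.W X e) := by
  rintro ⟨u, hu, v, hv, h1⟩
  rw [badB, Bool.and_eq_true, allL_iff] at h
  obtain ⟨g, rfl⟩ := s.rg.le hu
  obtain ⟨r, hr, -⟩ := s.p.fixR h.2 (h := g) fun w hw => by
    obtain ⟨r, hr, rfl⟩ := List.mem_map.1 hw
    have h2 : _ ∈ X.H := s.refS (h.1 r hr)
    refine stab _ ?_
    convert X.H.mul_mem (X.H.mul_mem hv h2) (X.H.inv_mem hv) using 1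
    rw [h1, map_mul, map_mul, map_inv]; group
  exact absurd hr List.not_mem_nil

theorem node {N : List ℕ} (h1 : DC X.H X.z (D.W X 1)) (hN : ∀ e ∈ N, ¬ DC X.H X.z (D.W X e))
    {T E : List (List ℕ)}
    (cos : ∀ l ∈ gw X.γ D.LW, ∃ t ∈ T, (ev (ext X.γ) t)⁻¹ * l ∈ normalizer (gw X.γ E : Set K))
    {d : ℕ} {S : List ℕ} {r : ℕ} {J cs : List ℕ} {O1 O2 : ℕ} {ce : List (List (List ℕ × ℕ))}
    (h : nodeF D ns n ω O N T E d S r J cs O1 O2 ce = true) (g : K) :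
    ¬ ∀ x ∈ gw X.γ E, g⁻¹ * x * g ∈ TS X.H X.σ (D.W X d) := by
  intro hg
  simp only [nodeF, Bool.and_eq_true, allL_iff, Nat.beq_eq] at h
  obtain ⟨a1, a2, a3, a4, a5, a6, a7⟩ := h
  have hS : ∀ u ∈ S.map D.lw, ev (ext X.γ) u ∈ TS X.H X.σ (D.W X d) := fun u hu => by
    obtain ⟨r, hr, rfl⟩ := List.mem_map.1 hu
    exact s.refS (a1 r hr)
  have b1 := fun p => s.p.m.cov s.p.hω a4 hS (p := p)
  have b2 := fun p => s.p.m.cov s.p.hω a5 hS (p := p)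
  have key : ∀ x ∈ TS X.H X.σ (D.W X d), ∀ p, O1.testBit p = true → ¬ O2.testBit (X.φ x p) = true := by
    intro x hx p hp hq
    obtain ⟨u, hu, _, hr1, rfl⟩ := b1 p hp
    obtain ⟨u', hu', _, hr2, e⟩ := b2 _ hq
    rw [List.mem_singleton.1 hr1, ← Perm.mul_apply, ← map_mul] at e
    obtain ⟨r2, hr3, rfl⟩ := List.mem_map.1 hr2
    obtain ⟨e1, he1, q1, f1⟩ := s.refJ a2
    obtain ⟨e2, he2, q2, f2⟩ := s.refJ (a3 r2 hr3)
    rw [List.mem_singleton.1 he1] at f1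
    have f3 := s.push (s.p.memL e)
    have f4 : _ ∈ X.H := mul_mem (mul_mem (inv_mem hu') hx) hu
    refine hN e2 he2 ?_
    convert h1.mul (mul_mem (mul_mem (inv_mem (s.hy.sub q2)) f3) (s.hy.sub q1))
      (mul_mem (mul_mem (inv_mem f1) (inv_mem f4)) f2) using 1
    simp only [map_mul, map_inv]
    group
  have h2 := s.p.hO g⁻¹
  rw [← a6, land_eq, lor_eq, Nat.testBit_and, Bool.and_eq_true, Nat.testBit_or, Bool.or_eq_true] at h2
  obtain ⟨u, hu, r', hr', e⟩ : ∃ u ∈ TS X.H X.σ (D.W X d), ∃ r' ∈ r :: J,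
      X.φ (u * ev (ext X.γ) (D.lw r')) ω = X.φ g⁻¹ ω := by
    rcases h2.2 with h | h
    · obtain ⟨u, hu, _, hr, e⟩ := b1 _ h
      exact ⟨u, hu, r, List.mem_cons_self, List.mem_singleton.1 hr ▸ e⟩
    · obtain ⟨u, hu, _, hr, e⟩ := b2 _ h
      obtain ⟨r', hr4, rfl⟩ := List.mem_map.1 hr
      exact ⟨u, hu, r', List.mem_cons_of_mem _ hr4, e⟩
  obtain ⟨t, ht, h3⟩ := cos _ (s.p.memL e)
  obtain ⟨c, h4⟩ := zipB_sound a7 r' hr'
  obtain ⟨x, h5⟩ := zipB_sound h4 t ht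
  simp only [Bool.and_eq_true, tb_eq] at h5
  obtain ⟨h5, h6, h7⟩ := h5
  rw [s.p.m.M.ap' _ (lt_of_ble_msk h5)] at h7
  refine key _ ?_ _ h6 h7
  convert mul_mem (mul_mem (inv_mem hu) (hg _ (conj_mem' h3 (xp_gw X.γ E x.1)))) hu using 1
  rw [ev_cj, ev_app]
  group

end Sit

end Cfsg.Agent.LyO
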