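import Cfsg.Agent.CGT.DceMul
import Cfsg.Agent.LyO.Abs

set_option autoImplicit false
set_option linter.all false

/-! Checkers for memberships, normalisers, commutators, fixed points, orbits and cosets. -/

namespace Cfsg.Agent.LyO

open Cfsg.Agent.CGT Subgroup Equiv
open scoped commutatorElement

variable {G : Type*} [Group G]

/-- A model with a base. -/
structure Mo (φ : G →* Perm ℕ) (γ : ℕ → G) (k : ℕ) (ns : List Net) (ts : List Tab) (B : List ℕ) :
    Prop where
  M : Model φ γ k ns ts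
  hB : IsBase φ ⊤ B
  hp : ptsOK k B = true
  fin : Finite G

noncomputable def zipB {α β : Type} (l : List α) (l' : List β) (p : α → β → Bool) : Bool :=
  List.rec (motive := fun _ => List β → Bool) (fun _ => true)
    (fun a _ ih l' => List.rec false (fun b r _ => p a b && ih r) l') l l'

theorem zipB_sound {α β : Type} {l : List α} {l' : List β} {p : α → β → Bool}
    (h : zipB l l' p = true) : ∀ a ∈ l, ∃ b, p a b = true := by
  induction l generalizing l' with
  | nil => simp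
  | cons a l ih =>
    cases l' with
    | nil => exact absurd h Bool.false_ne_true
    | cons b r =>
      have h' : (p a b && zipB l r p) = true := h
      rw [Bool.and_eq_true] at h'
      intro x hx
      rcases List.mem_cons.1 hx with rfl | hx
      · exact ⟨b, h'.1⟩
      · exact ih h'.2 x hx

/-- A word in the letters of `W`. -/
noncomputable def xp (W : List (List ℕ)) (w : List ℕ) : List ℕ := expand (dbl W) w
noncomputable def cj (g u : List ℕ) : List ℕ := app g (app u (invW g))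
noncomputable def cm (u v : List ℕ) : List ℕ := app u (app v (app (invW u) (invW v)))

theorem xp_mem {γ : ℕ → G} {W : List (List ℕ)} {U : Subgroup G} (h : ∀ u ∈ W, ev (ext γ) u ∈ U)
    (w : List ℕ) : ev (ext γ) (xp W w) ∈ U := by
  rw [xp, ev_expand_dbl]
  exact ev_mem _ _ _ fun a _ => ext_wg_mem h a

theorem xp_gw (γ : ℕ → G) (W : List (List ℕ)) (w : List ℕ) : ev (ext γ) (xp W w) ∈ gw γ W :=
  xp_mem (fun _ hu => ev_mem_gw γ hu) w

theorem ev_cj (γ : ℕ → G) (g u : List ℕ) :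
    ev (ext γ) (cj g u) = ev (ext γ) g * ev (ext γ) u * (ev (ext γ) g)⁻¹ := by
  rw [cj, ev_app, ev_app, ev_invW, mul_assoc]

theorem ev_cm (γ : ℕ → G) (u v : List ℕ) :
    ev (ext γ) (cm u v) = ⁅ev (ext γ) u, ev (ext γ) v⁆ := by
  rw [cm, ev_app, ev_app, ev_app, ev_invW, ev_invW, commutatorElement_def]; group

theorem gw_nil (γ : ℕ → G) : gw γ [] = ⊥ := eq_bot_iff.2 (gw_le (by simp))

theorem gw_cons (γ : ℕ → G) (u : List ℕ) (W : List (List ℕ)) :
    gw γ (u :: W) = zpowers (ev (ext γ) u) ⊔ gw γ W := by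
  refine le_antisymm (gw_le fun x hx => ?_) (sup_le (zpowers_le.2 (ev_mem_gw γ (by simp)))
    (gw_le fun x hx => ev_mem_gw γ (by simp [hx])))
  rcases List.mem_cons.1 hx with rfl | hx
  · exact mem_sup_left (mem_zpowers _)
  · exact mem_sup_right (ev_mem_gw γ hx)

theorem gw_tail (γ : ℕ → G) (u : List ℕ) (W : List (List ℕ)) : gw γ W ≤ gw γ (u :: W) :=
  gw_cons γ u W ▸ le_sup_right

theorem conj_gw (γ : ℕ → G) (g : List ℕ) {W : List (List ℕ)} {y : G} (hy : y ∈ gw γ W) :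
    ev (ext γ) g * y * (ev (ext γ) g)⁻¹ ∈ gw γ (W.map (cj g)) :=
  gw_le (H := (gw γ (W.map (cj g))).comap (MulAut.conj (ev (ext γ) g)).toMonoidHom) (fun u hu => by
    show ev (ext γ) g * ev (ext γ) u * (ev (ext γ) g)⁻¹ ∈ gw γ (W.map (cj g))
    rw [← ev_cj]; exact ev_mem_gw γ (List.mem_map_of_mem hu)) hy

theorem comm_le {γ : ℕ → G} {A W : List (List ℕ)} {E : Subgroup G}
    (hA : gw γ A ≤ normalizer (E : Set G)) (hW : gw γ W ≤ normalizer (E : Set G))
    (h : ∀ x ∈ A, ∀ y ∈ W, ⁅ev (ext γ) x, ev (ext γ) y⁆ ∈ E) : ⁅gw γ A, gw γ W⁆ ≤ E := by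
  have key : ∀ {A : List (List ℕ)} (hA : gw γ A ≤ normalizer (E : Set G)) (y : G),
      (∀ x ∈ A, ⁅ev (ext γ) x, y⁆ ∈ E) → ∀ x ∈ gw γ A, ⁅x, y⁆ ∈ E := by
    intro A hA y h x hx
    induction hx using closure_induction with
    | mem x hx => obtain ⟨u, hu, rfl⟩ := hx; exact h u hu
    | one => simp
    | mul x x' hx _ h1 h2 =>
      convert E.mul_mem (conj_mem (hA hx) h2) h1 using 1
      simp only [commutatorElement_def]; group
    | inv x hx h1 =>
      convert conj_mem' (hA hx) (E.inv_mem h1) using 1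
      simp only [commutatorElement_def]; group
  refine commutator_le.2 fun x hx y hy => key hA y (fun u hu => ?_) x hx
  rw [← commutatorElement_inv]
  refine E.inv_mem (key hW _ (fun v hv => ?_) y hy)
  rw [← commutatorElement_inv]
  exact E.inv_mem (h u hu v hv)

theorem cos_of {γ : ℕ → G} {U : Subgroup G} {W T : List (List ℕ)} (h0 : [] ∈ T)
    (h : ∀ s ∈ W, ∀ t ∈ T, (∃ t' ∈ T, ev (ext γ) (app (invW t') (app s t)) ∈ U) ∧
      ∃ t' ∈ T, ev (ext γ) (app (invW t') (app (invW s) t)) ∈ U) :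
    ∀ x ∈ gw γ W, ∃ t ∈ T, (ev (ext γ) t)⁻¹ * x ∈ U := by
  intro x hx
  induction hx using closure_induction_left with
  | one => exact ⟨[], h0, by simpa using U.one_mem⟩
  | mul_left x hx y _ ih =>
    obtain ⟨s, hs, rfl⟩ := hx
    obtain ⟨t, ht, h1⟩ := ih
    obtain ⟨t', ht', h2⟩ := (h s hs t ht).1
    refine ⟨t', ht', ?_⟩
    convert U.mul_mem h2 h1 using 1
    rw [ev_app, ev_app, ev_invW]; group
  | inv_mul_cancel x hx y _ ih =>
    obtain ⟨s, hs, rfl⟩ := hx
    obtain ⟨t, ht, h1⟩ := ih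
    obtain ⟨t', ht', h2⟩ := (h s hs t ht).2
    refine ⟨t', ht', ?_⟩
    convert U.mul_mem h2 h1 using 1
    rw [ev_app, ev_app, ev_invW, ev_invW]; group

section
variable (k : ℕ) (ns : List Net) (ts : List Tab) (B : List ℕ)

noncomputable def subB (W A ws : List (List ℕ)) : Bool :=
  zipB A ws fun u w => eqB k ts B u (xp W w)

noncomputable def normB (W : List (List ℕ)) (g : List ℕ) (ws : List (List ℕ)) : Bool :=
  subB k ts B W (W.map (cj g)) ws

noncomputable def normsB (W gs : List (List ℕ)) (wss : List (List (List ℕ))) : Bool :=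
  zipB gs wss (normB k ts B W)

noncomputable def commB (A W E : List (List ℕ)) (wss : List (List (List ℕ))) : Bool :=
  zipB A wss fun x ws => subB k ts B E (W.map (cm x)) ws

noncomputable def geB (A W E : List (List ℕ)) (pr : List (List ℕ × List ℕ)) (ws : List (List ℕ)) :
    Bool :=
  subB k ts B (pr.map fun p => cm (xp A p.1) (xp W p.2)) E ws

noncomputable def pcB (S T : List (List ℕ)) (cs : List (List (List ℕ))) : Bool :=
  List.rec (motive := fun _ => List (List (List ℕ)) → Bool) (fun _ => true)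
    (fun y T ih cs => List.rec false
      (fun c cs _ => subB k ts B T (pw y 5 :: S.map fun x => cm x y) c && ih cs) cs) T cs

noncomputable def cosB (P W T : List (List ℕ))
    (cs : List (List ((ℕ × List (List ℕ)) × ℕ × List (List ℕ)))) : Bool :=
  zipB W cs fun s c => zipB T c fun t d =>
    normB k ts B P (app (invW (nth [] T d.1.1)) (app s t)) d.1.2 &&
      normB k ts B P (app (invW (nth [] T d.2.1)) (app (invW s) t)) d.2.2

noncomputable def maskW (reps : List (List ℕ)) (ω : ℕ) : ℕ :=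
  List.rec 0 (fun r _ ih => frc ih (Nat.lor ih (Nat.shiftLeft 1 (ap k (msk k) ts r ω)))) reps

noncomputable def covB (S : List (List ℕ)) (cs : List ℕ) (reps : List (List ℕ)) (ω O : ℕ) : Bool :=
  Nat.beq (Nat.land O (grow ns S cs (maskW k ts reps ω))) O

noncomputable def movedAll (W : List (List ℕ)) : ℕ :=
  List.rec 0 (fun w _ ih => frc ih (Nat.lor ih (movedM k ns w))) W

noncomputable def fixB (W reps : List (List ℕ)) (ω O : ℕ) : Bool :=
  Nat.beq (Nat.land O (Nat.lor (movedAll k ns W) (maskW k ts reps ω))) O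

noncomputable def movB (w : List ℕ) (p : ℕ) : Bool :=
  Nat.ble p (msk k) && !(Nat.beq (ap k (msk k) ts w p) p)

end

namespace Mo

variable {φ : G →* Perm ℕ} {γ : ℕ → G} {k : ℕ} {ns : List Net} {ts : List Tab} {B : List ℕ}
  (m : Mo φ γ k ns ts B)
include m

theorem eq {u v : List ℕ} (h : eqB k ts B u v = true) : ev (ext γ) u = ev (ext γ) v :=
  eqB_sound m.M m.hB m.hp (mem_top _) (mem_top _) h

theorem sub' {W A ws : List (List ℕ)} (h : subB k ts B W A ws = true) {U : Subgroup G}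
    (hU : ∀ u ∈ W, ev (ext γ) u ∈ U) : ∀ u ∈ A, ev (ext γ) u ∈ U := fun u hu => by
  obtain ⟨w, hw⟩ := zipB_sound h u hu
  rw [m.eq hw]; exact xp_mem hU w

theorem sub {W A ws : List (List ℕ)} (h : subB k ts B W A ws = true) :
    ∀ u ∈ A, ev (ext γ) u ∈ gw γ W := m.sub' h fun _ hu => ev_mem_gw γ hu

theorem le {W A ws : List (List ℕ)} (h : subB k ts B W A ws = true) : gw γ A ≤ gw γ W :=
  gw_le (m.sub h)

theorem norm {W : List (List ℕ)} {g : List ℕ} {ws : List (List ℕ)} (h : normB k ts B W g ws = true) :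
    ev (ext γ) g ∈ normalizer (gw γ W : Set G) := by
  haveI := m.fin
  exact mem_normalizer_fintype fun x hx => m.le h (conj_gw γ g hx)

theorem norms {W gs : List (List ℕ)} {wss : List (List (List ℕ))} (h : normsB k ts B W gs wss = true) :
    gw γ gs ≤ normalizer (gw γ W : Set G) := gw_le fun g hg => by
  obtain ⟨ws, h1⟩ := zipB_sound h g hg
  exact m.norm h1

theorem comm {A W E : List (List ℕ)} {wss : List (List (List ℕ))} (h : commB k ts B A W E wss = true)
    (hA : gw γ A ≤ normalizer (gw γ E : Set G)) (hW : gw γ W ≤ normalizer (gw γ E : Set G)) :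
    ⁅gw γ A, gw γ W⁆ ≤ gw γ E := comm_le hA hW fun x hx y hy => by
  obtain ⟨ws, h1⟩ := zipB_sound h x hx
  rw [← ev_cm]
  exact m.sub h1 _ (List.mem_map_of_mem hy)

theorem commute {A W : List (List ℕ)} {wss : List (List (List ℕ))}
    (h : commB k ts B A W [] wss = true) {x y : G} (hx : x ∈ gw γ A) (hy : y ∈ gw γ W) :
    Commute x y := by
  have h1 := m.comm h (by rw [gw_nil, normalizer_eq_top]; exact le_top)
    (by rw [gw_nil, normalizer_eq_top]; exact le_top) (commutator_mem_commutator hx hy)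
  rw [gw_nil] at h1
  exact commutatorElement_eq_one_iff_commute.1 (mem_bot.1 h1)

theorem ge {A W E : List (List ℕ)} {pr : List (List ℕ × List ℕ)} {ws : List (List ℕ)}
    (h : geB k ts B A W E pr ws = true) : gw γ E ≤ ⁅gw γ A, gw γ W⁆ :=
  gw_le (m.sub' h fun u hu => by
    obtain ⟨p, -, rfl⟩ := List.mem_map.1 hu
    rw [ev_cm]
    exact commutator_mem_commutator (xp_gw γ A _) (xp_gw γ W _))

theorem ncl {c : List ℕ} {gs A ws : List (List ℕ)} (h : subB k ts B (gs.map fun g => cj g c) A ws = true)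
    {N : Subgroup G} (hN : N.Normal) (hc : ev (ext γ) c ∈ N) : ∀ u ∈ A, ev (ext γ) u ∈ N :=
  m.sub' h fun u hu => by
    obtain ⟨g, -, rfl⟩ := List.mem_map.1 hu
    rw [ev_cj]; exact hN.conj_mem _ hc _

omit m in
/-- What a power-commutator check proves, for all tails. -/
def PC (γ : ℕ → G) (S : Subgroup G) : List (List ℕ) → Prop
  | [] => True
  | y :: T => (S ≤ normalizer (gw γ (y :: T) : Set G) ∧ IsPGroup 5 (gw γ (y :: T)) ∧
      ⁅gw γ (y :: T), S⁆ ≤ gw γ T) ∧ PC γ S T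

omit m in
theorem PC.base {S : Subgroup G} {T : List (List ℕ)} (h : PC γ S T) :
    S ≤ normalizer (gw γ T : Set G) ∧ IsPGroup 5 (gw γ T) := by
  cases T with
  | nil => rw [gw_nil, normalizer_eq_top]; exact ⟨le_top, IsPGroup.of_bot⟩
  | cons y T => exact ⟨h.1.1, h.1.2.1⟩

theorem pc {S T : List (List ℕ)} {cs : List (List (List ℕ))} (h : pcB k ts B S T cs = true)
    (hT : gw γ T ≤ gw γ S) : PC γ (gw γ S) T := by
  induction T generalizing cs with
  | nil => trivial
  | cons y T ih =>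
    cases cs with
    | nil => exact absurd h Bool.false_ne_true
    | cons c cs =>
      have h' : (subB k ts B T (pw y 5 :: S.map fun x => cm x y) c && pcB k ts B S T cs) = true := h
      rw [Bool.and_eq_true] at h'
      have h1 := ih h'.2 ((gw_tail γ y T).trans hT)
      obtain ⟨h2, h3⟩ := h1.base
      have h4 := m.sub h'.1
      have h5 : ⁅gw γ S, gw γ (y :: T)⁆ ≤ gw γ T := comm_le h2 (hT.trans h2) fun x hx u hu => by
        rcases List.mem_cons.1 hu with rfl | hu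
        · rw [← ev_cm]; exact h4 _ (List.mem_cons_of_mem _ (List.mem_map_of_mem hx))
        · exact mul_mem (conj_mem (h2 (ev_mem_gw γ hx)) (ev_mem_gw γ hu)) (inv_mem (ev_mem_gw γ hu))
      refine ⟨⟨le_normalizer_iff_commutator_le_right.2 (h5.trans (gw_tail γ y T)), ?_,
        by rwa [commutator_comm]⟩, h1⟩
      have hy : ev (ext γ) y ∈ gw γ S := hT (ev_mem_gw γ (by simp))
      rw [gw_cons]
      refine IsPGroup.to_sup_of_normal_right' ?_ h3 (zpowers_le.2 (h2 hy))
      have h6 := h4 _ List.mem_cons_self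
      rw [ev_pw] at h6
      obtain ⟨n, hn⟩ := h3 ⟨_, h6⟩
      have h7 : ev (ext γ) y ^ 5 ^ (n + 1) = 1 := by
        rw [pow_succ', pow_mul]; exact congrArg Subtype.val hn
      rintro ⟨_, i, rfl⟩
      refine ⟨n + 1, Subtype.ext ?_⟩
      show (ev (ext γ) y ^ i) ^ 5 ^ (n + 1) = 1
      rw [← zpow_natCast, ← zpow_mul, mul_comm, zpow_mul, zpow_natCast, h7, one_zpow]

theorem cos {P W T : List (List ℕ)} {cs : List (List ((ℕ × List (List ℕ)) × ℕ × List (List ℕ)))}
    (h : cosB k ts B P W T cs = true) (h0 : [] ∈ T) :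
    ∀ x ∈ gw γ W, ∃ t ∈ T, (ev (ext γ) t)⁻¹ * x ∈ normalizer (gw γ P : Set G) :=
  cos_of h0 fun s hs t ht => by
    obtain ⟨c, h1⟩ := zipB_sound h s hs
    obtain ⟨d, h2⟩ := zipB_sound h1 t ht
    rw [Bool.and_eq_true] at h2
    have : ∀ j, nth [] T j ∈ T := fun j => (Enum.nth_mem_or [] T j).elim (fun e => by rw [e]; exact h0) id
    exact ⟨⟨_, this _, m.norm h2.1⟩, _, this _, m.norm h2.2⟩

theorem mask {reps : List (List ℕ)} {ω : ℕ} (hω : ω < 2 ^ k) {p : ℕ}
    (h : (maskW k ts reps ω).testBit p = true) : ∃ r ∈ reps, φ (ev (ext γ) r) ω = p := by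
  induction reps with
  | nil => simp [maskW] at h
  | cons r reps ih =>
    have e : maskW k ts (r :: reps) ω = maskW k ts reps ω ||| (1 <<< ap k (msk k) ts r ω) :=
      frc_eq (maskW k ts reps ω) _
    rw [e, Nat.testBit_or, Bool.or_eq_true] at h
    rcases h with h | h
    · obtain ⟨r', h1, h2⟩ := ih h
      exact ⟨r', List.mem_cons_of_mem _ h1, h2⟩
    · rw [Nat.one_shiftLeft, Nat.testBit_two_pow, decide_eq_true_eq, m.M.ap' _ hω] at h
      exact ⟨r, List.mem_cons_self, h⟩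

theorem cov {S : List (List ℕ)} {cs : List ℕ} {reps : List (List ℕ)} {ω O : ℕ} (hω : ω < 2 ^ k)
    (h : covB k ns ts S cs reps ω O = true) {U : Subgroup G} (hU : ∀ u ∈ S, ev (ext γ) u ∈ U)
    {p : ℕ} (hp : O.testBit p = true) : ∃ s ∈ U, ∃ r ∈ reps, φ (s * ev (ext γ) r) ω = p := by
  rw [← Nat.eq_of_beq_eq_true h, land_eq, Nat.testBit_and, Bool.and_eq_true] at hp
  refine grow_ind m.M.valid (S := S)
    (P := fun p => ∃ s ∈ U, ∃ r ∈ reps, φ (s * ev (ext γ) r) ω = p) ?_ cs ?_ p hp.2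
  · rintro u hu j ⟨s, hs, r, hr, e⟩
    refine ⟨(ev (ext γ) u)⁻¹ * s, U.mul_mem (U.inv_mem (hU u hu)) hs, r, hr, ?_⟩
    rw [mul_assoc, map_mul, Perm.mul_apply, e, map_inv, m.M.map_ev', perm_inv_apply]
  · intro j hj
    obtain ⟨r, hr, e⟩ := m.mask hω hj
    exact ⟨1, U.one_mem, r, hr, by rwa [one_mul]⟩

theorem fix {W reps : List (List ℕ)} {ω O : ℕ} (hω : ω < 2 ^ k) (h : fixB k ns ts W reps ω O = true)
    {p : ℕ} (hp : O.testBit p = true) (hW : ∀ u ∈ W, φ (ev (ext γ) u) p = p) :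
    ∃ r ∈ reps, φ (ev (ext γ) r) ω = p := by
  rw [← Nat.eq_of_beq_eq_true h, land_eq, lor_eq, Nat.testBit_and, Bool.and_eq_true, Nat.testBit_or,
    Bool.or_eq_true] at hp
  refine m.mask hω (hp.2.resolve_left ?_)
  clear h hp
  induction W with
  | nil => simp [movedAll]
  | cons w W ih =>
    have e : movedAll k ns (w :: W) = movedAll k ns W ||| movedM k ns w := frc_eq (movedAll k ns W) _
    rw [e, Nat.testBit_or, Bool.or_eq_true, movedM_sound m.M w (hW w List.mem_cons_self)]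
    simpa using ih fun u hu => hW u (List.mem_cons_of_mem _ hu)

theorem mov {w : List ℕ} {p : ℕ} (h : movB k ts w p = true) : φ (ev (ext γ) w) p ≠ p := by
  rw [movB, Bool.and_eq_true, m.M.ap' _ (lt_of_ble_msk h.1)] at h
  exact Nat.ne_of_beq_eq_false (by simpa using h.2)

theorem ne {w : List ℕ} {p : ℕ} (h : movB k ts w p = true) : ev (ext γ) w ≠ 1 := fun e =>
  m.mov h (by rw [e, map_one]; rfl)

end Mo

/-- A model with a known point stabiliser. -/
structure Pt (φ : G →* Perm ℕ) (γ : ℕ → G) (k : ℕ) (ns : List Net) (ts : List Tab) (B : List ℕ)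
    (LW : List (List ℕ)) (ω O : ℕ) : Prop where
  m : Mo φ γ k ns ts B
  hω : ω < 2 ^ k
  Lω : ∀ h, φ h ω = ω ↔ h ∈ gw γ LW
  hO : ∀ h, O.testBit (φ h ω) = true

noncomputable def cenB (k : ℕ) (ns : List Net) (ts : List Tab) (B : List ℕ) (LW : List (List ℕ))
    (ω O : ℕ) (cs : List (List ℕ × List (List ℕ))) : Bool :=
  fixB k ns ts LW [[]] ω O && zipB B cs fun p c => Nat.beq (ap k (msk k) ts c.1 ω) p &&
    (fixB k ns ts (c.2.map (xp LW)) [[], c.1] ω O &&
      allL (c.2.map (xp LW)) fun u => Nat.beq (ap k (msk k) ts u p) p)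

namespace Pt

variable {φ : G →* Perm ℕ} {γ : ℕ → G} {k : ℕ} {ns : List Net} {ts : List Tab} {B : List ℕ}
  {LW : List (List ℕ)} {ω O : ℕ} (s : Pt φ γ k ns ts B LW ω O)
include s

theorem memL {g h : G} (e : φ g ω = φ h ω) : g⁻¹ * h ∈ gw γ LW :=
  (s.Lω _).1 (by rw [map_mul, Perm.mul_apply, ← e, map_inv, perm_inv_apply])

theorem fixes {h x : G} (e : h⁻¹ * x * h ∈ gw γ LW) : φ x (φ h ω) = φ h ω := by
  have := (s.Lω _).2 e
  rwa [map_mul, map_mul, Perm.mul_apply, Perm.mul_apply, map_inv, Perm.inv_eq_iff_eq] at this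

theorem fixR {W reps : List (List ℕ)} (hf : fixB k ns ts W reps ω O = true) {h : G}
    (hW : ∀ u ∈ W, h⁻¹ * ev (ext γ) u * h ∈ gw γ LW) :
    ∃ r ∈ reps, (ev (ext γ) r)⁻¹ * h ∈ gw γ LW := by
  obtain ⟨r, hr, e⟩ := s.m.fix s.hω hf (s.hO h) fun u hu => s.fixes (hW u hu)
  exact ⟨r, hr, s.memL e⟩

theorem notL {w : List ℕ} (h : movB k ts w ω = true) : ev (ext γ) w ∉ gw γ LW := fun e =>
  s.m.mov h ((s.Lω _).2 e)

theorem inL {w : List ℕ} (h : fixesB k ts w [ω] = true) : ev (ext γ) w ∈ gw γ LW :=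
  (s.Lω _).1 (fixesB_sound s.m.M (ptsOK_cons s.hω rfl) h ω List.mem_cons_self)

theorem NL (hf : fixB k ns ts LW [[]] ω O = true) (h : G)
    (hh : ∀ l ∈ gw γ LW, h⁻¹ * l * h ∈ gw γ LW) : h ∈ gw γ LW := by
  obtain ⟨r, hr, e⟩ := s.fixR hf fun u hu => hh _ (ev_mem_gw γ hu)
  simpa [List.mem_singleton.1 hr] using e

theorem cent {cs : List (List ℕ × List (List ℕ))} (h : cenB k ns ts B LW ω O cs = true) (x : G)
    (hx : ∀ l ∈ gw γ LW, Commute x l) : x = 1 := by
  rw [cenB, Bool.and_eq_true] at h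
  have h0 : φ x ω = ω := (s.Lω _).2 (s.NL h.1 x fun l hl => by
    rwa [mul_assoc, ← (hx l hl).eq, inv_mul_cancel_left])
  refine s.m.hB x trivial fun p hp => ?_
  obtain ⟨c, hc⟩ := zipB_sound h.2 p hp
  simp only [Bool.and_eq_true, Nat.beq_eq, allL_iff] at hc
  obtain ⟨h1, h2, h3⟩ := hc
  rw [s.m.M.ap' _ s.hω] at h1
  obtain ⟨r, hr, e⟩ := s.m.fix s.hω h2 (p := φ x p)
    (by rw [← h1, ← Perm.mul_apply, ← map_mul]; exact s.hO _) fun u hu => by
      have h4 := h3 u hu
      rw [s.m.M.ap' _ (ptsOK_lt s.m.hp hp)] at h4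
      obtain ⟨w, -, rfl⟩ := List.mem_map.1 hu
      rw [← Perm.mul_apply, ← map_mul, ← (hx _ (xp_gw γ LW w)).eq, map_mul, Perm.mul_apply, h4]
  rcases List.mem_cons.1 hr with rfl | hr
  · have h5 : φ x ω = φ x p := by rw [← e, h0]; simp
    rw [← (φ x).injective h5, h0]
  · rw [← e, List.mem_singleton.1 hr, h1]

theorem cover {cs : List ℕ} {reps : List (List ℕ)} (h : covB k ns ts LW cs reps ω O = true) (x : G) :
    ∃ r ∈ reps, ∃ l ∈ gw γ LW, ∃ l' ∈ gw γ LW, x = l * ev (ext γ) r * l' := by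
  obtain ⟨l, hl, r, hr, e⟩ := s.m.cov s.hω h (fun _ hu => ev_mem_gw γ hu) (s.hO x)
  exact ⟨r, hr, l, hl, _, s.memL e, by group⟩

theorem trans {cs : List ℕ} {r : List ℕ} (h : covB k ns ts (r :: LW) cs [[]] ω O = true)
    {Y : Subgroup G} (hL : gw γ LW ≤ Y) (hr : ev (ext γ) r ∈ Y) : Y = ⊤ := eq_top_iff.2 fun x _ => by
  obtain ⟨l, hl, r', hr', e⟩ := s.m.cov s.hω h (U := Y) (fun u hu => by
    rcases List.mem_cons.1 hu with rfl | hu
    · exact hr
    · exact hL (ev_mem_gw γ hu)) (s.hO x)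
  have := hL (s.memL e)
  rw [List.mem_singleton.1 hr', ev_nil, mul_one] at this
  simpa using Y.mul_mem hl this

theorem ovr {cs : List ℕ} {b : List ℕ} {oR css : List (List ℕ)}
    (h : covB k ns ts LW cs ([] :: b :: oR) ω O = true)
    (h' : zipB oR css (fun r cs => covB k ns ts (r :: LW) cs [[]] ω O) = true) {P1 : Subgroup G}
    (h1 : gw γ LW ≤ P1) (h2 : ev (ext γ) b ∈ P1) {Y : Subgroup G} (hL : gw γ LW ≤ Y) {x : G}
    (hx : x ∈ Y) : x ∈ gw γ LW ∨ (ev (ext γ) b ∈ Y ∧ x ∈ P1) ∨ Y = ⊤ := by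
  obtain ⟨r, hr, l, hl, l', hl', rfl⟩ := s.cover h x
  have h3 : ev (ext γ) r ∈ Y :=
    (mul_mem_cancel_left (hL hl)).1 ((mul_mem_cancel_right (hL hl')).1 hx)
  rcases List.mem_cons.1 hr with rfl | hr
  · exact .inl (by simpa using mul_mem hl hl')
  rcases List.mem_cons.1 hr with rfl | hr
  · exact .inr (.inl ⟨h3, mul_mem (mul_mem (h1 hl) h2) (h1 hl')⟩)
  · obtain ⟨cs, h4⟩ := zipB_sound h' r hr
    exact .inr (.inr (s.trans h4 hL h3))

end Pt

end Cfsg.Agent.LyO
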