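import Cfsg.Agent.LyC.Cert
import Cfsg.Agent.CGT.Out

set_option autoImplicit false
set_option Elab.async false
set_option maxRecDepth 100000
set_option linter.all false
open Cfsg.Agent.LyC

namespace Cfsg.Agent.LyO
open Cfsg.Agent.CGT

noncomputable def g_Ws : List (List ℕ) := [[10, 6, 1, 11, 0, 7], [14, 1, 8, 13, 7, 15, 0, 2, 8], [7, 19, 17, 12, 14, 8, 13, 6], [3, 0, 14, 2, 0, 19, 17, 2, 2], [6, 6, 5], [6, 6, 5], [2, 0, 3, 3, 1, 15, 8, 4, 8], [6, 6, 5], [6, 6, 5], [1, 1, 3, 13, 1, 16, 2, 2], [2, 1, 3, 13, 4, 4], [6, 6, 5], [18, 0, 0, 15, 0, 17, 0], [6, 6, 5], [1, 13, 8, 15, 0, 0, 8, 4], [2, 1, 2, 2, 0, 2, 0], [1, 3, 0, 2, 2], [0], [2], [4], [6], [8], [10], [12], [14], [16], [18]]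
theorem g_s0 : slpB 15 m_ts (chainBase [] c_ls) g_Ws [[0, 3, 3, 5, 0, 2, 5, 4, 3, 1, 1, 2, 4, 5, 3, 2, 5, 1], [3, 2, 1, 3, 2, 2, 2, 2, 0, 5, 4], [5, 1, 1, 3, 1, 1, 5, 5, 0, 0, 3, 3, 1, 1, 5, 0, 5, 5, 0], [0, 2, 5, 1, 5, 0, 0, 3, 1, 3, 2, 5, 2, 4, 1, 5, 1, 2, 5, 3], [0, 2, 5, 1, 0, 3, 4, 2, 4, 3, 2, 4, 5, 4, 0, 0, 0], [1, 3, 1, 0, 0, 1, 1, 3, 0, 5, 5, 3], [0, 3, 1, 5, 1, 5, 1, 5, 0, 3, 4, 4, 2, 4, 2, 2, 0, 4, 0, 5, 1, 3, 1, 5], [12, 15, 7, 18], [8], [12, 9, 13], [19, 18, 16], [7, 9, 12], [21, 23, 20, 25, 21, 29, 26, 28, 28, 26, 21, 27, 21, 26], [29, 20, 25, 20, 29, 29, 23, 21, 21, 29, 22], [18, 29, 22, 24, 21, 22, 21, 32], [4, 1, 4, 2, 1, 1, 4, 1, 4, 2, 6, 29, 20, 22, 32, 30], [22, 32, 32, 32], [3, 1, 1, 1, 2, 18, 21, 28, 24, 29, 22, 31], [1, 4, 0, 2, 1, 1, 4, 0, 4, 1, 18, 20, 28, 22, 24,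 21, 21, 30, 30], [22, 32, 32, 32], [20, 28, 22, 28, 21, 21, 32, 31], [28, 21, 29, 29, 20, 30, 30], [21, 21, 22, 24, 31, 31], [28, 21, 22, 20, 22, 32, 30, 30]] 3 27 = true := by decide +kernel
theorem g_top {G : Type*} [Group G] {φ : G →* Equiv.Perm ℕ} {γ : ℕ → G}
    (C : Cert φ γ 15 m_ns m_ts [0, 2, 4, 6, 8, 10, 12, 14, 16, 18] c_ls) : gw γ (g_Ws.take 3) = ⊤ := by
  have h0 : SlpTo γ (gw γ (g_Ws.take 3)) g_Ws 3 := fun i hi =>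
    ev_mem_gw γ (by interval_cases i <;> decide +kernel)
  rw [eq_top_iff, ← C.gen]
  exact SlpTo.gp_le (SlpTo.step C.M C.base (by decide +kernel) h0 g_s0) (by decide +kernel)

end Cfsg.Agent.LyO
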