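import Cfsg.Agent.LyO.OutU
import Cfsg.Agent.CGT.Out3

set_option autoImplicit false
set_option Elab.async false
set_option maxRecDepth 100000
set_option linter.all false
open Cfsg.Agent.LyC

namespace Cfsg.Agent.LyO
open Cfsg.Agent.CGT

noncomputable def od : OutD := ⟨15, m_ts, (chainBase [] c_ls), [10, 6, 1, 11, 0, 7], [14, 1, 8, 13, 7, 15, 0, 2, 8], [7, 19, 17, 12, 14, 8, 13, 6], [14, 1, 8, 13, 7, 15, 0, 2, 8], 31, 6, 1, 5, 5, [1, 2, 3, 4, 8], [[14, 1, 5, 8, 14, 7, 19, 15, 2], [15, 13, 7, 13, 3, 13, 4, 3, 0], [8, 2, 2, 8, 6, 15, 2, 8, 0], [18, 8, 4, 4, 13, 6, 14, 13, 8, 2], [6, 0, 8, 4, 8, 6, 2, 13, 13]], [[1, 4, 1, 2, 1, 4, 1, 2, 1, 4, 1, 2, 1, 4, 1, 2, 1, 4, 1, 2]], [[[10, 6, 1, 11, 0, 7], [14, 1, 8, 13, 7, 15, 0, 2, 8], [7, 19, 17, 12, 14, 8, 13, 6]]]⟩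
theorem od_b : od.basic 5859000000 0 = true := by decide +kernel
theorem od_c : conjB 15 m_ts (chainBase [] c_ls) [] od.u cu_S.u od.Cl cu_S.Cl = true := by decide +kernel
theorem od_k1_0 : od.cands 1 ((([] :: od.Cl).drop 0).take 6) [[0, 1, 1, 1, 1, 1], [1, 1, 1, 1, 1, 1], [1, 1, 1, 1, 1, 1], [1, 1, 1, 1, 1, 1], [1, 1, 1, 1, 1, 1], [1, 1, 1, 1, 1, 1]] = true := by decide +kernel
theorem od_k2_0 : od.cands 2 ((([] :: od.Cl).drop 0).take 6) [[1, 1, 1, 1, 1, 1], [1, 1, 1, 1, 1, 1], [1, 1, 1, 1, 1, 1], [1, 1, 1, 1, 1, 1], [1, 1, 1, 1, 1, 1], [1, 1, 1, 1, 1, 1]] = true := by decide +kernel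
theorem od_k3_0 : od.cands 3 ((([] :: od.Cl).drop 0).take 6) [[1, 1, 1, 1, 1, 1], [1, 1, 1, 1, 1, 1], [1, 1, 1, 1, 1, 1], [1, 1, 1, 1, 1, 1], [1, 1, 1, 1, 1, 1], [1, 1, 1, 1, 1, 1]] = true := by decide +kernel
theorem od_k4_0 : od.cands 4 ((([] :: od.Cl).drop 0).take 6) [[1, 1, 1, 1, 1, 1], [1, 1, 1, 1, 1, 1], [1, 1, 1, 1, 1, 1], [1, 1, 1, 1, 1, 1], [1, 1, 1, 1, 1, 1], [1, 1, 1, 1, 1, 1]] = true := by decide +kernel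
theorem od_k8_0 : od.cands 8 ((([] :: od.Cl).drop 0).take 6) [[1, 1, 1, 1, 1, 1], [1, 1, 1, 1, 1, 1], [1, 1, 1, 1, 1, 1], [1, 1, 1, 1, 1, 1], [1, 1, 1, 1, 1, 1], [1, 1, 1, 1, 1, 1]] = true := by decide +kernel

end Cfsg.Agent.LyO
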