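import Cfsg.Agent.LyO.OutX
import Cfsg.Agent.LyO.OutK
import Cfsg.Agent.LyO.OutG

set_option autoImplicit false
set_option Elab.async false
set_option maxRecDepth 100000
set_option linter.all false
open Cfsg.Agent.LyC

namespace Cfsg.Agent.LyO
open Cfsg.Agent.CGT

theorem out_card {G : Type*} [Group G] {φ : G →* Equiv.Perm ℕ} {γ : ℕ → G} (C : Cert φ γ 15 m_ns m_ts [0, 2, 4, 6, 8, 10, 12, 14, 16, 18] c_ls)
    (hN : Nat.card G = 5859000000) : Nat.card (Cfsg.Out G) = 1 :=
  haveI := C.fin
  OutD.out_one (D := od) C.M C.base hN (by norm_num [od]) od_b (cx_cent C) ((cu_cent C).conj C.M C.base od_c)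
    (by
    intro k hk
    simp only [od, List.mem_cons, List.not_mem_nil, or_false] at hk
    rcases hk with rfl | rfl | rfl | rfl | rfl
    exacts [forall_of_take (forall_take_step (c := 6) (forall_take_zero _) (OutD.cands_sound C.M C.base od_b od_k1_0) rfl) (by decide +kernel), forall_of_take (forall_take_step (c := 6) (forall_take_zero _) (OutD.cands_sound C.M C.base od_b od_k2_0) rfl) (by decide +kernel), forall_of_take (forall_take_step (c := 6) (forall_take_zero _) (OutD.cands_sound C.M C.base od_b od_k3_0) rfl) (by decide +kernel), forall_of_take (forall_take_step (c := 6) (forall_take_zero _) (OutD.cands_sound C.M C.base od_b od_k4_0) rfl) (by decide +kernel), forall_of_take (forall_take_step (c := 6) (forall_take_zero _) (OutD.cands_sound C.M C.base od_b od_k8_0) rfl) (by decide +kernel)]) (g_top C) rfl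
theorem out_K : Nat.card (Cfsg.Out K) = 1 := by
  obtain ⟨φ, C⟩ := cert
  exact out_card C card_eq

end Cfsg.Agent.LyO
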