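import Cfsg.Agent.LyO.Data
import Cfsg.Agent.LyO.OutC

set_option autoImplicit false
set_option maxRecDepth 100000
set_option linter.all false

/-! The local facts in `G₂(5)`. -/

namespace Cfsg.Agent.LyO

open Cfsg.Agent.CGT Cfsg.Agent.LyC Subgroup Equiv
open scoped commutatorElement

theorem inner_of_out {G : Type*} [Group G] (h : Nat.card (Cfsg.Out G) = 1) (β : MulAut G) :
    ∃ g, ∀ x, β x = g * x * g⁻¹ := by
  haveI := (Nat.card_eq_one_iff_unique.1 h).1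
  obtain ⟨g, hg⟩ := (QuotientGroup.eq_one_iff β).1 (Subsingleton.elim (β : Cfsg.Out G) 1)
  exact ⟨g, fun x => by rw [← hg]; rfl⟩

variable {φ : K →* Perm ℕ} (C : Cert φ γ 15 m_ns m_ts [0, 2, 4, 6, 8, 10, 12, 14, 16, 18] c_ls)
include C

theorem mo : Mo φ γ 15 m_ns m_ts bB := ⟨C.M, C.base, by decide +kernel, C.fin⟩

theorem pt : Pt φ γ 15 m_ns m_ts bB LW 0 c_l0.O :=
  ⟨mo C, by norm_num, fun h => ⟨stab C h, fun hh => (gw_le (H := St φ ⊤ [0]) (fun u hu =>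
    ⟨trivial, fixesB_sound C.M (by decide +kernel) (allL_iff.1 d_Lf u hu)⟩) hh).2 0 (by simp)⟩,
    C.orbit0.2⟩

theorem pc : Mo.PC γ (gw γ PW) PW := (mo C).pc d_pc le_rfl

theorem c2 : ⁅gw γ PW, gw γ PW⁆ = gw γ E2 :=
  le_antisymm ((mo C).comm d_C2 (pc C).2.2.1.1 (pc C).2.2.1.1) ((mo C).ge d_g2)

theorem c4 : ⁅⁅⁅gw γ PW, gw γ PW⁆, gw γ PW⁆, gw γ PW⁆ = gw γ E4 := by
  rw [c2 C, show ⁅gw γ E2, gw γ PW⁆ = gw γ E3 from le_antisymm (pc C).2.2.1.2.2 ((mo C).ge d_g3)]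
  exact le_antisymm (pc C).2.2.2.1.2.2 ((mo C).ge d_g4)

theorem ovrK {Y : Subgroup K} (hL : gw γ LW ≤ Y) {x : K} (hx : x ∈ Y) :
    x ∈ gw γ LW ∨ (ev (ext γ) [2] ∈ Y ∧ x ∈ gw γ P1W) ∨ Y = ⊤ :=
  (pt C).ovr d_ov d_tr ((mo C).le d_LP1) (ev_mem_gw γ (by decide +kernel)) hL hx

theorem simpleK (N : Subgroup K) [N.Normal] : N = ⊥ ∨ N = ⊤ := by
  refine simple_of (c := ev (ext γ) [18]) (u := ev (ext γ) [11]) (v := ev (ext γ) [13])
    ((mo C).le d_LP1) (fun Y hY x hx => ?_) ?_ ?_ (fun N hN hc => ?_) ?_ ((pt C).cent d_cen) N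
  · rcases ovrK C hY hx with h | h | h
    · exact .inl ((mo C).le d_LP1 h)
    · exact .inl h.2
    · exact .inr h
  · have := (mo C).norms d_nZ
    rwa [E5, gw_cons, gw_nil, sup_bot_eq] at this
  · rw [← ev_pw]; exact (mo C).eq d_c5
  · rw [eq_top_iff, ← LyC.g_top C]
    exact gw_le ((mo C).ncl d_n2 hN ((mo C).ncl d_n1 hN hc _ List.mem_cons_self))
  · rw [← ev_cm]; exact (mo C).eq d_cc

theorem cosK : ∀ x ∈ gw γ P1W, ∃ t ∈ TJ, (ev (ext γ) t)⁻¹ * x ∈ normalizer (gw γ PW : Set K) :=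
  (mo C).cos d_cos List.mem_cons_self

theorem locK : LocK (gw γ LW) (gw γ PW) (gw γ QW) (gw γ RW) (gw γ P1W) (gw γ E4)
    (gw γ (EU.map (xp dd.TW))) (gw γ (QU.map (xp dd.TW))) (ev (ext γ) [0]) (ev (ext γ) [2])
    (ev (ext γ) [8]) (ev (ext γ) (xp LW lU)) (ev (ext γ) (xp dd.TW lU)) (ev (ext γ) '' {t | t ∈ TJ}) := by
  have m := mo C
  have p := pt C
  have q := pc C
  have QP : gw γ QW ≤ gw γ PW := gw_tail γ _ _
  have bP : ev (ext γ) [2] ∈ gw γ PW := ev_mem_gw γ List.mem_cons_self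
  have cb : ∀ t : List ℕ, movB 15 m_ts (cm (cj (app (invW t) (app (xp dd.TW lU) t)) [2]) [2]) 0 = true →
      ⁅(ev (ext γ) t)⁻¹ * ev (ext γ) (xp dd.TW lU) * ev (ext γ) t * ev (ext γ) [2] *
        ((ev (ext γ) t)⁻¹ * ev (ext γ) (xp dd.TW lU) * ev (ext γ) t)⁻¹, ev (ext γ) [2]⁆ ∉ gw γ LW :=
    fun t h => by
      have := p.notL h
      rwa [ev_cm, ev_cj, ev_app, ev_app, ev_invW, ← mul_assoc] at this
  refine ⟨m.le d_LP1, bP, m.le d_PP1, ev_mem_gw γ List.mem_cons_self, ?_, ?_, p.notL d_bL, m.le d_QL,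
    QP, m.le d_RP, (c2 C).le.trans (gw_tail γ _ _), (c2 C).le.trans (gw_tail γ _ _), ?_, ?_,
    m.norm d_eN, m.norm d_aN, q.2.1.1 bP, m.le d_QQ, ?_, ?_, c4 C, xp_gw γ _ _, m.norm d_lN, ?_, ?_, ?_,
    p.NL d_fL, p.cent d_cen, q.1.2.1, ?_, inner_of_out out_K⟩
  · intro h hh
    obtain ⟨r, hr, e⟩ := p.fixR d_fE (h := h) fun u hu => hh _ ((c2 C).ge (ev_mem_gw γ hu))
    obtain ⟨i, -, rfl⟩ := List.mem_map.1 hr
    exact ⟨i, by rwa [ev_pw] at e⟩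
  · rw [PW, gw_cons]
    exact inf_le_of_five (by rw [← ev_pw]; exact m.eq d_b5) (p.notL d_bL) (m.le d_QL) (q.2.1.1 bP)
  · rw [eq_bot_iff, ← gw_nil γ]
    exact (commutator_mono (m.comm d_Qc (QP.trans q.2.2.2.2.2.1.1) (QP.trans q.2.2.2.2.2.1.1)) QP).trans
      q.2.2.2.2.2.1.2.2
  · intro h
    refine m.ne d_Rc (mem_bot.1 (h.le ?_))
    rw [ev_cm, ev_cm]
    exact commutator_mem_commutator (commutator_mem_commutator (xp_gw γ _ _) (xp_gw γ _ _)) (xp_gw γ _ _)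
  · intro x hx
    obtain ⟨t, ht, h⟩ := cosK C x hx
    exact ⟨_, ⟨t, ht, rfl⟩, h⟩
  · rintro _ ⟨t, ht, rfl⟩
    have h : ∀ i, ∃ p ∈ gw γ PW, ev (ext γ) (app (pw [2] i) [0]) = p * ev (ext γ) [0] := fun i =>
      ⟨_, pow_mem bP i, by rw [ev_app, ev_pw]⟩
    simp only [TJ, Set.mem_setOf_eq, List.mem_cons, List.not_mem_nil, or_false] at ht
    rcases ht with rfl | rfl | rfl | rfl | rfl | rfl
    exacts [.inl (one_mem _), .inr (h 0), .inr (h 1), .inr (h 2), .inr (h 3), .inr (h 4)]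
  · rintro _ ⟨t, ht, rfl⟩
    simp only [TJ, Set.mem_setOf_eq, List.mem_cons, List.not_mem_nil, or_false] at ht
    rcases ht with rfl | rfl | rfl | rfl | rfl | rfl
    exacts [.inl fun x hx y hy => m.commute d_ca0 hx (conj_gw γ _ hy), .inr (cb _ d_cb1),
      .inl fun x hx y hy => m.commute d_ca2 hx (conj_gw γ _ hy), .inr (cb _ d_cb3), .inr (cb _ d_cb4),
      .inr (cb _ d_cb5)]
  · refine ⟨_, xp_gw γ E4 [0], _, xp_gw γ E4 [0], fun h => m.ne d_nc ?_⟩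
    rw [ev_cm, ev_cj]
    exact h.commutator_eq
  · intro Y h1 h2 h3
    rw [eq_top_iff, ← C.gen]
    refine gp_le fun a ha => ?_
    rw [← ev_singleton (ext γ)]
    refine m.sub' d_gen (fun u hu => ?_) _ (List.mem_map_of_mem (f := fun a => [a]) ha)
    rcases List.mem_cons.1 hu with rfl | hu
    · exact h1
    rcases List.mem_cons.1 hu with rfl | hu
    · exact h2
    · exact h3 (ev_mem_gw γ hu)
  · intro S hS h
    haveI := C.fin
    haveI : Fact (Nat.Prime 5) := ⟨by norm_num⟩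
    have h1 := (chain_gw C.M d_pl1 d_pl2).le_card
    rw [St_nil] at h1
    obtain ⟨n, hn⟩ := hS.exists_card_eq
    have h2 := S.card_subgroup_dvd_card
    rw [card_eq, hn] at h2
    have h3 : n ≤ 6 := by
      by_contra h3
      exact absurd ((Nat.pow_dvd_pow 5 (by omega : 7 ≤ n)).trans h2) (by norm_num)
    refine (eq_of_le_of_card_ge h (hn.le.trans ((Nat.pow_le_pow_right (by norm_num) h3).trans
      (le_trans ?_ h1)))).ge
    decide +kernel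

end Cfsg.Agent.LyO
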