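import Cfsg.Agent.LyO.KF
import Cfsg.Agent.LyC.Main

set_option autoImplicit false
set_option maxRecDepth 100000
set_option linter.all false

/-! The outer automorphism group of the Lyons group. -/

namespace Cfsg.Agent.LyO

open Cfsg.Agent.CGT Cfsg.Agent.LyC Subgroup Equiv
open scoped commutatorElement

section
variable {G A : Type} [Group G] [CommGroup A] {X : Ctx K G A} (s : Sit dd X m_ns 112 0 c_l0.O)
  (C : Cert X.φ γ 15 m_ns m_ts [0, 2, 4, 6, 8, 10, 12, 14, 16, 18] c_ls) (hγ : X.γ = γ)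
include s

theorem zz : X.z * X.z ∈ X.H := s.z2.resolve_right (fun h => h rfl)

theorem rel0 : X.z * X.s [3, 3, 0, 2, 2] * (X.z * X.s [3, 3, 0, 2, 2] *
    (X.z * X.s [0, 0, 3, 3, 0, 2, 2] * 1)) = 1 := (s.hy.rel 0).trans (s.τ _)

include C hγ

theorem notH (inj : Function.Injective X.σ) : X.z ∉ X.H := by
  intro h
  obtain ⟨k, hk⟩ := s.rg.le h
  have p := pt C
  have h1 : k⁻¹ * ev (ext γ) (xp LW zU) * k = ev (ext γ) (xp dd.TW zU) := inj (by
    rw [map_mul, map_mul, map_inv, hk, ← hγ]; exact s.pushW zU)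
  have h2 : ∀ r ∈ [[], z1, z2], ∃ u ∈ [[], z0], (ev (ext γ) u)⁻¹ * (k * ev (ext γ) r) ∈ gw γ LW :=
    fun r hr => p.fixR d_z0 fun u hu => by
      have h3 := p.inL (allL_iff.1 d_z1 r hr)
      rw [ev_cj, ev_invW, ← h1] at h3
      rw [List.mem_singleton.1 hu]
      convert h3 using 1
      group
  have h3 : ∀ {r r' : List ℕ} {u : K}, movB 15 m_ts (app (invW r) r') 0 = true →
      u⁻¹ * (k * ev (ext γ) r) ∈ gw γ LW → u⁻¹ * (k * ev (ext γ) r') ∈ gw γ LW → False :=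
    fun h h4 h5 => p.notL h (by
      rw [ev_app, ev_invW]
      convert mul_mem (inv_mem h4) h5 using 1
      group)
  have h4 := d_z2
  simp only [Bool.and_eq_true] at h4
  obtain ⟨u0, a0, b0⟩ := h2 [] (by simp)
  obtain ⟨u1, a1, b1⟩ := h2 z1 (by simp)
  obtain ⟨u2, a2, b2⟩ := h2 z2 (by simp)
  simp only [List.mem_cons, List.not_mem_nil, or_false] at a0 a1 a2
  rcases a0 with rfl | rfl <;> rcases a1 with rfl | rfl <;> rcases a2 with rfl | rfl <;>
    first | exact h3 h4.1 b0 b1 | exact h3 h4.2.1 b0 b2 | exact h3 h4.2.2 b1 b2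

theorem stabG (hz : X.z ∉ X.H) (k : K) (hk : X.z⁻¹ * X.σ k * X.z ∈ X.H) : k ∈ gw γ LW := by
  have hL : gw γ LW ≤ TS X.H X.σ X.z := fun l hl => s.push (by rw [hγ]; exact hl)
  have h1 : ev (ext γ) [2] ∉ TS X.H X.σ X.z := fun h => by
    have h2 : X.z⁻¹ * X.s [3, 3, 0, 2, 2] * X.z ∈ X.H := by
      rw [Ctx.s, hγ]
      refine (mo C).sub' d_a4 (U := TS X.H X.σ X.z) (fun u hu => ?_) _ List.mem_cons_self
      rcases List.mem_cons.1 hu with rfl | hu
      · exact h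
      · exact hL (ev_mem_gw γ hu)
    have h3 := X.H.mul_mem (X.H.mul_mem (zz s) h2) (s.hy.sub (ev (ext X.γ) [3, 3, 0, 2, 2]))
    have h4 := X.H.mul_mem (X.H.inv_mem h3) (X.H.inv_mem (s.hy.sub (ev (ext X.γ) [0, 0, 3, 3, 0, 2, 2])))
    refine hz ?_
    convert h4 using 1
    rw [← mul_inv_rev, eq_inv_iff_mul_eq_one, mul_eq_one_comm, mul_assoc, mul_eq_one_comm, ← rel0 s]
    simp only [Ctx.s]
    group
  rcases ovrK C hL hk with h | h | h
  · exact h
  · exact absurd h.1 h1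
  · exact absurd (h.ge (mem_top _)) h1

theorem fixG (hz : X.z ∉ X.H) (hX : ∀ g, dd.InX X [0, 1, 2, 3, 4] g) (g : G)
    (hg : ∀ k ∈ gw γ E2, g⁻¹ * X.σ k * g ∈ X.H) : g ∈ X.H ∨ DC X.H X.z g := by
  obtain ⟨d, hd, h, h1⟩ := hX g
  have st : ∀ k, X.z⁻¹ * X.σ k * X.z ∈ X.H → k ∈ gw X.γ dd.LW := fun k hk => by
    rw [hγ]; exact stabG s C hγ hz k hk
  have a1 := s.dc1 (zz s) d_r1
  have aN : ∀ e ∈ [2, 3, 4], ¬ DC X.H X.z (dd.W X e) := by
    simp only [List.forall_mem_cons, List.not_mem_nil, IsEmpty.forall_iff, implies_true, and_true]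
    exact ⟨s.bad st d_bad2, s.bad st d_bad3, s.bad st d_bad4⟩
  have ac : ∀ l ∈ gw X.γ dd.LW, ∃ t ∈ TJ, (ev (ext X.γ) t)⁻¹ * l ∈ normalizer (gw X.γ E2 : Set K) := by
    rw [hγ]
    intro l hl
    obtain ⟨t, ht, h⟩ := cosK C l ((mo C).le d_LP1 hl)
    exact ⟨t, ht, c2 C ▸ norm_comm h h⟩
  have h2 : ∀ x ∈ gw X.γ E2, h⁻¹ * x * h ∈ TS X.H X.σ (dd.W X d) := fun x hx => by
    show _ ∈ X.H
    convert X.H.mul_mem (X.H.mul_mem h1 (hg x (hγ ▸ hx))) (X.H.inv_mem h1) using 1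
    rw [map_mul, map_mul, map_inv]; group
  simp only [List.mem_cons, List.not_mem_nil, or_false] at hd
  rcases hd with rfl | rfl | rfl | rfl | rfl
  · rw [Dce.W_zero] at h1
    exact .inl (by simpa using X.H.mul_mem (s.hy.sub h) h1)
  · exact .inr (by simpa only [mul_inv_cancel_left] using a1.mul (s.hy.sub h) h1)
  · exact absurd h2 (s.node a1 aN ac d_nf2 h)
  · exact absurd h2 (s.node a1 aN ac d_nf3 h)
  · exact absurd h2 (s.node a1 aN ac d_nf4 h)

theorem innerG [Finite G] (hX : ∀ g, dd.InX X [0, 1, 2, 3, 4] g)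
    (hg : closure (Set.range X.σ ∪ {X.z}) = ⊤) (α : MulAut G) : ∃ g, MulAut.conj g * α = 1 := by
  have top : ∀ Y : Subgroup G, X.σ.range ≤ Y → X.z ∈ Y → Y = ⊤ := fun Y h1 h2 => by
    rw [eq_top_iff, ← hg, closure_le]
    rintro _ (⟨k, rfl⟩ | rfl)
    exacts [h1 ⟨k, rfl⟩, h2]
  rcases simpleK C X.σ.ker with h | h
  · have inj := (MonoidHom.ker_eq_bot_iff _).1 h
    have hz := notH s C hγ inj
    refine ((locK C).loc inj (s.rg ▸ hz) (s.rg ▸ zz s) (fun k => ?_) (fun g hg => ?_) ?_ ?_ ?_ top).inner α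
    · rw [← s.rg]
      exact ⟨stabG s C hγ hz k, fun h => s.push (by rw [hγ]; exact h)⟩
    · rw [← s.rg] at hg ⊢
      exact fixG s C hγ hz hX g (c2 C ▸ hg)
    · have := s.pushG QU
      rwa [hγ, show QU.map (xp dd.LW) = QW by decide +kernel] at this
    · have := s.pushG EU
      rwa [hγ, show EU.map (xp dd.LW) = E4 by decide +kernel] at this
    · have := s.pushW lU
      rwa [hγ] at this
  · have h1 : ∀ k, X.σ k = 1 := fun k => h.ge (mem_top k)
    have h2 := rel0 s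
    obtain ⟨k, h3⟩ := s.rg.le (zz s)
    simp only [Ctx.s, h1, mul_one] at h2 h3
    rw [← h3, mul_one] at h2
    have h4 := top ⊥ (by rintro _ ⟨k, rfl⟩; exact h1 k) h2
    refine ⟨1, MulEquiv.ext fun x => ?_⟩
    rw [mem_bot.1 (h4.ge (mem_top x)), map_one, map_one]

end

theorem out_Ly : Nat.card (Cfsg.Out Cfsg.Spor.Ly) = 1 := by
  obtain ⟨φ, C⟩ := cert
  haveI := C.fin
  obtain ⟨ρ, hρ⟩ := rho
  have hW := pres_wd hD (fun j hj => by
    rw [δ, pγ, List.getElem?_eq_none (show gens.length ≤ j from hj)]) hP hρ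
  have hZ : Holds (ext (zt ρ γ (δ 4))) ZR := pres_zr hD hW (by decide +kernel)
  have hg := pres_gen_zt (pres_gen gens_all _ _ (L := (List.range 39).map (2 * ·))
    (by decide +kernel)) hW
  have hy : dd.Hyp (Dce.ctx0.{0, 0, 0} φ γ ρ (δ 4) ρ.range) m_ns :=
    Dce.hyp0 (D := dd) (H := ρ.range) C.M C.base (by decide +kernel) (fun h => ⟨h, rfl⟩) hZ hH
  have hA : ∀ a, (Dce.ctx0.{0, 0, 0} φ γ ρ (δ 4) ρ.range).ι a ∈ ρ.range := fun _ => ρ.range.one_mem
  haveI : Finite (Dce.ctx0.{0, 0, 0} φ γ ρ (δ 4) ρ.range).H :=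
    Finite.of_surjective _ ρ.rangeRestrict_surjective
  have hX := fun g => Dce.all_inX hy hA (by decide) (dd_all hy hA (stab C) C.orbit0.2) hg.ge
    (Subgroup.mem_top g)
  haveI : Finite Cfsg.Spor.Ly := Dce.finite_of_inX hX
  exact card_out_eq_one (innerG ⟨hy, dd_up hy, fun _ => rfl, rfl, pt C⟩ C rfl hX hg)

end Cfsg.Agent.LyO
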