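import Cfsg.Agent.LyC.Cert
import Cfsg.Agent.CGT.Out

set_option autoImplicit false
set_option Elab.async false
set_option maxRecDepth 100000
set_option linter.all false
open Cfsg.Agent.LyC

namespace Cfsg.Agent.LyO
open Cfsg.Agent.CGT

noncomputable def cu_l0 : Level := ⟨0, [[0], [2], [4], [6], [8], [10], [12], [14], [16], [18]], [1, 3, 4, 2, 6, 3, 0, 8, 4, 2, 3, 7, 6, 0, 8, 1, 3, 9, 0], 0x3fffffffffffffffffffffffffffffffffffffffffffffffffffffffffffffffffffffffffffffffffffffffffffffffffffffffffffffffffffffffffffffffffffffffffffffffffffffffffffffffffffffffffffffffffffffffffffffffffffffffffffffffffffffffffffffffffffffffffffffffffffffffffffffffffffffffffffffffffffffffffffffffffffffffffffffffffffffffffffffffffffffffffffffffffffffffffffffffffffffffffffffffffffffffffffffffffffffffffffffffffffffffffffffffffffffffffffffffffffffffffffffffffffffffffffffffffffff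ffffffffffffffffffffffffffffffffffffffffffffffffffffffffffffffffffffffffffffffffffffffffffffffffffffffffffffffffffffffffffffffffffffffffffffffffffffffffffffffffffffffffffffffffffffffffffffffffffffffffffffffffffffffffffffffffffffffffffffffffffffffffffffffffffffffffffffffffffffffffffffffffffffffffffffffffffffffffffffffffffffffffffffffffffffffffffffffffffffffffffffffffffffffffffffffffffffffffffffffffffffffffffffffffffffffffffffffffffffffffffffffffffffffffffffffffffffffffffffffffffffffffffffffffffffffffffffffffffffffffffffffffffffffffffffffffffffffffffffffffffffffffffffffffffffffffffffffffffffffffffffffffffffffffffffffffffffffffffffffffffffffffffffffffffffffffffffffffffffffffffffffffffffffffffffffffffffffffffffffffffffffffffffffffffffffffffffffffffffffffffffffffffffffffffffffffffffffffffffffffffffffffffffffffffffffffffffffffffffffffffffffffffffffffffffffff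ffffffffffffffffffffffffffffffffffffffffffffffffffffffffffffffffffffffffffffffffffffffffffffffffffffffffffffffffffffffffffffffffffffffffffffffffffffffffffffffffffffffffffffffffffffffffffffffffffffffffffffffffffffffffffffffffffffffffffffffffffffffffffffffffffffffffffffffffffffffffffffffffffffffffffffffffffffffffffffffffffffffffffffffffffffffffffffffffffffffffffffffffffffffffffffffffffffffffffffffffffffffffffffffffffffffffffffffffffffffffffffffffffffffffffffffffffffffffffffffffffffffffffffffffffffffffffffffffffffffffffffffffffffffffffffffffffffffffffffffffffffffffffffffffffffffffffffffffffffffffffffffffffffffffffffffffffffffffffffffffffffffffffffffffffffffffffffffffffffffffffffffffffffffffffffffffffffffffffffffffffffffffffffffffffffffffffffffffffffffffffffffffffffffffffffffffffffffffffffffffffffffffffffffffffffffffffffffffffffffffffffffffffffffffffffffff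ffffffffffffffffffffffffffffffffffffffffffffffffffffffffffffffffffffffffffffffffffffffffffffffffffffffffffffffffffffffffffffffffffffffffffffffffffffffffffffffffffffffffffffffffffffffffffffffffffffffffffffffffffffffffffffffffffffffffffffffffffffffffffffffffffffffffffffffffffffffffffffffffffffffffffffffffffffffffffffffffffffffffffffffffffffffffffffffffffffffffffffffffffffffffffffffffffffffffffffffffffffffffffffffffffffffffffffffffffffffffffffffffffffffffffffffffffffffffffffffffffffffffffffffffffffffffffffffffffffffffffffffffffffffffffffffffffffffffffffffffffffffffffffffffffffffffffffffffffffffffffffffffffffffffffffffffffffffffffffffffffffffffffffffffffffffffffffffffffffffffffffffffffffffffffffffffffffffffffffffffffffffffffffffffffffffffffffffffffffffffffffffffffffffffffffffffffffffffffffffffffffffffffffffffffffffffffffffffffffffffffffffffffffffffffffffff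ffffffffffffffffffffffffffffffffffffffffffffffffffffffffffffffffffffffffffffffffffffffffffffffffffffffffffffffffffffffffffffffffffffffffffffffffffffffffffffffffffffffffffffffffffffffffffffffffffffffffffffffffffffffffffffffffffffffffffffffffffffffffffffffffffffffffffffffffffffffffffffffffffffffffffffffffffffffffffffffffffffffffffffffffffffffffffffffffffffffffffffffffffffffffffffffffffffffffffffffffffffffffffffffffffffffffffffffffffffffffffffffffffffffffffffffffffffffffffffffffffffffffffffffffffffffffffffffffffffffffffffffffffffffffffffffffffffffffffffffffffffffffffffffffffffffffffffffffffffffffffffffffffffffffffffffffffffffffffffffffffffffffffffffffffffffffffffffffffffffffffffffffffffffffffffffffffffffffffffffffffffffffffffffffffffffffffffffffffffffffffffffffffffffffffffffffffffffffffffffffffffffffffffffffffffffffffffffffffffffffffffffffffffffffffffffff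fffffffffffffffffffffffffffffffffffffffffffffffffffffffffffffffffffffffffffffffffffffffffffffffffffffffffffffffffffffffffffffffffffffffffffffffffffffffffffffffffffffffffffffffffffffffffffffffffffffffffffffffffffffffffffffffffffffffffffffffffffffffffffffffffffffffffffffffffffffffffffffffffffffffffffffffffffffffffffffffffffffffffffffffffffffffffffffffffffffffffffffffffffffffffffffffffffffffffffffffffffffffffffffffffffffffffffffffffffffffffffffffffffffffffffffffffffffffffffffffffffffffffffffffffffffffffffffffffffffffffffffffffffffffffffffffffffffffffffffffffffffffffffffffffffffffffffffffffffffffffffffffffffffffffffffffffffffffffffffffffffffffffffffffffffffffffffffffffffffffffffffffffffffffffffffffffffffffffffffffffffffffffffffffffffffffffffffffffffffffffffffffffffffffffffffffffffffffffffffffffffffffffffffffffffffffffffffffffffffffffffffffffffffffffffffffffffffffffffffffffffffffffffffffffffffffffffffffffffffffffffffffffffffffffffffffffffffffffffff,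 19530⟩
noncomputable def cu_l1 : Level := ⟨18485, [[10], [12], [14], [16], [18], [0], [2, 0, 3], [2, 2, 0, 3, 3]], [0, 1, 2, 3, 4, 5, 0, 2, 3, 5, 2, 3, 0, 6, 5, 3, 7, 0], 0x3fffffffff67fffffbffffffeffffffffffbfffff84fdfffff9fffffffffdbffff7fffffffffeff9efef7f876eff6b7ffffffff7ffff7fffffff7bfff5fffdfffef7b9ffa7fff8dfdffffffffff87effe3ffff8fffffffffffffffffffffff0ffff9f9e17fffffffa7ffffffef7ffffff9ffff7fffb2cf3ffffd53fbf7edf065fffffffffbf197fffefffffbfcffffffffff07ffdd1c8ffee5277e4f7fec7afffffffffffffffcffffffffffffbfff7f7ddf67ffffff5f7e0ffffedfeff33f7bffffff1dfbefffffffff7fc3ffe17ffffe6feb0078ffffffffe0ccfc77c1cf6c7f5c733fff7fffffdefffffffff7ffffa7fff77ffffc07fee5fbfec1b2002dccf7dfffdffff9d9ffffffffffe0f11fffede31fc34bf8c3bfff7937ff9e7f07f36e0ffffaf7ffff33ffe57fc8cff13be3fffe1e5c1c14980d107935b5fd27ffffffffffef7ff81d27fe38397b887ffffdfffdfcffffffff706f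fdffffbdfffffffff83ffffffffee67fffe9ffe1ffffffffffffffffffffbff66fffdffffbffffdfffffffffdfc3fff4fbfdfdfeffffffffffff7ff5ffffffebfffffffffe0ffffffbfffffffbff3ffffffffd0001fffecfbfffffffffbffffffffffbff9fbff037fff83ffffbfffef3ffffbcffffffefff84007ffffffffef7ffffffffa07f038afff70cf3ffbffffffffffffffefffffffeffffbfffffdfeffffdfeffffbffffffffffffffe61ffffefffbfffcffffeffffffffbfffbfffffffffffffffeff7fb7bfff9fe7fffbfffffffffffffbfffffffffffffffffffffffffffffff7ffffffffffffffffffffffffffffffffffffffb800061ffe3619ffcd0060b0080c2d43fdf6fffbff9fff9a3bfffdffe4fffffeffffff7feffffefcfff3fc830c3eefefffeec047bfffec683ffe7fff9ef9bffdfefc3ffffddffbffffbff7ffff7817ff83fffffffccfffffffbfffbffcff97e9f263fffffc4207fffff7ffe51ffffffffff3e16fffffffffffafffbffffffff7ffffe1400ffc1ffef7f7fffaff2a603fffffffffffeffffffffffffffffffffbfffffffffffdffffffffffffffffffabfff9ffdf3fbbfdf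ff3feff63afe3857ffffffffff7ffffffbffd807bf2e3f9cc7ffbfb36d30b963f092ffc00f8472377f004f57f982f3298f5f7fffdffffdffbffffffffffffdffcbffc59ff465ff5fdefffff0bff90d3fffedbfffff9ff87ffff9ffffbd93ffff3ffffc005e77f79fffffff7ffffff897fffffffeffffee2fffbd8e8fa015d8fff9bffbc1ff7fffffffa17fbffffeff7fffffffc9fffffffffc1fffffffffffffffffffffffffffffff9ffffffdffeff08e9ffffff7ffffffefffffffffff3f1ffffe0a4226840ffffffbffffdffffffffcfffffff9c1000060000030000037ffcff633e22c02600007fe60005e6000000ffffb0c0200b7f8e37fd4fff600000c3f194084070eea04079fff1800cfa0844723ff38fffbf00020df800003320c3ffc016190000586004140250c484788b908c45ac76388183ff86060181916fffffffe6ffffff88511309fffffc929fd1c1fff8e67fe38cdb1bfc7ffe16230603fffffe7079813ffa0e003e580201e7c021c23fbdfdbc7fffffdfffbfe9ffffc08fffdfdffc102191a336f9f8fffce133960408e00040e0eb187c373379ffff105ffcfff8800183ffffee16020e3130a00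fffffffff87ffff7f80250c3df082603ff80fffe87ff964e6f0cb6021ffff7fc1f193671ccc06db8bfc4077fff1e57ffffffffe520e47fff806c400001fce0003802060877f800332061f7ee1f1ceffffec27ff38fffefffffcc0fbf7edfd0c68618d801f7318d8d80fbfffffffdd005fff01f860e0121be6cbf8181c885ffe1f223207fe4bf840b7fffffffefff7fffffffffe7cdfffffd1017fcfa8d8fffffffffffffdfffffffffffffff7effffffffbffbfffff6ff7fffdc01bffffe701381fff95c7fe0303c88e0e7f3e001ff0203e070e7ff820481bfe00180608ffff19e71c398e068574228000b9fb8c620000fff885700fffc1dde07047f9fffffc47206fffe0007fffbffffffbfff785ffffffffaf3fdfdfffcffffff083fff3fbfb80220901fff987fffffe3810e316ffffff03840c8cc7ffdf800918600ffffff430d181c38b0fe00030200027388060007fff7fee10180000dff7fffbfbf7ff030ffd9ffffffe7fefffff860fff0800000320fe44003901c0302007fffff030c038810804078c038170610460001b381c02c080401c3871fffffff000e1811880380301061ffffff01c0186007c0c01f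80490001fdc840008003fe383850218e0600fec0984c00405860000ff0261381080040fef83ffff8f08414023fff87ffffc1b30c2710407fbfe1806063018008010430984829415fef885ffffec3fdfff1f7e01fffd8e6c030080033efe30cff8783e601a38e0c3ffec09fdf838e180800c38cc060ffd1b3ff0730180ce381a061d80007dffe667f780cc3361083a0903901bfffffffd873ffff9f079c00220081c03ff3f041023dffdf056c38000380380006010082070060180028000000001003ffc003a000c0401800ffc00130681801c060461c01802013c24020420197fff8001c003feffec60c001fe6fdfdfe003f7f7fbfeffbcfcfdfdb0c003fff8ffffcffedf7fffdeff40c3efffefff77f7fbffdfeff4601efffff7ffffffff7ff7ffffdffffffbffe01ff4fffffffffffeff77f37209f9fcffe7805ff0cc0300e01c020018000001034020000042efffffff6ffb7feffd031ffffff7f7fe3ffdeffbdfef7f9a0600407f8fef7dff7fefffffffcf003fffcfeffdeff7fef0000000000c000c00006000000003006fdbdfde0c3efec01fefff7ff8deffdf0000400f7fde01fc3ffd7fefefffec0607dfffb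fff7f68bf17dff3ffbff6060109fff3ff3ff37feaffffbffffe0337ff804ffffffdbf9fffffff3b1013ffc089ff7f30000800e00e00000400c04040020010bbfb7fffdffefffffd80c3fdfec77fbffbdff7ffe3fffbfdc0c000817f8ff4feffcffeffe3ffffe7800ffffcf000001ffbfef00000000000000000006030300003000600c1860006000000000cc00300008cc0000000c000000004100801800003fdf00e02b18010680e00c010040300cff1f00980080202004504c0300000fef801803630103800210c1d80600100203019fe7c003003a04809014049fff6083ffffffe604202202101d00030020080e09fe7ff8f00c0e00e007007001000383fdff98040038000000007000e0000100200100080580b00600000998601900c8019003201d808c00000200800008600afeffc7ffbff9fffdff3a0001feffc7fed980000003fb7f1bfefff1ffdbfcd0007fbff1ffb06000000000000020010008001009800c03000000007fb83fdc0000240, 12500⟩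
noncomputable def cu_l2 : Level := ⟨17970, [[17, 17, 0, 17, 12], [2, 0, 2, 13, 4, 2, 0, 2]], [], 0x20000000000000000000000000000000000000000000000000000000000000000000000000000000000000000000000000000000000000000000000000000000000000000000000000000000000000000000000000000000000000000000000000000000000000000000000000000000000000000000000000000002000000000000000000000000000000000000000000000000000000004000000000000000000000000000000000000000000000000000000000000000000000000000000000000000000000000000000000000000000000000000000000000000000000000000000000000000002000000000000000000000000000000000000000000000000000000000000000000000000000000000000000000000000000000000000000000000000000000000000000000000000000000000000000000000000000000000000000000000000000000000000000000000000000000000000000000000000000000000000000000000000000000000000000000000000000000000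000000000000000000000000000000000000000000000000000000000000000000000000000000000000000000000000000000000000000000000000000000000000000000000000000000000000000000000000000000000000000000000000000000000000000000000000000000000000000000000000000000000000000000000000000000000000000000000000000000000000000000000000000000000000000000000000000000000000000000000000000000000000000000000000000000000000000000000000000000000000000000000000000000000000000020000000000000000000000000000000000000000000000000000000000000000000000000000000000000000000000000000000000000000000400000000000000000000000000000000000000000000000000000000000000000000000000000000000000000000000000000000000000000000000000000000000000000000000000000000000000000000000000000000000000000000000000000000000000000000000000000000000000000000000000000000000000000000000000000000000000000000000000000000000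000000000000000000000000000000000000000000000000000000000000000000000000000000000000000000000000000000000000000000000000000000000000000000000000000000000000000000000000000000000000000000000000000000000000000000000000000000000000002000000000000000000000000000000000000000000000000000000000000000000000000000000000000000000000000000000000000000000000000000000000000000000000000000000000000000000000000000000000000000000000000000000000000000000000000000000000000000000000000000000000000000000000000000000000000000000000000000000000000000000000000000000000000000000000000000000000000000000000000000000000000000000000000000000000000000000000000000000000000000000000000000000000000000000000000000000000000000000000000000000000000000000000000000000000000000000000000000000000000000000000000000000000000000000000000000000000000000000000000000000000000000000000000000000000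000000002000000000000000000000000000000000000000000000000000000000000000000000000000000000000000000000000000000000000000000000000000000000000000040000000000000000000000000000000000000000000000000000000000000000000000000000000000000000000000000000000000000000000000000000000000000000000000000000000000000000100000000000000000000000000000000000000000000000000000000000000000000000000000000000000000000000000000000000000000000000000000000000000000000000000000000000000000000000000000000000000000000000000000000000000000000000000000000000000000000000000000000000000000000000000000000000000000000000000000000000000000000000000000000000000000000000000000000000000000000000000000000000000000000000000000000000000000000000000000000000000000000000000000000000000000000000100000000000000000000000000040000000000000000000000000000000000000000000000000000000000000000000000000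000000000000000000000000000000000000000000000000000020000000000004000000000000000000000000000000000000000000000000000000000001000000000000000000000000000000000000000000000000000000000000000000000000000000000000000000000000000000000000000000000000000000000000002000000000000000000001000000000000400000000000000000000000000000000000000000000000000000000000000000000000000000000000000000000002000000000000000000000000000000000000000000000000000000000000000000000000000000000000000000000000000000000000000000000000000000000000000000000000000000000000000000000000000000000000000000000000000000000000000000000000000000000000000000000000000000000000000000000000000000000000000000000000000000000000000000000000000000000000000000000000000000000000000000000000000000000000000000000000000000000000000000000000000000000000000000000000000000000000000000000000000000000000000000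0000004000000000000000000000000000000000000000000000000040000000000000000000000000000000000000000000000000000000000000000000000000000000000000000000000000020000000000000000000000000000000020000000000020000000000000000000000000000000000000000000000000000000000000000000000000000000000000000000000000000000000000000000000000000000000000000000000000000000000000000000000000000000000000000000000000000000000000000000000000000000000000000000000000000000000000000000000000000000000000000000000000000000000000000000000000000000000000000000000000000000000000000000000000000000000000000, 24⟩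
noncomputable def cu_ls : List Level := [cu_l0, cu_l1, cu_l2]
noncomputable def cu_S : Srch := ⟨15, m_ts, (chainBase [] c_ls), [14, 1, 8, 13, 7, 15, 0, 2, 8], [14, 1, 8, 13, 7, 15, 0, 2, 8], [[14, 1, 5, 8, 14, 7, 19, 15, 2], [15, 13, 7, 13, 3, 13, 4, 3, 0], [8, 2, 2, 8, 6, 15, 2, 8, 0], [18, 8, 4, 4, 13, 6, 14, 13, 8, 2], [6, 0, 8, 4, 8, 6, 2, 13, 13]]⟩
noncomputable def cu_lk : List ℕ := [1, 18486]
noncomputable def cu_tl : List Level := [cu_l1, cu_l2]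
noncomputable def cu_R0 : ℕ := 0x51f81c7b6f5d5f6f4b4d57de6f75ff7bffdf66dfeffff310ddedc377afff7e7159e9d01785e3efdefdd1efbda7fbfbe72f1f6d3ff7d57e9dbf7fadb15ea3fff5dfb86d5b27eefd7d55ebfaf6ffef3e5bfefcbb66bbcf39ef36f3f7f0a9efdfba7ffdbbdeefeef7bebbffffaf7d72ffeaf76d7ff7ffcf9f7f8fff7fbffbd77f7becfdbbdbeedfb65fd7f736efeafcffdfffedcbfddd9ffd75fdffef1facffff7aafefffffdf6fffdf2b6ee7cbbfebff3f3ffffcfdeeffebbefefff6ffefffffe7efffa7fdfefffffeffbaff6fefffffffffefffff7fffffffefff7fffffffbfffffffffffffffffefffffffffff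
noncomputable def cu_R1 : ℕ := 0xd9b08000408030044021082c8880402048440210404300201040010108800808001000208c20080010110000985000287003e0006020001400250103290308098204021300000a80100a01801290007c0060000020000060600285000a0041000028020002804082808084024a0a08208004b1a0000440094001207a8020408aa04020504000010243550440022920100426c020248400010804a0010080004016644030100090008000825000968010100000159007000080620002a05412042002111e40282010240904010102081302802830109421001800011d88881a4492c50f245920840030461020400a014a08900410600311131a40258846c60c168ba98440182c41091708a0201a29102d841108251a140955658010a50ca6c320a901de0c2c004c03424092c08430101400b65c04200061b430a6b9867111c265aa8968b1a4251b02419422106a2084093e38c1a8a4d5fc2d06381221c2c9883040d45583830610a114a02820d92402490cfc822a0632416b32af462c181030a34b9528c0003c8c3f32a34f9b0502890681d4560e4b0eac32bf050e1004419a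24a940097101bdd884356cb8c7832d886592e75c7bde4b234cb1ece8dc40577120a6d668181d45c3bc163c27169360921238490308a18674a97c6a9b0e6e4133be7170ee71c66662847c757eb59225559ebd6442f30ff3382ec62dc085e93cc3eb7544311bcad14d20a15cc96b607d6983922276d47248063c55880a2f3cb1f45c8adcebfdd7520b7c89e39fa846385ac9d396c362f945fe8fcf5496d06b48fb3a3ceb9139268ac142cd2697c1939cd2d000000000000000000000000000000000000000000000000000000000000000000000000000000000000000000000000000000000000000000000000000000000000000000000000000000000000000000000000000000000000000000000000000000000000000000000000000000000000000000000000000000000000000000000000000000000000000000000000000000000000000000000000000000000000000000000000000000000000000000000000000000000000000000000000000000000000000000000000000000000000000000000000000000000000000000000000000000000000000000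
noncomputable def cu_R2 : ℕ := 0x40000000000000000000000000000000000000000000000000000000000000000000000000000000000004000000000000000200000000000000000000000000000000000000000000000000000000000000000000000000000000000000000000000000000000000000000000000000000000000000000000000000000000000000000000000000000000000000000000000000000000000000000000000000000000000000000000000000000000000000000000000004200200000000000000000000000000000000000000000000000000000040000000000000004000000000000000000000000000000000000000008000000000080000000000000000000000000000000000000000000000000000000000000000010000000000000000000000000000000000000000008000000000000000000000000000000030000000000000000000000000000000000000000000000000000000100008400000004000080000000000000000400000000000000000040000000000000000000800000000000000000000000000000000000000000000000000000000000040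0000004000000000000000040000000000000040800000000000000000004000000000010800000000000000004020000000100020000004000000000000000000400000000020000000400201001000500200000000000000000000000000001000000020000000400000100000000000400000040008800000000000010000200080401000000002000020000000000000000000101001218104000000008000000080000020004100810040000000080050010000004402050040000400042000400000800020000000200000000008000040a000000000000000000000001000000000020000000000010000008000010000000001010000000050020000043000205040010000000000001010200000004002000001000048282100002002000000000000080000400000004608808000020000041000000005000000010001024000900084121000010000010080404800005000a00000010080000480800220004005005000000c0300900040220002010040000000000002000000004622302000008a0080400380004000028010000920000a0004a005001800204408000000000000150000008004100008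140000200c30080000080000011110028000002030404000000800000001000000c00e14080360110000000000000000000000000000000000000000000000000000000000000000000000000000000000000000000000000000000000000000000000000000000000000000000000000000000000000000000000000000000000000000000000000000000000000000000000000000000000000000000000000000000000000000000000000000000000000000000000000000000000000000000000000000000000000000000000000000000000000000000000000000000000000000000000000000000000000000000000000000000000000000000000000000000000000000000000000000000000000000000000000000000000000000000000000000000000000000000000000000000000000000000000000000000000000000000000000000000000000000000000000000000000000000000000000000000000000000000000000000000000000000000000000000000000000000000000000000000000000000000000000000000000000000000000000000000000000000000000000000000000000000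000000000000000000000000000000000000000000000000000000000000000000000000000000000000000000000000000000000000000000000000000000000000000000000000000000000000000000000000000000000000000000000000000000000000000000000000000000000000000000000000000000000000000000000000000000000000000000000000000000000000000000000000000000000000000000000000000000000000000000000000000000000000000000000000000000000000000000000000000000000000000000000000000000000000000000000000000000000000000000000000000000000000000000000000000000000000000000000000000000000000000000000000000000000000000000000000000000000000000000000000000000000000000000000000000000000000000000000000000000000000000000000000000000000000000000000000000000000000000000000000000000000000000000000000000000000000000000000000000000000000000000000000000000000000000000000000000000000000000000000000000000000000000000000000000000000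
theorem cu_l0_ok : (ptsOK 15 [] && (wordsIn [0, 2, 4, 6, 8, 10, 12, 14, 16, 18] cu_l0.S && cu_l0.ok 15 m_ns m_ts [])) = true := by decide +kernel
theorem cu_l1_ok : (ptsOK 15 [0] && (wordsIn [0, 2, 4, 6, 8, 10, 12, 14, 16, 18] cu_l1.S && cu_l1.ok 15 m_ns m_ts [0])) = true := by decide +kernel
theorem cu_l2_ok : cu_l2.okT 15 m_ts [0, 2, 4, 6, 8, 10, 12, 14, 16, 18] [18485, 0] (.cons [0] (.cons [0] (.cons [0] .nil (.cons [3] .nil .nil)) (.cons [2] .nil (.cons [3] (.cons [1] .nil .nil) .nil))) (.cons [1] (.cons [1] (.cons [1] (.cons [1] .nil .nil) (.cons [2] .nil .nil)) (.cons [2] (.cons [0] .nil .nil) (.cons [3] .nil .nil))) (.cons [2] (.cons [0] .nil (.cons [1] .nil (.cons [2] .nil .nil))) (.cons [3] (.cons [0] .nil (.cons [1] .nil (.cons [3] .nil .nil))) .nil)))) = true := by decide +kernel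
theorem cu_aux : cu_S.auxB [0, 2, 4, 6, 8, 10, 12, 14, 16, 18] cu_ls [] (0 :: cu_lk) = true := by decide +kernel
theorem cu_cov : Nat.beq (Nat.land cu_l0.O (Srch.cover m_ns (invW cu_S.u') (Nat.lor cu_R0 (Nat.lor cu_R1 cu_R2)) 5)) cu_l0.O = true := by decide +kernel
theorem cu_r0 : cu_S.run (.cons [] (.cons [] (.cons [] (.leaf 2000) .nil) .nil) (.cons [2] (.cons [10, 7, 4] .nil .nil) (.cons [3] (.cons [10, 6, 5, 12] .nil .nil) (.cons [6] .nil (.cons [8] .nil (.cons [3, 3] (.cons [15, 5, 9, 11] .nil .nil) (.cons [6, 3] (.cons [14, 7, 2, 4, 2] .nil .nil) (.cons [8, 3] .nil (.cons [0, 2] (.cons [0, 4, 10, 12, 2] .nil .nil) (.cons [6, 2] (.cons [9, 11, 2, 13, 0] .nil .nil) (.cons [8, 2] .nil (.cons [4, 6] .nil (.cons [5, 6] (.cons [1, 11, 1, 3] .nil .nil) (.cons [8, 6] (.cons [7, 7, 11, 3] .nil .nil) (.cons [12, 6] .nil (.cons [13, 6] .nil (.cons [14, 6] .nil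 (.cons [15, 6] .nil (.cons [16, 6] .nil (.cons [17, 6] (.cons [4, 4, 10, 0, 7] .nil .nil) (.cons [18, 6] .nil (.cons [19, 6] (.cons [3, 10, 6, 13] .nil .nil) (.cons [0, 8] (.cons [14, 5, 6, 1] .nil .nil) (.cons [1, 8] (.cons [0, 5, 5, 0] .nil .nil) (.cons [4, 8] .nil (.cons [5, 8] .nil (.cons [6, 8] (.cons [14, 1, 4, 10, 3] .nil .nil) (.cons [7, 8] (.cons [10, 5, 11] .nil .nil) (.cons [12, 8] (.cons [11, 6, 12, 6, 6] .nil .nil) (.cons [13, 8] (.cons [12, 10, 9, 3] .nil .nil) (.cons [6, 3, 3] (.cons [5, 6, 10, 0] .nil .nil) (.cons [4, 6, 3] .nil (.cons [5, 6, 3] (.cons [7, 7, 2, 1, 2] .nil .nil) (.cons [8, 6, 3] (.cons [12, 3, 3, 0] .nil .nil) (.cons [12, 6, 3] .nil (.cons [13, 6, 3] (.cons [3, 7, 7, 14] .nil .nil) (.cons [14, 6, 3] .nil (.cons [15, 6, 3] .nil (.cons [16, 6, 3] .nil (.cons [17, 6, 3] (.cons [6, 11, 1, 3] .nil .nil) (.cons [18, 6, 3] (.cons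 [15, 4, 0, 4] .nil .nil) (.cons [19, 6, 3] (.cons [11, 12, 3, 1, 5] .nil .nil) (.cons [1, 8, 3] (.cons [9, 4, 1, 13] .nil .nil) (.cons [7, 8, 3] .nil (.cons [12, 8, 3] (.cons [7, 10, 12, 2] .nil .nil) (.cons [13, 8, 3] (.cons [10, 8, 0, 14] .nil .nil) (.cons [6, 0, 2] (.cons [7, 8, 2] .nil .nil) (.cons [4, 6, 2] .nil (.cons [5, 6, 2] .nil (.cons [8, 6, 2] (.cons [1, 4, 11, 6, 13] .nil .nil) (.cons [12, 6, 2] .nil (.cons [13, 6, 2] .nil (.cons [14, 6, 2] .nil (.cons [15, 6, 2] .nil (.cons [16, 6, 2] .nil (.cons [17, 6, 2] (.cons [15, 0, 2, 6, 0] .nil .nil) (.cons [18, 6, 2] (.cons [5, 11, 8, 4, 13] .nil .nil) (.cons [19, 6, 2] (.cons [4, 10, 10, 6] .nil .nil) (.cons [1, 8, 2] (.cons [10, 8, 4, 11, 4] .nil .nil) (.cons [12, 8, 2] (.cons [7, 7, 5, 11] .nil .nil) (.cons [13, 8, 2] (.cons [2, 4] .nil .nil) (.cons [0, 5, 6] .nil (.cons [5, 5, 6] (.cons [4, 12,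 6, 4] .nil .nil) (.cons [6, 5, 6] .nil (.cons [7, 5, 6] (.cons [2, 10, 13, 3, 10] .nil .nil) (.cons [8, 5, 6] .nil (.cons [12, 5, 6] (.cons [14, 7, 3, 4] .nil .nil) (.cons [13, 5, 6] (.cons [14, 7, 5, 7] .nil .nil) (.cons [14, 5, 6] .nil (.cons [15, 5, 6] (.cons [12, 6, 10, 2, 2] .nil .nil) (.cons [16, 5, 6] (.cons [13, 0, 0] .nil .nil) (.cons [17, 5, 6] (.cons [11, 13, 5, 6] .nil .nil) (.cons [18, 5, 6] .nil (.cons [19, 5, 6] .nil (.cons [0, 4, 6] (.cons [15, 10, 7] .nil .nil) (.cons [4, 4, 6] (.cons [15, 4, 7, 1, 3] .nil .nil) (.cons [8, 4, 6] (.cons [7, 1, 15, 2] .nil .nil) (.cons [12, 4, 6] (.cons [4, 6, 6, 10] .nil .nil) (.cons [13, 4, 6] (.cons [15, 1, 3, 6, 4] .nil .nil) (.cons [14, 4, 6] (.cons [8, 14, 7] .nil .nil) (.cons [15, 4, 6] (.cons [10, 9, 5, 1] .nil .nil) (.cons [16, 4, 6] .nil (.cons [17, 4, 6] (.cons [8, 7, 11] .nil .nil) (.cons [18,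 4, 6] (.cons [3, 11, 5, 13, 4] .nil .nil) (.cons [19, 4, 6] (.cons [1, 10, 1] .nil .nil) (.cons [0, 8, 6] (.cons [7, 3, 14] .nil .nil) (.cons [1, 8, 6] (.cons [14, 7, 5, 7] .nil .nil) (.cons [2, 8, 6] .nil (.cons [3, 8, 6] (.cons [14, 1, 3, 10, 5] .nil .nil) (.cons [4, 8, 6] (.cons [13, 7, 0, 5] .nil .nil) (.cons [5, 8, 6] (.cons [10, 15, 6] .nil .nil) (.cons [6, 8, 6] .nil (.cons [7, 8, 6] (.cons [3, 4, 0, 11] .nil .nil) (.cons [12, 8, 6] .nil (.cons [13, 8, 6] (.cons [3, 4, 0, 11] .nil .nil) (.cons [14, 8, 6] .nil (.cons [15, 8, 6] (.cons [7, 0, 5] .nil .nil) (.cons [16, 8, 6] .nil (.cons [17, 8, 6] (.cons [6, 6, 10, 1] .nil .nil) (.cons [18, 8, 6] .nil (.cons [19, 8, 6] (.cons [6, 1, 1, 3] .nil .nil) (.cons [2, 13, 6] .nil (.cons [3, 13, 6] .nil (.cons [4, 13, 6] .nil (.cons [5, 13, 6] .nil (.cons [6, 13, 6] (.cons [11, 3, 12, 6] .nil .nil) (.cons [7,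 13, 6] .nil (.cons [8, 13, 6] .nil (.cons [14, 13, 6] (.cons [7, 13, 9, 4] .nil .nil) (.cons [15, 13, 6] (.cons [7, 0, 7, 13] .nil .nil) (.cons [16, 13, 6] (.cons [5, 1, 14, 0] .nil .nil) (.cons [17, 13, 6] (.cons [0, 15, 2, 2] .nil .nil) (.cons [18, 13, 6] (.cons [0, 11, 13, 1] .nil .nil) (.cons [19, 13, 6] .nil (.cons [2, 12, 6] .nil (.cons [3, 12, 6] .nil (.cons [5, 12, 6] .nil (.cons [8, 12, 6] (.cons [2, 2, 4, 6] .nil .nil) (.cons [14, 12, 6] (.cons [10, 12, 0, 0] .nil .nil) (.cons [15, 12, 6] (.cons [5, 3, 10, 10] .nil .nil) (.cons [16, 12, 6] .nil (.cons [17, 12, 6] (.cons [10, 5, 2, 13] .nil .nil) (.cons [18, 12, 6] (.cons [10, 5, 15] .nil .nil) (.cons [19, 12, 6] .nil (.cons [0, 15, 6] .nil (.cons [1, 15, 6] .nil (.cons [3, 15, 6] (.cons [0, 11, 13, 6, 6] .nil .nil) (.cons [4, 15, 6] (.cons [15, 8, 1, 3] .nil .nil) (.cons [5, 15, 6] .nil (.cons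 [6, 15, 6] (.cons [8, 6, 14] .nil .nil) (.cons [7, 15, 6] (.cons [8, 3, 10, 5, 13] .nil .nil) (.cons [8, 15, 6] (.cons [0, 7, 1, 7] .nil .nil) (.cons [12, 15, 6] .nil (.cons [13, 15, 6] (.cons [5, 0, 0] .nil .nil) (.cons [15, 15, 6] (.cons [9, 11, 6, 1] .nil .nil) (.cons [16, 15, 6] (.cons [2, 11, 5, 13, 7] .nil .nil) (.cons [17, 15, 6] (.cons [11, 8, 5, 0, 5] .nil .nil) (.cons [18, 15, 6] .nil (.cons [19, 15, 6] (.cons [6, 11, 7, 13, 0] .nil .nil) (.cons [0, 14, 6] (.cons [14, 9, 5, 2, 10] .nil .nil) (.cons [1, 14, 6] (.cons [6, 15, 2, 4] .nil .nil) (.cons [3, 14, 6] (.cons [0, 0, 4] .nil .nil) (.cons [4, 14, 6] (.cons [6, 10, 5, 11, 2] .nil .nil) (.cons [5, 14, 6] (.cons [11, 13, 11, 8, 4] .nil .nil) (.cons [8, 14, 6] (.cons [5, 12, 4, 11] .nil .nil) (.cons [12, 14, 6] (.cons [10, 4, 13] .nil .nil) (.cons [13, 14, 6] (.cons [4, 4, 11] .nil .nil) (.cons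 [14, 14, 6] (.cons [0, 9, 4, 13] .nil .nil) (.cons [17, 14, 6] .nil (.cons [18, 14, 6] (.cons [12, 6, 10] .nil .nil) (.cons [19, 14, 6] (.cons [8, 4, 10, 6, 13] .nil .nil) (.cons [0, 17, 6] (.cons [10, 6, 3, 5, 3] .nil .nil) (.cons [1, 17, 6] .nil (.cons [2, 17, 6] (.cons [4, 10, 3, 3] .nil .nil) (.cons [4, 17, 6] (.cons [14, 3, 3, 0] .nil .nil) (.cons [5, 17, 6] (.cons [11, 2, 4, 6] .nil .nil) (.cons [6, 17, 6] (.cons [8, 11, 14, 7] .nil .nil) (.cons [7, 17, 6] (.cons [1, 15] .nil .nil) (.cons [8, 17, 6] .nil (.cons [14, 17, 6] (.cons [9, 2, 10, 6, 12] .nil .nil) (.cons [15, 17, 6] .nil (.cons [18, 17, 6] (.cons [2, 5, 14, 1] .nil .nil) (.cons [19, 17, 6] (.cons [9, 2, 14, 3] .nil .nil) (.cons [0, 16, 6] (.cons [5, 0, 3, 15] .nil .nil) (.cons [1, 16, 6] (.cons [6, 4, 10, 2, 12] .nil .nil) (.cons [2, 16, 6] (.cons [6, 3, 10, 6] .nil .nil) (.cons [4, 16,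 6] (.cons [3, 8, 11, 5] .nil .nil) (.cons [5, 16, 6] (.cons [4, 15, 2] .nil .nil) (.cons [8, 16, 6] (.cons [15, 3, 10, 8] .nil .nil) (.cons [14, 16, 6] (.cons [9, 11, 7, 15] .nil .nil) (.cons [15, 16, 6] (.cons [2, 0, 6, 10, 0] .nil .nil) (.cons [16, 16, 6] (.cons [15, 3, 1] .nil .nil) (.cons [18, 16, 6] (.cons [2, 7, 7, 4] .nil .nil) (.cons [19, 16, 6] .nil (.cons [0, 19, 6] (.cons [12, 14] .nil .nil) (.cons [1, 19, 6] (.cons [5, 10, 3, 15] .nil .nil) (.cons [8, 19, 6] (.cons [5, 7, 14, 0] .nil .nil) (.cons [8, 18, 6] .nil (.cons [2, 1, 8] (.cons [11, 0, 5, 3] .nil .nil) (.cons [3, 1, 8] (.cons [15, 5, 0, 5] .nil .nil) (.cons [4, 1, 8] .nil (.cons [5, 1, 8] .nil (.cons [6, 1, 8] (.cons [15, 6, 6] .nil .nil) (.cons [7, 1, 8] (.cons [15, 11, 5, 11] .nil .nil) (.cons [8, 1, 8] .nil (.cons [13, 1, 8] (.cons [7, 14, 1] .nil .nil) (.cons [16, 1, 8] (.cons [15,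 5, 10, 5] .nil .nil) (.cons [17, 1, 8] .nil (.cons [2, 0, 8] .nil (.cons [3, 0, 8] (.cons [6, 3, 11, 4, 11] .nil .nil) (.cons [4, 0, 8] .nil (.cons [6, 0, 8] (.cons [15, 0, 6, 0] .nil .nil) (.cons [7, 0, 8] (.cons [2, 1, 6, 6, 11] .nil .nil) (.cons [8, 0, 8] .nil (.cons [16, 0, 8] .nil (.cons [12, 5, 8] (.cons [14, 5, 11, 6] .nil .nil) (.cons [13, 5, 8] (.cons [13, 8, 11, 5] .nil .nil) (.cons [12, 4, 8] (.cons [11, 6, 12, 6, 6] .nil .nil) (.cons [13, 4, 8] (.cons [15, 7, 3, 10, 6] .nil .nil) (.cons [4, 7, 8] .nil (.cons [5, 7, 8] (.cons [2, 0, 6, 10, 0] .nil .nil) (.cons [12, 7, 8] (.cons [6, 5, 6, 3] .nil .nil) (.cons [13, 7, 8] (.cons [5, 11, 3, 15] .nil .nil) (.cons [14, 7, 8] .nil (.cons [15, 7, 8] (.cons [1, 10, 0, 12, 11] .nil .nil) (.cons [16, 7, 8] (.cons [6, 3, 6, 10] .nil .nil) (.cons [17, 7, 8] .nil (.cons [18, 7, 8] (.cons [3, 10, 2, 9, 12]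 .nil .nil) (.cons [19, 7, 8] .nil (.cons [4, 6, 8] .nil (.cons [5, 6, 8] (.cons [2, 10, 7, 13, 11] .nil .nil) (.cons [12, 6, 8] (.cons [5, 8, 14, 7] .nil .nil) (.cons [13, 6, 8] .nil (.cons [14, 6, 8] .nil (.cons [15, 6, 8] (.cons [11, 5, 3, 12, 4] .nil .nil) (.cons [16, 6, 8] (.cons [12, 2, 10, 4] .nil .nil) (.cons [18, 6, 8] (.cons [10, 4, 2, 13] .nil .nil) (.cons [19, 6, 8] (.cons [6, 4, 6] .nil .nil) (.cons [1, 13, 8] .nil (.cons [6, 13, 8] (.cons [11, 4, 10, 9] .nil .nil) (.cons [7, 13, 8] .nil (.cons [13, 13, 8] .nil (.cons [1, 12, 8] (.cons [8, 10, 0, 12, 11] .nil .nil) (.cons [6, 12, 8] .nil (.cons [7, 12, 8] .nil (.cons [12, 12, 8] .nil (.cons [4, 6, 3, 3] .nil (.cons [5, 6, 3, 3] (.cons [3, 4, 11, 13, 4] .nil .nil) (.cons [8, 6, 3, 3] (.cons [7, 10, 5, 13, 4] .nil .nil) (.cons [12, 6, 3, 3] .nil (.cons [13, 6, 3, 3] (.cons [14, 0, 6, 5] .nil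 .nil) (.cons [14, 6, 3, 3] .nil (.cons [15, 6, 3, 3] .nil (.cons [16, 6, 3, 3] .nil (.cons [17, 6, 3, 3] (.cons [2, 10, 13, 2, 2] .nil .nil) (.cons [18, 6, 3, 3] (.cons [4, 10, 7, 13, 0] .nil .nil) (.cons [19, 6, 3, 3] (.cons [8, 14] .nil .nil) (.cons [0, 5, 6, 3] .nil (.cons [5, 5, 6, 3] .nil (.cons [6, 5, 6, 3] (.cons [2, 4, 7, 15] .nil .nil) (.cons [7, 5, 6, 3] .nil (.cons [8, 5, 6, 3] .nil (.cons [12, 5, 6, 3] (.cons [7, 5, 7] .nil .nil) (.cons [13, 5, 6, 3] (.cons [14, 5, 2, 10, 8] .nil .nil) (.cons [14, 5, 6, 3] .nil (.cons [15, 5, 6, 3] (.cons [0, 6, 2, 12] .nil .nil) (.cons [16, 5, 6, 3] .nil (.cons [17, 5, 6, 3] (.cons [7, 11, 7, 10] .nil .nil) (.cons [18, 5, 6, 3] .nil (.cons [19, 5, 6, 3] .nil (.cons [0, 4, 6, 3] (.cons [5, 3, 0, 15] .nil .nil) (.cons [4, 4, 6, 3] (.cons [8, 11, 5, 13, 4] .nil .nil) (.cons [8, 4, 6, 3] (.cons [4, 4, 11, 12]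 .nil .nil) (.cons [13, 4, 6, 3] (.cons [0, 11, 1, 2, 13] .nil .nil) (.cons [14, 4, 6, 3] (.cons [2, 0, 2] .nil .nil) (.cons [15, 4, 6, 3] (.cons [11, 6, 12, 0] .nil .nil) (.cons [16, 4, 6, 3] (.cons [1, 4, 15, 6] .nil .nil) (.cons [17, 4, 6, 3] .nil (.cons [18, 4, 6, 3] (.cons [4, 10, 12, 5, 7] .nil .nil) (.cons [19, 4, 6, 3] (.cons [5, 2, 1, 13] .nil .nil) (.cons [1, 8, 6, 3] (.cons [14, 5, 2, 10, 8] .nil .nil) (.cons [3, 8, 6, 3] (.cons [5, 6, 6, 8, 10] .nil .nil) (.cons [5, 8, 6, 3] (.cons [1, 7, 11, 13, 6] .nil .nil) (.cons [12, 8, 6, 3] .nil (.cons [13, 8, 6, 3] (.cons [7, 3, 10, 12, 4] .nil .nil) (.cons [14, 8, 6, 3] .nil (.cons [15, 8, 6, 3] (.cons [1, 1, 9] .nil .nil) (.cons [16, 8, 6, 3] .nil (.cons [17, 8, 6, 3] .nil (.cons [18, 8, 6, 3] .nil (.cons [19, 8, 6, 3] .nil (.cons [2, 13, 6, 3] (.cons [3, 15, 3] .nil .nil) (.cons [4, 13, 6, 3] (.cons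 [7, 2, 0, 5] .nil .nil) (.cons [6, 13, 6, 3] (.cons [1, 6, 6, 10, 12] .nil .nil) (.cons [7, 13, 6, 3] (.cons [11, 6, 3, 0] .nil .nil) (.cons [14, 13, 6, 3] .nil (.cons [15, 13, 6, 3] (.cons [10, 5, 7, 13, 7] .nil .nil) (.cons [16, 13, 6, 3] (.cons [4, 11, 12, 3, 0] .nil .nil) (.cons [17, 13, 6, 3] (.cons [13, 2, 1, 7] .nil .nil) (.cons [18, 13, 6, 3] (.cons [14, 4, 1, 2] .nil .nil) (.cons [19, 13, 6, 3] .nil (.cons [2, 12, 6, 3] .nil (.cons [3, 12, 6, 3] .nil (.cons [5, 12, 6, 3] (.cons [1, 3, 11, 9] .nil .nil) (.cons [8, 12, 6, 3] (.cons [7, 4, 2, 2] .nil .nil) (.cons [14, 12, 6, 3] .nil (.cons [15, 12, 6, 3] (.cons [10, 4, 1, 3] .nil .nil) (.cons [16, 12, 6, 3] .nil (.cons [17, 12, 6, 3] .nil (.cons [18, 12, 6, 3] (.cons [11, 7, 10, 9] .nil .nil) (.cons [19, 12, 6, 3] .nil (.cons [0, 15, 6, 3] (.cons [7, 9, 11, 3, 1] .nil .nil) (.cons [1, 15, 6, 3] .nil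 (.cons [3, 15, 6, 3] .nil (.cons [4, 15, 6, 3] (.cons [5, 12, 8, 2] .nil .nil) (.cons [5, 15, 6, 3] (.cons [12, 1, 6, 11] .nil .nil) (.cons [6, 15, 6, 3] (.cons [6, 10, 7, 0] .nil .nil) (.cons [7, 15, 6, 3] (.cons [10, 7, 12, 7, 3] .nil .nil) (.cons [8, 15, 6, 3] (.cons [11, 7, 9, 13] .nil .nil) (.cons [12, 15, 6, 3] (.cons [15, 10, 9, 5, 1] .nil .nil) (.cons [13, 15, 6, 3] (.cons [6, 13, 0] .nil .nil) (.cons [15, 15, 6, 3] .nil (.cons [16, 15, 6, 3] .nil (.cons [17, 15, 6, 3] .nil (.cons [18, 15, 6, 3] .nil (.cons [19, 15, 6, 3] (.cons [11, 1, 4, 6] .nil .nil) (.cons [1, 14, 6, 3] (.cons [4, 7, 1, 11, 13] .nil .nil) (.cons [3, 14, 6, 3] (.cons [0, 0, 4, 7] .nil .nil) (.cons [4, 14, 6, 3] (.cons [3, 7, 10, 13, 5] .nil .nil) (.cons [5, 14, 6, 3] (.cons [6, 4, 1, 3] .nil .nil) (.cons [8, 14, 6, 3] (.cons [10, 8, 12, 2, 2] .nil .nil) (.cons [12, 14, 6, 3]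 (.cons [0, 11, 4, 13, 6] .nil .nil) (.cons [13, 14, 6, 3] (.cons [13, 0, 7, 7] .nil .nil) (.cons [14, 14, 6, 3] .nil (.cons [17, 14, 6, 3] (.cons [14, 3, 5, 10] .nil .nil) (.cons [18, 14, 6, 3] .nil (.cons [19, 14, 6, 3] (.cons [7, 4, 11, 8] .nil .nil) (.cons [0, 17, 6, 3] (.cons [8, 6, 4, 2] .nil .nil) (.cons [1, 17, 6, 3] (.cons [14, 6, 10, 0] .nil .nil) (.cons [2, 17, 6, 3] (.cons [0, 10, 13, 2] .nil .nil) (.cons [4, 17, 6, 3] (.cons [4, 4, 12, 2] .nil .nil) (.cons [5, 17, 6, 3] .nil (.cons [6, 17, 6, 3] (.cons [1, 3, 11, 5] .nil .nil) (.cons [7, 17, 6, 3] (.cons [7, 10, 3, 13] .nil .nil) (.cons [14, 17, 6, 3] (.cons [11, 13, 2, 10, 8] .nil .nil) (.cons [18, 17, 6, 3] (.cons [6, 1, 5, 2] .nil .nil) (.cons [19, 17, 6, 3] (.cons [9, 10, 3, 12, 4] .nil .nil) (.cons [0, 16, 6, 3] (.cons [7, 7, 11, 13] .nil .nil) (.cons [1, 16, 6, 3] (.cons [0, 10, 4, 4,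 12] .nil .nil) (.cons [2, 16, 6, 3] (.cons [3, 10, 4, 6] .nil .nil) (.cons [4, 16, 6, 3] .nil (.cons [5, 16, 6, 3] (.cons [11, 4, 10, 0] .nil .nil) (.cons [8, 16, 6, 3] (.cons [10, 4, 11, 6] .nil .nil) (.cons [14, 16, 6, 3] (.cons [11, 8, 12, 1] .nil .nil) (.cons [15, 16, 6, 3] .nil (.cons [16, 16, 6, 3] (.cons [0, 4, 15, 1] .nil .nil) (.cons [18, 16, 6, 3] (.cons [4, 0, 10, 5, 6] .nil .nil) (.cons [19, 16, 6, 3] .nil (.cons [0, 19, 6, 3] (.cons [5, 10, 9, 4] .nil .nil) (.cons [8, 19, 6, 3] (.cons [5, 13, 11, 4] .nil .nil) (.cons [8, 18, 6, 3] (.cons [4, 2, 12, 5] .nil .nil) (.cons [2, 1, 8, 3] (.cons [6, 0, 11, 13] .nil .nil) (.cons [3, 1, 8, 3] (.cons [10, 1, 13, 6, 2] .nil .nil) (.cons [4, 1, 8, 3] .nil (.cons [4, 7, 8, 3] .nil (.cons [5, 7, 8, 3] .nil (.cons [12, 7, 8, 3] .nil (.cons [13, 7, 8, 3] (.cons [14, 10, 3, 4] .nil .nil) (.cons [14, 7, 8,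 3] .nil (.cons [15, 7, 8, 3] (.cons [11, 6, 0] .nil .nil) (.cons [16, 7, 8, 3] (.cons [5, 10, 10, 6] .nil .nil) (.cons [17, 7, 8, 3] .nil (.cons [18, 7, 8, 3] (.cons [1, 10, 6, 1, 11] .nil .nil) (.cons [19, 7, 8, 3] .nil (.cons [4, 6, 8, 3] (.cons [5, 14, 10] .nil .nil) (.cons [5, 6, 8, 3] (.cons [10, 4, 13, 8] .nil .nil) (.cons [8, 6, 8, 3] (.cons [9, 0, 4, 15] .nil .nil) (.cons [12, 6, 8, 3] (.cons [13, 2, 6, 1] .nil .nil) (.cons [13, 6, 8, 3] .nil (.cons [14, 6, 8, 3] .nil (.cons [15, 6, 8, 3] (.cons [0, 3, 9, 3] .nil .nil) (.cons [16, 6, 8, 3] (.cons [12, 10, 0, 5] .nil .nil) (.cons [17, 6, 8, 3] .nil (.cons [18, 6, 8, 3] (.cons [14, 10, 0, 3] .nil .nil) (.cons [19, 6, 8, 3] (.cons [0, 11, 4, 12] .nil .nil) (.cons [1, 13, 8, 3] .nil (.cons [7, 13, 8, 3] .nil (.cons [13, 13, 8, 3] .nil (.cons [1, 12, 8, 3] .nil (.cons [6, 12, 8, 3] .nil (.cons [7, 12,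 8, 3] (.cons [5, 2, 5] .nil .nil) (.cons [12, 12, 8, 3] (.cons [12, 10, 3, 8, 10] .nil .nil) (.cons [4, 6, 0, 2] .nil (.cons [5, 6, 0, 2] (.cons [5, 15, 7] .nil .nil) (.cons [8, 6, 0, 2] (.cons [15, 4, 9, 4] .nil .nil) (.cons [12, 6, 0, 2] .nil (.cons [13, 6, 0, 2] (.cons [4, 6, 4, 6] .nil .nil) (.cons [15, 6, 0, 2] .nil (.cons [16, 6, 0, 2] .nil (.cons [17, 6, 0, 2] (.cons [11, 12, 10, 6] .nil .nil) (.cons [18, 6, 0, 2] (.cons [8, 4, 7, 10, 12] .nil .nil) (.cons [0, 5, 6, 2] .nil (.cons [5, 5, 6, 2] (.cons [6, 2, 4, 15] .nil .nil) (.cons [6, 5, 6, 2] .nil (.cons [7, 5, 6, 2] (.cons [5, 14, 0, 2] .nil .nil) (.cons [8, 5, 6, 2] .nil (.cons [12, 5, 6, 2] .nil (.cons [13, 5, 6, 2] (.cons [15, 11, 3, 0, 6] .nil .nil) (.cons [14, 5, 6, 2] (.cons [10, 8, 13, 2] .nil .nil) (.cons [15, 5, 6, 2] (.cons [2, 10, 10] .nil .nil) (.cons [16, 5, 6, 2] (.cons [1, 9, 15,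 3] .nil .nil) (.cons [17, 5, 6, 2] (.cons [2, 1] .nil .nil) (.cons [18, 5, 6, 2] .nil (.cons [0, 4, 6, 2] .nil (.cons [4, 4, 6, 2] (.cons [9, 6, 11, 6, 13] .nil .nil) (.cons [8, 4, 6, 2] (.cons [7, 10, 13, 4, 11] .nil .nil) (.cons [12, 4, 6, 2] (.cons [14, 6, 1, 1] .nil .nil) (.cons [13, 4, 6, 2] (.cons [2, 12, 9] .nil .nil) (.cons [15, 4, 6, 2] (.cons [1, 3, 7, 10, 12] .nil .nil) (.cons [16, 4, 6, 2] (.cons [11, 7, 2, 0] .nil .nil) (.cons [17, 4, 6, 2] (.cons [11, 7, 15] .nil .nil) (.cons [18, 4, 6, 2] (.cons [6, 10, 7, 13] .nil .nil) (.cons [19, 4, 6, 2] (.cons [10, 9, 12, 3] .nil .nil) (.cons [1, 8, 6, 2] (.cons [4, 11, 4, 13, 8] .nil .nil) (.cons [2, 8, 6, 2] (.cons [4, 11, 5, 2, 13] .nil .nil) (.cons [3, 8, 6, 2] .nil (.cons [5, 8, 6, 2] .nil (.cons [7, 8, 6, 2] (.cons [7, 11, 5, 1] .nil .nil) (.cons [12, 8, 6, 2] .nil (.cons [13, 8, 6, 2] .nil (.cons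 [14, 8, 6, 2] .nil (.cons [15, 8, 6, 2] (.cons [7, 15, 9] .nil .nil) (.cons [16, 8, 6, 2] .nil (.cons [17, 8, 6, 2] (.cons [8, 11, 3, 14] .nil .nil) (.cons [18, 8, 6, 2] (.cons [8, 13, 0, 0] .nil .nil) (.cons [19, 8, 6, 2] (.cons [14, 8, 0, 6] .nil .nil) (.cons [1, 13, 6, 2] (.cons [9, 4, 11, 7, 12] .nil .nil) (.cons [2, 13, 6, 2] (.cons [1, 10, 0, 12, 8] .nil .nil) (.cons [3, 13, 6, 2] .nil (.cons [4, 13, 6, 2] (.cons [1, 13, 8, 2] .nil .nil) (.cons [6, 13, 6, 2] (.cons [6, 4, 10, 0, 7] .nil .nil) (.cons [7, 13, 6, 2] (.cons [3, 0, 12, 2] .nil .nil) (.cons [13, 13, 6, 2] .nil (.cons [14, 13, 6, 2] .nil (.cons [15, 13, 6, 2] (.cons [1, 7, 4, 4, 1] .nil .nil) (.cons [17, 13, 6, 2] (.cons [4, 6, 15, 6] .nil .nil) (.cons [18, 13, 6, 2] (.cons [8, 10, 5, 13, 4] .nil .nil) (.cons [19, 13, 6, 2] (.cons [2, 5, 12] .nil .nil) (.cons [1, 12, 6, 2] (.cons [1, 13,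 6, 0] .nil .nil) (.cons [2, 12, 6, 2] (.cons [4, 13, 5, 5] .nil .nil) (.cons [3, 12, 6, 2] .nil (.cons [5, 12, 6, 2] (.cons [10, 5, 10, 8] .nil .nil) (.cons [12, 12, 6, 2] (.cons [4, 15, 9] .nil .nil) (.cons [14, 12, 6, 2] (.cons [2, 0, 15, 1] .nil .nil) (.cons [15, 12, 6, 2] .nil (.cons [16, 12, 6, 2] .nil (.cons [17, 12, 6, 2] (.cons [6, 4, 15, 7] .nil .nil) (.cons [18, 12, 6, 2] .nil (.cons [19, 12, 6, 2] .nil (.cons [0, 15, 6, 2] .nil (.cons [1, 15, 6, 2] .nil (.cons [4, 15, 6, 2] (.cons [14, 0, 2, 2] .nil .nil) (.cons [5, 15, 6, 2] (.cons [1, 7, 3] .nil .nil) (.cons [6, 15, 6, 2] .nil (.cons [8, 15, 6, 2] (.cons [2, 1, 11, 4, 13] .nil .nil) (.cons [12, 15, 6, 2] .nil (.cons [13, 15, 6, 2] (.cons [6, 15, 7] .nil .nil) (.cons [15, 15, 6, 2] (.cons [10, 6, 12, 4] .nil .nil) (.cons [16, 15, 6, 2] (.cons [13, 7, 11, 3] .nil .nil) (.cons [17, 15, 6, 2]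 (.cons [15, 8, 4, 2, 2] .nil .nil) (.cons [18, 15, 6, 2] .nil (.cons [19, 15, 6, 2] (.cons [7, 0, 13, 4] .nil .nil) (.cons [4, 14, 6, 2] (.cons [5, 10, 3, 12, 5] .nil .nil) (.cons [5, 14, 6, 2] (.cons [12, 5, 10, 8] .nil .nil) (.cons [8, 14, 6, 2] .nil (.cons [12, 14, 6, 2] (.cons [0, 0] .nil .nil) (.cons [13, 14, 6, 2] (.cons [10, 7, 12, 0] .nil .nil) (.cons [14, 14, 6, 2] (.cons [4, 1, 6, 15] .nil .nil) (.cons [18, 14, 6, 2] (.cons [15, 3, 10, 5, 3] .nil .nil) (.cons [19, 14, 6, 2] (.cons [4, 3, 13, 7] .nil .nil) (.cons [0, 17, 6, 2] (.cons [10, 3, 4, 15] .nil .nil) (.cons [1, 17, 6, 2] .nil (.cons [2, 17, 6, 2] (.cons [0, 10, 5, 12, 1] .nil .nil) (.cons [4, 17, 6, 2] (.cons [3, 0, 13, 0] .nil .nil) (.cons [5, 17, 6, 2] (.cons [1, 1, 14] .nil .nil) (.cons [6, 17, 6, 2] (.cons [4, 4, 12, 9] .nil .nil) (.cons [7, 17, 6, 2] (.cons [10, 12, 4, 10] .nil .nil)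 (.cons [8, 17, 6, 2] .nil (.cons [14, 17, 6, 2] (.cons [2, 12, 10, 0] .nil .nil) (.cons [18, 17, 6, 2] .nil (.cons [19, 17, 6, 2] .nil (.cons [0, 16, 6, 2] (.cons [6, 11, 2, 13] .nil .nil) (.cons [1, 16, 6, 2] (.cons [11, 2, 12, 0] .nil .nil) (.cons [2, 16, 6, 2] (.cons [14, 6, 4, 10] .nil .nil) (.cons [4, 16, 6, 2] (.cons [15, 0, 0, 3] .nil .nil) (.cons [5, 16, 6, 2] (.cons [10, 3, 15, 2] .nil .nil) (.cons [8, 16, 6, 2] (.cons [12, 5, 5, 6] .nil .nil) (.cons [15, 16, 6, 2] .nil (.cons [16, 16, 6, 2] (.cons [11, 13, 3, 4] .nil .nil) (.cons [18, 16, 6, 2] (.cons [3, 14, 6] .nil .nil) (.cons [19, 16, 6, 2] .nil (.cons [0, 19, 6, 2] (.cons [14, 5, 0, 0] .nil .nil) (.cons [8, 18, 6, 2] (.cons [13, 5, 9, 10] .nil .nil) (.cons [18, 18, 6, 2] (.cons [11, 2, 9, 12, 3] .nil .nil) (.cons [2, 1, 8, 2] .nil (.cons [3, 1, 8, 2] (.cons [11, 1, 2, 13] .nil .nil) (.cons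 [4, 1, 8, 2] .nil (.cons [1, 13, 8, 2] .nil (.cons [13, 13, 8, 2] .nil (.cons [1, 12, 8, 2] (.cons [11, 9, 13, 2] .nil .nil) (.cons [2, 0, 5, 6] (.cons [7, 11, 5, 5] .nil .nil) (.cons [3, 0, 5, 6] .nil (.cons [5, 0, 5, 6] (.cons [7, 2, 5, 15] .nil .nil) (.cons [6, 0, 5, 6] .nil (.cons [7, 0, 5, 6] (.cons [8, 10, 5, 12, 4] .nil .nil) (.cons [14, 0, 5, 6] .nil (.cons [15, 0, 5, 6] (.cons [5, 10, 4, 12] .nil .nil) (.cons [16, 0, 5, 6] (.cons [6, 10, 4, 11, 4] .nil .nil) (.cons [18, 0, 5, 6] .nil (.cons [8, 5, 5, 6] (.cons [12, 10, 4, 6] .nil .nil) (.cons [12, 5, 5, 6] (.cons [15, 0, 2, 10] .nil .nil) (.cons [13, 5, 5, 6] (.cons [0, 3, 10, 2, 12] .nil .nil) (.cons [14, 5, 5, 6] .nil (.cons [15, 5, 5, 6] (.cons [2, 4, 11, 4] .nil .nil) (.cons [16, 5, 5, 6] (.cons [12, 0, 4, 0] .nil .nil) (.cons [18, 5, 5, 6] (.cons [15, 2, 5, 1] .nil .nil) (.cons [19, 5, 5,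 6] .nil (.cons [4, 7, 5, 6] (.cons [5, 6, 10, 0] .nil .nil) (.cons [5, 7, 5, 6] (.cons [5, 10, 12, 0] .nil .nil) (.cons [8, 7, 5, 6] (.cons [12, 3, 5, 10] .nil .nil) (.cons [12, 7, 5, 6] (.cons [12, 1, 2, 10] .nil .nil) (.cons [13, 7, 5, 6] (.cons [6, 1, 1, 12] .nil .nil) (.cons [14, 7, 5, 6] (.cons [5, 5, 7] .nil .nil) (.cons [15, 7, 5, 6] .nil (.cons [16, 7, 5, 6] (.cons [3, 14] .nil .nil) (.cons [18, 7, 5, 6] (.cons [6, 9, 12, 0] .nil .nil) (.cons [19, 7, 5, 6] (.cons [6, 6, 10, 3] .nil .nil) (.cons [5, 6, 5, 6] (.cons [13, 6, 2, 10] .nil .nil) (.cons [8, 6, 5, 6] (.cons [12, 10, 10, 5, 6] .nil .nil) (.cons [13, 6, 5, 6] (.cons [10, 5, 11, 3] .nil .nil) (.cons [14, 6, 5, 6] (.cons [10, 5, 7, 12] .nil .nil) (.cons [15, 6, 5, 6] (.cons [6, 10, 3, 13] .nil .nil) (.cons [16, 6, 5, 6] .nil (.cons [17, 6, 5, 6] .nil (.cons [19, 6, 5, 6] (.cons [15, 5, 7,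 11] .nil .nil) (.cons [1, 8, 5, 6] (.cons [6, 0, 0, 14] .nil .nil) (.cons [2, 8, 5, 6] .nil (.cons [3, 8, 5, 6] .nil (.cons [4, 8, 5, 6] (.cons [5, 11, 8, 1, 13] .nil .nil) (.cons [5, 8, 5, 6] (.cons [2, 5, 6, 10] .nil .nil) (.cons [6, 8, 5, 6] .nil (.cons [7, 8, 5, 6] .nil (.cons [12, 8, 5, 6] (.cons [12, 11, 6, 1] .nil .nil) (.cons [13, 8, 5, 6] .nil (.cons [14, 8, 5, 6] (.cons [7, 10, 9, 10] .nil .nil) (.cons [15, 8, 5, 6] (.cons [12, 1, 3, 6, 4] .nil .nil) (.cons [16, 8, 5, 6] (.cons [11, 12, 9, 10, 0] .nil .nil) (.cons [17, 8, 5, 6] (.cons [6, 10, 1, 12] .nil .nil) (.cons [18, 8, 5, 6] .nil (.cons [19, 8, 5, 6] (.cons [4, 6, 14, 10] .nil .nil) (.cons [1, 13, 5, 6] .nil (.cons [2, 13, 5, 6] .nil (.cons [3, 13, 5, 6] (.cons [2, 11, 2, 6, 0] .nil .nil) (.cons [5, 13, 5, 6] (.cons [8, 11, 4, 12, 6] .nil .nil) (.cons [6, 13, 5, 6] (.cons [12, 6, 5, 5]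 .nil .nil) (.cons [7, 13, 5, 6] .nil (.cons [8, 13, 5, 6] (.cons [6, 3, 10, 12, 4] .nil .nil) (.cons [14, 13, 5, 6] .nil (.cons [15, 13, 5, 6] .nil (.cons [16, 13, 5, 6] .nil (.cons [17, 13, 5, 6] .nil (.cons [19, 13, 5, 6] (.cons [3] .nil .nil) (.cons [1, 12, 5, 6] (.cons [15, 11, 8, 11, 3] .nil .nil) (.cons [3, 12, 5, 6] .nil (.cons [5, 12, 5, 6] .nil (.cons [6, 12, 5, 6] (.cons [5, 10, 0, 13, 7] .nil .nil) (.cons [12, 12, 5, 6] (.cons [12, 10, 8, 0] .nil .nil) (.cons [14, 12, 5, 6] (.cons [7, 3, 9, 13] .nil .nil) (.cons [16, 12, 5, 6] .nil (.cons [17, 12, 5, 6] (.cons [10, 6, 12, 7, 3] .nil .nil) (.cons [18, 12, 5, 6] (.cons [3, 6, 10] .nil .nil) (.cons [0, 15, 5, 6] (.cons [10, 0, 3] .nil .nil) (.cons [3, 15, 5, 6] (.cons [12, 4, 10, 2] .nil .nil) (.cons [4, 15, 5, 6] (.cons [6, 4, 2, 10, 12] .nil .nil) (.cons [5, 15, 5, 6] (.cons [9, 5, 12, 1] .nil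 .nil) (.cons [6, 15, 5, 6] .nil (.cons [7, 15, 5, 6] .nil (.cons [8, 15, 5, 6] (.cons [3, 1, 14] .nil .nil) (.cons [12, 15, 5, 6] (.cons [2, 9, 11, 6] .nil .nil) (.cons [13, 15, 5, 6] (.cons [13, 4, 10, 6] .nil .nil) (.cons [15, 15, 5, 6] (.cons [10, 13, 5] .nil .nil) (.cons [16, 15, 5, 6] (.cons [11, 0, 12, 0, 2] .nil .nil) (.cons [17, 15, 5, 6] (.cons [15, 2, 2, 4, 6] .nil .nil) (.cons [18, 15, 5, 6] .nil (.cons [19, 15, 5, 6] (.cons [13, 7, 8, 5, 3] .nil .nil) (.cons [0, 14, 5, 6] (.cons [11, 11, 3, 15] .nil .nil) (.cons [1, 14, 5, 6] (.cons [15, 7, 3, 10, 6] .nil .nil) (.cons [4, 14, 5, 6] .nil (.cons [7, 14, 5, 6] .nil (.cons [8, 14, 5, 6] .nil (.cons [12, 14, 5, 6] .nil (.cons [14, 14, 5, 6] (.cons [15, 0, 11] .nil .nil) (.cons [16, 14, 5, 6] (.cons [15, 3, 3, 4, 11] .nil .nil) (.cons [17, 14, 5, 6] .nil (.cons [18, 14, 5, 6] .nil (.cons [19, 14,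 5, 6] (.cons [14, 5, 0, 0] .nil .nil) (.cons [4, 17, 5, 6] (.cons [5, 2, 13, 2] .nil .nil) (.cons [5, 17, 5, 6] .nil (.cons [6, 17, 5, 6] (.cons [7, 4, 11, 0] .nil .nil) (.cons [7, 17, 5, 6] .nil (.cons [14, 17, 5, 6] (.cons [3, 11, 5, 3, 1] .nil .nil) (.cons [15, 17, 5, 6] (.cons [7, 1, 7, 13] .nil .nil) (.cons [17, 17, 5, 6] .nil (.cons [18, 17, 5, 6] (.cons [1, 7, 10, 12] .nil .nil) (.cons [19, 17, 5, 6] (.cons [10, 15, 1, 2] .nil .nil) (.cons [0, 16, 5, 6] (.cons [1, 11, 8, 4] .nil .nil) (.cons [1, 16, 5, 6] (.cons [7, 9, 4] .nil .nil) (.cons [2, 16, 5, 6] (.cons [1, 4, 6, 13] .nil .nil) (.cons [4, 16, 5, 6] (.cons [6, 0, 10, 0] .nil .nil) (.cons [5, 16, 5, 6] (.cons [4, 4, 0, 15] .nil .nil) (.cons [6, 16, 5, 6] (.cons [11, 2, 9, 12, 3] .nil .nil) (.cons [7, 16, 5, 6] (.cons [12, 1, 2, 10] .nil .nil) (.cons [14, 16, 5, 6] (.cons [3, 13, 2, 2] .nil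 .nil) (.cons [15, 16, 5, 6] (.cons [13, 4, 11, 8] .nil .nil) (.cons [16, 16, 5, 6] (.cons [13, 2, 1, 6, 11] .nil .nil) (.cons [18, 16, 5, 6] (.cons [7, 14, 3] .nil .nil) (.cons [19, 16, 5, 6] (.cons [0, 4, 3] .nil .nil) (.cons [0, 19, 5, 6] .nil (.cons [1, 19, 5, 6] .nil (.cons [6, 19, 5, 6] (.cons [3, 10, 4, 6, 13] .nil .nil) (.cons [19, 19, 5, 6] .nil (.cons [0, 18, 5, 6] .nil (.cons [1, 18, 5, 6] (.cons [15, 7, 7, 0] .nil .nil) (.cons [6, 18, 5, 6] .nil (.cons [18, 18, 5, 6] (.cons [0, 13, 9, 2] .nil .nil) (.cons [2, 0, 4, 6] (.cons [9, 10, 12, 4, 0] .nil .nil) (.cons [3, 0, 4, 6] .nil (.cons [4, 0, 4, 6] .nil (.cons [5, 0, 4, 6] (.cons [11, 2, 11, 13] .nil .nil) (.cons [8, 0, 4, 6] .nil (.cons [14, 0, 4, 6] (.cons [8, 14, 6, 3] .nil .nil) (.cons [15, 0, 4, 6] (.cons [2, 7, 10, 12] .nil .nil) (.cons [16, 0, 4, 6] .nil (.cons [17, 0, 4, 6] (.cons [11,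 1, 7, 3] .nil .nil) (.cons [19, 0, 4, 6] (.cons [4, 6, 10, 0] .nil .nil) (.cons [12, 4, 4, 6] .nil (.cons [13, 4, 4, 6] (.cons [1, 8, 5, 10, 12] .nil .nil) (.cons [14, 4, 4, 6] (.cons [2, 4, 1, 2] .nil .nil) (.cons [16, 4, 4, 6] (.cons [8, 1, 6, 11] .nil .nil) (.cons [17, 4, 4, 6] (.cons [10, 5, 1, 12] .nil .nil) (.cons [18, 4, 4, 6] .nil (.cons [0, 8, 4, 6] (.cons [7, 5, 5, 0] .nil .nil) (.cons [1, 8, 4, 6] (.cons [3, 11, 6, 10] .nil .nil) (.cons [2, 8, 4, 6] (.cons [14, 10, 9, 4] .nil .nil) (.cons [4, 8, 4, 6] (.cons [0, 7, 15, 6] .nil .nil) (.cons [5, 8, 4, 6] .nil (.cons [6, 8, 4, 6] (.cons [5, 3] .nil .nil) (.cons [7, 8, 4, 6] (.cons [2, 5, 10, 12, 4] .nil .nil) (.cons [12, 8, 4, 6] (.cons [6, 4, 15, 1] .nil .nil) (.cons [13, 8, 4, 6] (.cons [1, 10, 0, 7] .nil .nil) (.cons [15, 8, 4, 6] (.cons [11, 13, 4, 10, 7] .nil .nil) (.cons [17, 8, 4, 6] (.cons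 [10, 4, 13, 8] .nil .nil) (.cons [18, 8, 4, 6] (.cons [6, 4, 13, 2] .nil .nil) (.cons [1, 13, 4, 6] (.cons [10, 12, 0, 11] .nil .nil) (.cons [3, 13, 4, 6] (.cons [1, 13, 7, 1] .nil .nil) (.cons [4, 13, 4, 6] (.cons [15, 0, 11, 5] .nil .nil) (.cons [8, 13, 4, 6] .nil (.cons [14, 13, 4, 6] (.cons [3, 9, 12] .nil .nil) (.cons [15, 13, 4, 6] .nil (.cons [16, 13, 4, 6] .nil (.cons [17, 13, 4, 6] (.cons [13, 7, 8, 5] .nil .nil) (.cons [18, 13, 4, 6] (.cons [4, 10, 7, 13] .nil .nil) (.cons [1, 12, 4, 6] (.cons [14, 5, 7, 11, 3] .nil .nil) (.cons [2, 12, 4, 6] .nil (.cons [3, 12, 4, 6] (.cons [13, 3, 9, 11] .nil .nil) (.cons [4, 12, 4, 6] (.cons [15, 3, 11, 5] .nil .nil) (.cons [8, 12, 4, 6] (.cons [11, 0, 11, 6] .nil .nil) (.cons [12, 12, 4, 6] .nil (.cons [14, 12, 4, 6] .nil (.cons [15, 12, 4, 6] (.cons [14, 0, 6, 6] .nil .nil) (.cons [16, 12, 4, 6] (.cons [1,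 5, 2, 14] .nil .nil) (.cons [17, 12, 4, 6] .nil (.cons [19, 12, 4, 6] (.cons [10, 0, 14, 0] .nil .nil) (.cons [0, 15, 4, 6] .nil (.cons [3, 15, 4, 6] (.cons [7, 1, 10, 5] .nil .nil) (.cons [4, 15, 4, 6] (.cons [10, 5, 15, 2] .nil .nil) (.cons [5, 15, 4, 6] (.cons [4, 12, 3, 10] .nil .nil) (.cons [8, 15, 4, 6] (.cons [11, 0, 3, 12] .nil .nil) (.cons [12, 15, 4, 6] (.cons [13, 8, 0, 11] .nil .nil) (.cons [13, 15, 4, 6] (.cons [14, 11, 5, 5] .nil .nil) (.cons [15, 15, 4, 6] .nil (.cons [16, 15, 4, 6] .nil (.cons [17, 15, 4, 6] .nil (.cons [0, 14, 4, 6] .nil (.cons [1, 14, 4, 6] (.cons [15, 9, 7, 7] .nil .nil) (.cons [3, 14, 4, 6] (.cons [2, 4, 1, 7] .nil .nil) (.cons [4, 14, 4, 6] .nil (.cons [5, 14, 4, 6] .nil (.cons [8, 14, 4, 6] (.cons [0, 3, 0] .nil .nil) (.cons [12, 14, 4, 6] .nil (.cons [17, 14, 4, 6] (.cons [12, 9, 3, 5] .nil .nil) (.cons [18, 14,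 4, 6] .nil (.cons [19, 14, 4, 6] .nil (.cons [0, 17, 4, 6] (.cons [8, 0, 5, 14] .nil .nil) (.cons [1, 17, 4, 6] .nil (.cons [2, 17, 4, 6] (.cons [6, 8, 10, 2, 13] .nil .nil) (.cons [4, 17, 4, 6] (.cons [4, 4, 2] .nil .nil) (.cons [5, 17, 4, 6] (.cons [12, 4, 6, 9] .nil .nil) (.cons [14, 17, 4, 6] .nil (.cons [15, 17, 4, 6] (.cons [4, 10, 6, 13] .nil .nil) (.cons [17, 17, 4, 6] .nil (.cons [18, 17, 4, 6] (.cons [15, 6, 4, 3, 4] .nil .nil) (.cons [1, 16, 4, 6] (.cons [3, 13, 5, 0] .nil .nil) (.cons [2, 16, 4, 6] (.cons [4, 12, 1] .nil .nil) (.cons [5, 16, 4, 6] (.cons [3, 3, 1, 11, 7] .nil .nil) (.cons [14, 16, 4, 6] .nil (.cons [15, 16, 4, 6] (.cons [6, 3, 15, 2] .nil .nil) (.cons [16, 16, 4, 6] (.cons [11, 11, 2, 5] .nil .nil) (.cons [18, 16, 4, 6] (.cons [9, 1, 11, 5] .nil .nil) (.cons [0, 19, 4, 6] (.cons [4, 3, 12, 6] .nil .nil) (.cons [1, 19, 4, 6]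 .nil (.cons [8, 19, 4, 6] (.cons [10, 7, 1, 15] .nil .nil) (.cons [19, 19, 4, 6] .nil (.cons [0, 18, 4, 6] .nil (.cons [1, 18, 4, 6] .nil (.cons [18, 18, 4, 6] .nil (.cons [2, 1, 8, 6] (.cons [10, 15, 7, 1] .nil .nil) (.cons [4, 1, 8, 6] (.cons [6, 5, 10, 8] .nil .nil) (.cons [5, 1, 8, 6] (.cons [11, 6, 6, 3] .nil .nil) (.cons [6, 1, 8, 6] (.cons [15, 3, 5, 5, 7] .nil .nil) (.cons [7, 1, 8, 6] (.cons [10, 5, 12] .nil .nil) (.cons [8, 1, 8, 6] .nil (.cons [13, 1, 8, 6] (.cons [11, 13, 7, 1, 3] .nil .nil) (.cons [15, 1, 8, 6] (.cons [10, 10, 0, 12] .nil .nil) (.cons [18, 1, 8, 6] (.cons [1, 2, 5, 2] .nil .nil) (.cons [19, 1, 8, 6] .nil (.cons [2, 0, 8, 6] (.cons [2, 0, 0, 7] .nil .nil) (.cons [3, 0, 8, 6] .nil (.cons [4, 0, 8, 6] (.cons [4, 11, 13, 4] .nil .nil) (.cons [6, 0, 8, 6] .nil (.cons [7, 0, 8, 6] (.cons [4, 10, 8, 12] .nil .nil) (.cons [8, 0, 8,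 6] .nil (.cons [12, 0, 8, 6] (.cons [1, 6, 11, 5] .nil .nil) (.cons [13, 0, 8, 6] (.cons [5, 2, 12, 1] .nil .nil) (.cons [14, 0, 8, 6] (.cons [6, 10, 12, 4] .nil .nil) (.cons [17, 0, 8, 6] (.cons [2, 11, 0, 13, 3] .nil .nil) (.cons [18, 0, 8, 6] (.cons [15, 6, 4, 4] .nil .nil) (.cons [19, 0, 8, 6] .nil (.cons [1, 3, 8, 6] (.cons [5, 1, 11, 13] .nil .nil) (.cons [4, 3, 8, 6] (.cons [4, 10, 13, 2] .nil .nil) (.cons [5, 3, 8, 6] (.cons [12, 8, 7] .nil .nil) (.cons [8, 3, 8, 6] (.cons [15, 4, 9, 4] .nil .nil) (.cons [12, 3, 8, 6] (.cons [9, 0, 13, 3] .nil .nil) (.cons [13, 3, 8, 6] .nil (.cons [14, 3, 8, 6] .nil (.cons [17, 3, 8, 6] .nil (.cons [18, 3, 8, 6] (.cons [9, 7, 9, 4] .nil .nil) (.cons [19, 3, 8, 6] .nil (.cons [1, 2, 8, 6] .nil (.cons [2, 2, 8, 6] (.cons [11, 5, 7, 13, 7] .nil .nil) (.cons [4, 2, 8, 6] (.cons [0, 7, 10, 4] .nil .nil) (.cons [8,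 2, 8, 6] (.cons [4, 15, 0] .nil .nil) (.cons [13, 2, 8, 6] (.cons [1, 5, 12, 10] .nil .nil) (.cons [14, 2, 8, 6] (.cons [10, 2, 15, 2] .nil .nil) (.cons [15, 2, 8, 6] .nil (.cons [16, 2, 8, 6] (.cons [12, 5, 3, 3] .nil .nil) (.cons [18, 2, 8, 6] .nil (.cons [19, 2, 8, 6] (.cons [13, 1, 5, 2, 1] .nil .nil) (.cons [0, 5, 8, 6] .nil (.cons [5, 5, 8, 6] (.cons [13, 5, 5, 2] .nil .nil) (.cons [7, 5, 8, 6] (.cons [1, 12, 6, 0] .nil .nil) (.cons [12, 5, 8, 6] .nil (.cons [13, 5, 8, 6] (.cons [11, 1, 14] .nil .nil) (.cons [14, 5, 8, 6] .nil (.cons [16, 5, 8, 6] (.cons [11, 5, 11] .nil .nil) (.cons [17, 5, 8, 6] (.cons [11, 11, 4, 7, 2] .nil .nil) (.cons [18, 5, 8, 6] (.cons [0, 15, 6, 1] .nil .nil) (.cons [19, 5, 8, 6] .nil (.cons [4, 4, 8, 6] (.cons [7, 9, 11, 3, 1] .nil .nil) (.cons [6, 4, 8, 6] .nil (.cons [7, 4, 8, 6] .nil (.cons [8, 4, 8, 6] .nil (.cons [12,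 4, 8, 6] (.cons [0, 2, 13, 0] .nil .nil) (.cons [14, 4, 8, 6] (.cons [13, 7, 0, 11] .nil .nil) (.cons [15, 4, 8, 6] (.cons [6, 5, 11] .nil .nil) (.cons [16, 4, 8, 6] (.cons [2, 14, 3, 4] .nil .nil) (.cons [17, 4, 8, 6] (.cons [0, 6, 11, 13] .nil .nil) (.cons [18, 4, 8, 6] (.cons [4, 15, 0] .nil .nil) (.cons [19, 4, 8, 6] .nil (.cons [4, 7, 8, 6] .nil (.cons [7, 7, 8, 6] .nil (.cons [8, 7, 8, 6] (.cons [4, 11, 4, 11, 4] .nil .nil) (.cons [12, 7, 8, 6] (.cons [14, 1, 11, 8, 7] .nil .nil) (.cons [14, 7, 8, 6] .nil (.cons [16, 7, 8, 6] (.cons [1, 12, 8, 5] .nil .nil) (.cons [17, 7, 8, 6] .nil (.cons [19, 7, 8, 6] .nil (.cons [4, 6, 8, 6] (.cons [7, 5, 12, 11] .nil .nil) (.cons [5, 6, 8, 6] (.cons [1, 5, 11, 7, 13] .nil .nil) (.cons [8, 6, 8, 6] (.cons [13, 7, 7, 0] .nil .nil) (.cons [12, 6, 8, 6] (.cons [12, 11, 8, 1] .nil .nil) (.cons [13, 6, 8, 6] (.cons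 [3, 6, 10, 9, 12] .nil .nil) (.cons [14, 6, 8, 6] (.cons [12, 6, 10, 1, 7] .nil .nil) (.cons [15, 6, 8, 6] (.cons [12, 0, 3, 4, 10] .nil .nil) (.cons [16, 6, 8, 6] (.cons [10, 0, 13, 6] .nil .nil) (.cons [17, 6, 8, 6] .nil (.cons [18, 6, 8, 6] (.cons [8, 11, 3, 12, 5] .nil .nil) (.cons [19, 6, 8, 6] (.cons [3, 14, 2, 10] .nil .nil) (.cons [2, 13, 8, 6] (.cons [1, 11, 4, 15] .nil .nil) (.cons [3, 13, 8, 6] .nil (.cons [4, 13, 8, 6] .nil (.cons [5, 13, 8, 6] (.cons [11, 3, 13, 3, 1] .nil .nil) (.cons [6, 13, 8, 6] (.cons [5, 5, 7, 15] .nil .nil) (.cons [7, 13, 8, 6] .nil (.cons [8, 13, 8, 6] (.cons [6, 10, 4, 10] .nil .nil) (.cons [13, 13, 8, 6] (.cons [6, 11, 0, 13, 3] .nil .nil) (.cons [14, 13, 8, 6] .nil (.cons [16, 13, 8, 6] (.cons [3, 10, 3, 13] .nil .nil) (.cons [17, 13, 8, 6] (.cons [4, 2, 7, 15] .nil .nil) (.cons [18, 13, 8, 6] (.cons [6, 10, 6,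 15] .nil .nil) (.cons [19, 13, 8, 6] (.cons [2, 13, 6, 5] .nil .nil) (.cons [1, 12, 8, 6] (.cons [12, 6, 10, 7] .nil .nil) (.cons [2, 12, 8, 6] (.cons [7, 2, 13] .nil .nil) (.cons [3, 12, 8, 6] (.cons [10, 5, 5, 12, 3] .nil .nil) (.cons [4, 12, 8, 6] .nil (.cons [5, 12, 8, 6] .nil (.cons [6, 12, 8, 6] .nil (.cons [7, 12, 8, 6] (.cons [7, 14, 1, 11] .nil .nil) (.cons [14, 12, 8, 6] (.cons [12, 0, 4, 10] .nil .nil) (.cons [16, 12, 8, 6] (.cons [5, 1, 6] .nil .nil) (.cons [17, 12, 8, 6] .nil (.cons [18, 12, 8, 6] .nil (.cons [19, 12, 8, 6] .nil (.cons [0, 15, 8, 6] (.cons [15, 11, 3, 4] .nil .nil) (.cons [1, 15, 8, 6] .nil (.cons [5, 15, 8, 6] .nil (.cons [6, 15, 8, 6] (.cons [15, 5, 2] .nil .nil) (.cons [7, 15, 8, 6] (.cons [8, 2, 11, 13] .nil .nil) (.cons [8, 15, 8, 6] (.cons [12, 7, 3, 3] .nil .nil) (.cons [12, 15, 8, 6] (.cons [11, 4, 1, 11] .nil .nil)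 (.cons [13, 15, 8, 6] (.cons [2, 4, 0, 7, 7] .nil .nil) (.cons [18, 15, 8, 6] .nil (.cons [19, 15, 8, 6] (.cons [6, 5, 11, 12, 4] .nil .nil) (.cons [1, 14, 8, 6] (.cons [1, 5, 10, 8] .nil .nil) (.cons [3, 14, 8, 6] .nil (.cons [4, 14, 8, 6] .nil (.cons [8, 14, 8, 6] .nil (.cons [12, 14, 8, 6] (.cons [15, 6, 1, 6] .nil .nil) (.cons [14, 14, 8, 6] (.cons [13, 4, 4, 3] .nil .nil) (.cons [17, 14, 8, 6] (.cons [2, 4, 14, 6] .nil .nil) (.cons [18, 14, 8, 6] (.cons [14, 2, 1, 6] .nil .nil) (.cons [19, 14, 8, 6] .nil (.cons [0, 17, 8, 6] .nil (.cons [1, 17, 8, 6] .nil (.cons [2, 17, 8, 6] .nil (.cons [4, 17, 8, 6] .nil (.cons [5, 17, 8, 6] (.cons [5, 6, 12] .nil .nil) (.cons [6, 17, 8, 6] (.cons [7, 4, 2, 0] .nil .nil) (.cons [7, 17, 8, 6] (.cons [13, 5, 6, 11] .nil .nil) (.cons [14, 17, 8, 6] (.cons [5, 3, 14] .nil .nil) (.cons [17, 17, 8, 6] (.cons [11, 6, 3,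 0, 6] .nil .nil) (.cons [18, 17, 8, 6] .nil (.cons [19, 17, 8, 6] (.cons [7, 2, 2, 4] .nil .nil) (.cons [0, 16, 8, 6] (.cons [1, 10, 13, 5, 1] .nil .nil) (.cons [1, 16, 8, 6] (.cons [1, 8, 4] .nil .nil) (.cons [2, 16, 8, 6] .nil (.cons [4, 16, 8, 6] .nil (.cons [5, 16, 8, 6] (.cons [10, 2, 9, 4] .nil .nil) (.cons [6, 16, 8, 6] (.cons [10, 12, 5, 5, 1] .nil .nil) (.cons [7, 16, 8, 6] .nil (.cons [15, 16, 8, 6] .nil (.cons [18, 16, 8, 6] (.cons [9, 10, 5, 13, 1] .nil .nil) (.cons [19, 16, 8, 6] .nil (.cons [0, 19, 8, 6] (.cons [9, 0, 4, 15] .nil .nil) (.cons [7, 19, 8, 6] (.cons [13, 5, 2, 0] .nil .nil) (.cons [8, 19, 8, 6] (.cons [12, 3, 10, 2] .nil .nil) (.cons [19, 19, 8, 6] (.cons [9, 10, 7, 13, 11] .nil .nil) (.cons [1, 18, 8, 6] (.cons [14, 1, 1, 6] .nil .nil) (.cons [6, 18, 8, 6] (.cons [3, 7, 11, 12, 11] .nil .nil) (.cons [7, 18, 8, 6] (.cons [3,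 5, 10, 12, 7] .nil .nil) (.cons [8, 18, 8, 6] .nil (.cons [18, 18, 8, 6] (.cons [5, 9, 5, 1] .nil .nil) (.cons [0, 3, 13, 6] .nil (.cons [5, 3, 13, 6] (.cons [5, 13, 5, 11] .nil .nil) (.cons [6, 3, 13, 6] (.cons [1, 10, 6, 15] .nil .nil) (.cons [8, 3, 13, 6] (.cons [14, 3, 10, 6, 4] .nil .nil) (.cons [12, 3, 13, 6] .nil (.cons [13, 3, 13, 6] .nil (.cons [14, 3, 13, 6] .nil (.cons [15, 3, 13, 6] (.cons [2, 15, 1, 6] .nil .nil) (.cons [16, 3, 13, 6] .nil (.cons [17, 3, 13, 6] .nil (.cons [18, 3, 13, 6] (.cons [11, 3, 6, 10] .nil .nil) (.cons [19, 3, 13, 6] (.cons [12, 9, 5, 1] .nil .nil) (.cons [1, 2, 13, 6] .nil (.cons [5, 2, 13, 6] (.cons [7, 4, 1, 12] .nil .nil) (.cons [8, 2, 13, 6] (.cons [4, 2, 12] .nil .nil) (.cons [12, 2, 13, 6] .nil (.cons [13, 2, 13, 6] (.cons [13, 3, 4, 6, 6] .nil .nil) (.cons [14, 2, 13, 6] (.cons [9, 11, 7] .nil .nil) (.cons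 [16, 2, 13, 6] (.cons [12, 0, 0, 10, 4] .nil .nil) (.cons [18, 2, 13, 6] .nil (.cons [19, 2, 13, 6] .nil (.cons [6, 5, 13, 6] (.cons [10, 4, 14, 6] .nil .nil) (.cons [7, 5, 13, 6] .nil (.cons [13, 5, 13, 6] (.cons [8, 12, 2, 1] .nil .nil) (.cons [15, 5, 13, 6] (.cons [6, 12, 10, 4] .nil .nil) (.cons [16, 5, 13, 6] (.cons [12, 10, 4, 3] .nil .nil) (.cons [17, 5, 13, 6] (.cons [3, 0, 12, 2] .nil .nil) (.cons [7, 4, 13, 6] (.cons [9, 0, 7, 13] .nil .nil) (.cons [8, 4, 13, 6] (.cons [14, 2, 5, 6] .nil .nil) (.cons [13, 4, 13, 6] (.cons [6, 0, 5] .nil .nil) (.cons [14, 4, 13, 6] (.cons [6, 3, 1, 11] .nil .nil) (.cons [16, 4, 13, 6] .nil (.cons [17, 4, 13, 6] .nil (.cons [19, 4, 13, 6] (.cons [15, 11, 8, 0] .nil .nil) (.cons [4, 7, 13, 6] (.cons [13, 9, 11, 11] (.cons [2, 2] (.leaf 0) .nil) .nil) (.cons [5, 7, 13, 6] (.cons [1, 9, 14] .nil .nil) (.cons [8, 7,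 13, 6] (.cons [3, 10, 12, 0, 11] .nil .nil) (.cons [12, 7, 13, 6] .nil (.cons [13, 7, 13, 6] .nil (.cons [14, 7, 13, 6] (.cons [6, 1, 1] .nil .nil) (.cons [15, 7, 13, 6] (.cons [7, 0, 14] .nil .nil) (.cons [16, 7, 13, 6] (.cons [4, 12, 4, 7] .nil .nil) (.cons [17, 7, 13, 6] .nil (.cons [18, 7, 13, 6] .nil (.cons [4, 6, 13, 6] .nil (.cons [5, 6, 13, 6] (.cons [14, 0, 7, 3] .nil .nil) (.cons [8, 6, 13, 6] .nil (.cons [12, 6, 13, 6] .nil (.cons [14, 6, 13, 6] .nil (.cons [15, 6, 13, 6] (.cons [13, 4, 10, 5, 1] .nil .nil) (.cons [16, 6, 13, 6] (.cons [3, 1, 12, 5] .nil .nil) (.cons [18, 6, 13, 6] .nil (.cons [0, 8, 13, 6] .nil (.cons [1, 8, 13, 6] (.cons [7, 13, 4, 10] .nil .nil) (.cons [2, 8, 13, 6] .nil (.cons [3, 8, 13, 6] (.cons [13, 1, 7, 4] .nil .nil) (.cons [4, 8, 13, 6] .nil (.cons [6, 8, 13, 6] .nil (.cons [7, 8, 13, 6] (.cons [14, 8, 0, 6] .nil .nil)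 (.cons [13, 8, 13, 6] (.cons [11, 0, 6, 0, 12] .nil .nil) (.cons [14, 8, 13, 6] (.cons [15, 3, 10] .nil .nil) (.cons [15, 8, 13, 6] (.cons [12, 1, 10, 7, 11] .nil .nil) (.cons [16, 8, 13, 6] .nil (.cons [17, 8, 13, 6] (.cons [10, 7, 13, 3] .nil .nil) (.cons [18, 8, 13, 6] (.cons [14, 9, 5, 7] .nil .nil) (.cons [0, 15, 13, 6] (.cons [8, 3, 12, 5] .nil .nil) (.cons [1, 15, 13, 6] .nil (.cons [4, 15, 13, 6] .nil (.cons [6, 15, 13, 6] (.cons [14, 1, 8, 7] .nil .nil) (.cons [7, 15, 13, 6] (.cons [7, 3, 9, 13] .nil .nil) (.cons [8, 15, 13, 6] (.cons [6, 4, 13, 8] (.cons [2, 2] (.leaf 2) .nil) .nil) (.cons [13, 15, 13, 6] (.cons [2, 10] .nil .nil) (.cons [15, 15, 13, 6] (.cons [6, 10, 9, 12] .nil .nil) (.cons [17, 15, 13, 6] .nil (.cons [18, 15, 13, 6] .nil (.cons [0, 14, 13, 6] (.cons [7, 13, 9, 2] .nil .nil) (.cons [1, 14, 13, 6] .nil (.cons [4, 14, 13, 6]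 (.cons [3, 5, 10, 5] .nil .nil) (.cons [5, 14, 13, 6] (.cons [13, 4, 1, 3] .nil .nil) (.cons [6, 14, 13, 6] .nil (.cons [7, 14, 13, 6] (.cons [5, 6, 11, 13] .nil .nil) (.cons [13, 14, 13, 6] (.cons [4, 4, 12, 9] .nil .nil) (.cons [14, 14, 13, 6] (.cons [2, 9, 9, 4] .nil .nil) (.cons [16, 14, 13, 6] (.cons [15, 2, 9, 11] .nil .nil) (.cons [17, 14, 13, 6] .nil (.cons [0, 17, 13, 6] .nil (.cons [1, 17, 13, 6] (.cons [7, 11, 5, 1] .nil .nil) (.cons [2, 17, 13, 6] (.cons [0, 7, 3, 3] .nil .nil) (.cons [4, 17, 13, 6] .nil (.cons [6, 17, 13, 6] .nil (.cons [14, 17, 13, 6] (.cons [3, 4, 14, 6] .nil .nil) (.cons [15, 17, 13, 6] (.cons [12, 3, 4] .nil .nil) (.cons [17, 17, 13, 6] (.cons [7, 0, 13, 5] .nil .nil) (.cons [18, 17, 13, 6] (.cons [13, 1, 11, 8] .nil .nil) (.cons [19, 17, 13, 6] .nil (.cons [0, 16, 13, 6] (.cons [11, 2, 5, 12, 11] .nil .nil) (.cons [1,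 16, 13, 6] (.cons [0, 3, 15, 11] .nil .nil) (.cons [2, 16, 13, 6] (.cons [10, 13, 1, 5, 1] .nil .nil) (.cons [4, 16, 13, 6] (.cons [3, 4, 15, 11] .nil .nil) (.cons [5, 16, 13, 6] (.cons [14, 2, 9, 10] .nil .nil) (.cons [6, 16, 13, 6] .nil (.cons [7, 16, 13, 6] (.cons [3, 10, 10, 6] .nil .nil) (.cons [8, 16, 13, 6] .nil (.cons [16, 16, 13, 6] .nil (.cons [18, 16, 13, 6] (.cons [3, 5, 10, 7] .nil .nil) (.cons [1, 19, 13, 6] (.cons [9, 5, 15, 5] .nil .nil) (.cons [7, 19, 13, 6] (.cons [4, 6, 12, 1] .nil .nil) (.cons [8, 19, 13, 6] (.cons [0, 10, 4, 7] .nil .nil) (.cons [1, 18, 13, 6] .nil (.cons [6, 18, 13, 6] (.cons [11, 6, 5, 2, 12] .nil .nil) (.cons [7, 18, 13, 6] (.cons [3, 13, 8] .nil .nil) (.cons [0, 3, 12, 6] .nil (.cons [1, 3, 12, 6] .nil (.cons [4, 3, 12, 6] (.cons [8, 6, 11, 4, 11] .nil .nil) (.cons [8, 3, 12, 6] (.cons [10, 5, 12, 1] .nil .nil)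 (.cons [12, 3, 12, 6] .nil (.cons [13, 3, 12, 6] (.cons [3, 6, 12] .nil .nil) (.cons [14, 3, 12, 6] (.cons [9, 11, 11, 0] .nil .nil) (.cons [15, 3, 12, 6] (.cons [14, 4, 8, 2] .nil .nil) (.cons [16, 3, 12, 6] .nil (.cons [18, 3, 12, 6] .nil (.cons [19, 3, 12, 6] (.cons [15, 11, 11, 7, 4] .nil .nil) (.cons [1, 2, 12, 6] .nil (.cons [4, 2, 12, 6] (.cons [12, 10, 5, 2] .nil .nil) (.cons [13, 2, 12, 6] .nil (.cons [15, 2, 12, 6] (.cons [7, 10, 12, 7, 10] .nil .nil) (.cons [18, 2, 12, 6] .nil (.cons [8, 5, 12, 6] (.cons [15, 5, 2, 2] .nil .nil) (.cons [12, 5, 12, 6] (.cons [6, 0, 2, 2] .nil .nil) (.cons [15, 5, 12, 6] (.cons [13, 5, 6, 11] .nil .nil) (.cons [16, 5, 12, 6] (.cons [0, 2, 4, 10, 12] .nil .nil) (.cons [17, 5, 12, 6] (.cons [6, 15, 2] .nil .nil) (.cons [19, 5, 12, 6] .nil (.cons [12, 4, 12, 6] .nil (.cons [14, 4, 12, 6] (.cons [5, 0, 6, 10, 12]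 .nil .nil) (.cons [16, 4, 12, 6] (.cons [13, 10, 5, 0] .nil .nil) (.cons [17, 4, 12, 6] (.cons [12, 6, 11, 7] .nil .nil) (.cons [18, 4, 12, 6] .nil (.cons [1, 8, 12, 6] (.cons [0, 10, 7, 7] .nil .nil) (.cons [2, 8, 12, 6] .nil (.cons [4, 8, 12, 6] .nil (.cons [5, 8, 12, 6] (.cons [9, 1, 5] .nil .nil) (.cons [7, 8, 12, 6] (.cons [4, 13, 5, 2] .nil .nil) (.cons [12, 8, 12, 6] (.cons [4, 11, 12, 5, 7] .nil .nil) (.cons [13, 8, 12, 6] (.cons [7, 1] .nil .nil) (.cons [14, 8, 12, 6] .nil (.cons [17, 8, 12, 6] (.cons [9, 6, 5, 2] .nil .nil) (.cons [18, 8, 12, 6] (.cons [13, 11, 7, 10, 9] .nil .nil) (.cons [0, 15, 12, 6] (.cons [2, 10, 5, 13] .nil .nil) (.cons [1, 15, 12, 6] (.cons [15, 2, 5] .nil .nil) (.cons [3, 15, 12, 6] (.cons [1, 1, 13] .nil .nil) (.cons [4, 15, 12, 6] (.cons [2, 5, 14, 7] .nil .nil) (.cons [8, 15, 12, 6] .nil (.cons [12, 15, 12, 6] (.cons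 [0, 13, 2] .nil .nil) (.cons [15, 15, 12, 6] (.cons [2, 4, 14, 6] .nil .nil) (.cons [19, 15, 12, 6] (.cons [6, 3, 9, 3] .nil .nil) (.cons [0, 14, 12, 6] (.cons [14, 11, 8] .nil .nil) (.cons [1, 14, 12, 6] .nil (.cons [8, 14, 12, 6] (.cons [15, 2, 7, 1] .nil .nil) (.cons [12, 14, 12, 6] (.cons [10, 12, 6, 10] .nil .nil) (.cons [14, 14, 12, 6] (.cons [4, 6, 11, 4, 13] .nil .nil) (.cons [17, 14, 12, 6] (.cons [9, 7, 14, 3] .nil .nil) (.cons [0, 17, 12, 6] (.cons [7, 11, 7, 10] .nil .nil) (.cons [1, 17, 12, 6] (.cons [11, 6, 10, 12] .nil .nil) (.cons [2, 17, 12, 6] (.cons [11, 8, 1, 5, 12] .nil .nil) (.cons [5, 17, 12, 6] (.cons [6, 1, 10, 12] .nil .nil) (.cons [8, 17, 12, 6] (.cons [10, 9, 12] .nil .nil) (.cons [14, 17, 12, 6] .nil (.cons [15, 17, 12, 6] .nil (.cons [19, 17, 12, 6] (.cons [9, 13, 2, 5] .nil .nil) (.cons [0, 16, 12, 6] (.cons [12, 9, 4, 1]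 .nil .nil) (.cons [1, 16, 12, 6] (.cons [11, 5, 13, 6, 4] .nil .nil) (.cons [4, 16, 12, 6] (.cons [2, 6, 11, 13] .nil .nil) (.cons [8, 16, 12, 6] .nil (.cons [14, 16, 12, 6] .nil (.cons [16, 16, 12, 6] .nil (.cons [18, 16, 12, 6] (.cons [4, 2, 15] .nil .nil) (.cons [1, 19, 12, 6] (.cons [13, 4, 3, 1] .nil .nil) (.cons [8, 19, 12, 6] .nil (.cons [8, 18, 12, 6] .nil (.cons [4, 1, 15, 6] .nil (.cons [5, 1, 15, 6] .nil (.cons [8, 1, 15, 6] (.cons [1, 6, 11, 6, 9] .nil .nil) (.cons [12, 1, 15, 6] (.cons [0, 3, 0] .nil .nil) (.cons [13, 1, 15, 6] .nil (.cons [15, 1, 15, 6] .nil (.cons [16, 1, 15, 6] .nil (.cons [18, 1, 15, 6] (.cons [8, 6, 6, 11, 12] .nil .nil) (.cons [19, 1, 15, 6] (.cons [14, 3, 1, 6] .nil .nil) (.cons [2, 0, 15, 6] .nil (.cons [3, 0, 15, 6] .nil (.cons [4, 0, 15, 6] (.cons [1, 15, 0, 11] .nil .nil) (.cons [5, 0, 15, 6] .nil (.cons [6, 0,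 15, 6] (.cons [5, 15, 4] .nil .nil) (.cons [7, 0, 15, 6] (.cons [9, 2] .nil .nil) (.cons [12, 0, 15, 6] .nil (.cons [15, 0, 15, 6] .nil (.cons [17, 0, 15, 6] (.cons [10, 6, 10, 10] .nil .nil) (.cons [18, 0, 15, 6] (.cons [0, 4, 10, 6] .nil .nil) (.cons [0, 3, 15, 6] .nil (.cons [1, 3, 15, 6] (.cons [3, 4, 14] .nil .nil) (.cons [3, 3, 15, 6] (.cons [10, 7, 14, 3] .nil .nil) (.cons [5, 3, 15, 6] (.cons [2, 13, 2, 2] .nil .nil) (.cons [8, 3, 15, 6] .nil (.cons [12, 3, 15, 6] (.cons [8, 10, 5, 7, 12] .nil .nil) (.cons [13, 3, 15, 6] (.cons [12, 3, 10, 7] .nil .nil) (.cons [15, 3, 15, 6] (.cons [10, 4, 12, 6] .nil .nil) (.cons [16, 3, 15, 6] (.cons [13, 1, 5, 10, 0] .nil .nil) (.cons [17, 3, 15, 6] .nil (.cons [18, 3, 15, 6] .nil (.cons [19, 3, 15, 6] (.cons [4, 6, 0, 0] .nil .nil) (.cons [0, 5, 15, 6] (.cons [1, 9, 6, 11, 13] .nil .nil) (.cons [5, 5, 15, 6]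 .nil (.cons [6, 5, 15, 6] (.cons [10, 1, 6, 11] .nil .nil) (.cons [7, 5, 15, 6] (.cons [4, 14, 10, 9] .nil .nil) (.cons [13, 5, 15, 6] (.cons [15, 11, 8, 2] .nil .nil) (.cons [15, 5, 15, 6] (.cons [15, 7, 7] .nil .nil) (.cons [17, 5, 15, 6] (.cons [7, 5, 13, 1] .nil .nil) (.cons [19, 5, 15, 6] .nil (.cons [0, 4, 15, 6] .nil (.cons [6, 4, 15, 6] (.cons [3, 11, 5, 3, 1] .nil .nil) (.cons [7, 4, 15, 6] (.cons [13, 1, 1] .nil .nil) (.cons [8, 4, 15, 6] (.cons [10, 12, 5, 7] .nil .nil) (.cons [15, 4, 15, 6] (.cons [9, 7, 13, 7] .nil .nil) (.cons [16, 4, 15, 6] .nil (.cons [4, 7, 15, 6] (.cons [4, 12, 7] .nil .nil) (.cons [5, 7, 15, 6] (.cons [2, 0, 7, 15] .nil .nil) (.cons [8, 7, 15, 6] (.cons [10, 13, 0, 5] .nil .nil) (.cons [12, 7, 15, 6] (.cons [6, 5, 10, 10, 3] .nil .nil) (.cons [13, 7, 15, 6] (.cons [6, 14, 1, 6] .nil .nil) (.cons [14, 7, 15, 6] (.cons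 [10, 8, 5, 14] .nil .nil) (.cons [15, 7, 15, 6] .nil (.cons [16, 7, 15, 6] (.cons [14, 1, 2, 1, 2] .nil .nil) (.cons [18, 7, 15, 6] .nil (.cons [4, 6, 15, 6] .nil (.cons [5, 6, 15, 6] .nil (.cons [8, 6, 15, 6] (.cons [1, 3, 5] .nil .nil) (.cons [12, 6, 15, 6] .nil (.cons [14, 6, 15, 6] (.cons [14, 10, 10, 0] .nil .nil) (.cons [16, 6, 15, 6] (.cons [5, 12, 7, 3] .nil .nil) (.cons [18, 6, 15, 6] (.cons [15, 5, 10, 3] .nil .nil) (.cons [0, 8, 15, 6] (.cons [9, 12, 0, 3] .nil .nil) (.cons [2, 8, 15, 6] (.cons [5, 11, 6, 12, 11] .nil .nil) (.cons [5, 8, 15, 6] (.cons [11, 4, 3, 1, 13] .nil .nil) (.cons [6, 8, 15, 6] .nil (.cons [7, 8, 15, 6] .nil (.cons [15, 8, 15, 6] (.cons [14, 5, 7, 11, 3] .nil .nil) (.cons [16, 8, 15, 6] (.cons [6, 11, 6, 2] .nil .nil) (.cons [17, 8, 15, 6] (.cons [7, 5, 5, 12] .nil .nil) (.cons [18, 8, 15, 6] (.cons [12, 0, 10, 1] .nil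 .nil) (.cons [19, 8, 15, 6] (.cons [6, 9, 12] .nil .nil) (.cons [1, 13, 15, 6] (.cons [0, 12, 0, 0] .nil .nil) (.cons [3, 13, 15, 6] (.cons [0, 15, 2, 0] .nil .nil) (.cons [5, 13, 15, 6] (.cons [7, 7, 13, 3] .nil .nil) (.cons [6, 13, 15, 6] (.cons [15, 11, 11, 9] .nil .nil) (.cons [7, 13, 15, 6] .nil (.cons [13, 13, 15, 6] (.cons [11, 9, 12] .nil .nil) (.cons [15, 13, 15, 6] (.cons [2, 10, 4, 11, 4] .nil .nil) (.cons [16, 13, 15, 6] (.cons [0, 11, 1, 2, 13] .nil .nil) (.cons [19, 13, 15, 6] .nil (.cons [1, 12, 15, 6] (.cons [12, 2, 4, 4] .nil .nil) (.cons [3, 12, 15, 6] (.cons [1, 13, 6, 3] .nil .nil) (.cons [4, 12, 15, 6] .nil (.cons [8, 12, 15, 6] .nil (.cons [12, 12, 15, 6] .nil (.cons [17, 12, 15, 6] .nil (.cons [18, 12, 15, 6] .nil (.cons [5, 15, 15, 6] (.cons [9, 1, 4, 6] .nil .nil) (.cons [7, 15, 15, 6] (.cons [6, 2, 12, 1] .nil .nil) (.cons [8,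 15, 15, 6] (.cons [2, 7, 13, 11] .nil .nil) (.cons [13, 15, 15, 6] (.cons [2, 12, 8] .nil .nil) (.cons [16, 15, 15, 6] .nil (.cons [17, 15, 15, 6] (.cons [7, 15, 7, 4] .nil .nil) (.cons [2, 17, 15, 6] (.cons [3, 15, 1, 4] .nil .nil) (.cons [6, 17, 15, 6] .nil (.cons [7, 17, 15, 6] (.cons [10, 4, 11, 4] .nil .nil) (.cons [15, 17, 15, 6] .nil (.cons [17, 17, 15, 6] .nil (.cons [18, 17, 15, 6] (.cons [4, 6, 4, 3] .nil .nil) (.cons [0, 16, 15, 6] (.cons [7, 3, 10, 8] .nil .nil) (.cons [1, 16, 15, 6] .nil (.cons [2, 16, 15, 6] (.cons [8, 10, 12, 10] .nil .nil) (.cons [8, 16, 15, 6] .nil (.cons [15, 16, 15, 6] .nil (.cons [16, 16, 15, 6] (.cons [15, 6, 4, 3, 4] .nil .nil) (.cons [1, 19, 15, 6] (.cons [11, 8, 12, 5, 5] .nil .nil) (.cons [6, 19, 15, 6] .nil (.cons [7, 19, 15, 6] (.cons [1, 3, 15] .nil .nil) (.cons [8, 19, 15, 6] (.cons [14, 4, 6, 9, 11] .nil .nil)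 (.cons [0, 18, 15, 6] (.cons [7, 2, 7, 1] .nil .nil) (.cons [1, 18, 15, 6] (.cons [1, 14] .nil .nil) (.cons [6, 18, 15, 6] (.cons [4, 7, 3, 4] .nil .nil) (.cons [7, 18, 15, 6] .nil (.cons [8, 18, 15, 6] (.cons [10, 13, 6, 0, 3] .nil .nil) (.cons [2, 1, 14, 6] .nil (.cons [3, 1, 14, 6] (.cons [14, 4, 3, 0] .nil .nil) (.cons [4, 1, 14, 6] (.cons [13, 3, 0, 6] .nil .nil) (.cons [5, 1, 14, 6] (.cons [12, 7, 7, 1] .nil .nil) (.cons [8, 1, 14, 6] .nil (.cons [13, 1, 14, 6] .nil (.cons [19, 1, 14, 6] (.cons [8, 11, 1, 3] .nil .nil) (.cons [3, 0, 14, 6] (.cons [11, 2, 1] .nil .nil) (.cons [4, 0, 14, 6] (.cons [3, 5, 11, 2] .nil .nil) (.cons [5, 0, 14, 6] (.cons [12, 6, 0, 6, 2] .nil .nil) (.cons [12, 0, 14, 6] .nil (.cons [13, 0, 14, 6] .nil (.cons [14, 0, 14, 6] (.cons [14, 5, 11, 9, 2] .nil .nil) (.cons [16, 0, 14, 6] (.cons [4, 11, 8, 11, 2] .nil .nil) (.cons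 [0, 3, 14, 6] (.cons [12, 7, 0, 7, 11] .nil .nil) (.cons [3, 3, 14, 6] (.cons [12, 6, 4, 10] .nil .nil) (.cons [4, 3, 14, 6] (.cons [9, 0, 11, 5, 12] .nil .nil) (.cons [8, 3, 14, 6] (.cons [7, 10, 0] .nil .nil) (.cons [12, 3, 14, 6] (.cons [14, 2, 10, 4] .nil .nil) (.cons [15, 3, 14, 6] .nil (.cons [16, 3, 14, 6] (.cons [6, 10, 6, 15] .nil .nil) (.cons [18, 3, 14, 6] (.cons [7, 4, 0, 15] .nil .nil) (.cons [0, 5, 14, 6] (.cons [0, 13, 3] .nil .nil) (.cons [5, 5, 14, 6] (.cons [8, 11, 7, 5] .nil .nil) (.cons [14, 5, 14, 6] (.cons [4, 4, 13, 11] .nil .nil) (.cons [16, 5, 14, 6] (.cons [3, 1, 12, 5] .nil .nil) (.cons [17, 5, 14, 6] .nil (.cons [18, 5, 14, 6] .nil (.cons [0, 4, 14, 6] (.cons [6, 12, 8, 3] .nil .nil) (.cons [8, 4, 14, 6] (.cons [7, 4, 10, 12] .nil .nil) (.cons [12, 4, 14, 6] (.cons [8, 11, 13, 11, 6] .nil .nil) (.cons [14, 4, 14, 6] .nil (.cons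 [16, 4, 14, 6] (.cons [10, 4, 6, 12, 9] .nil .nil) (.cons [17, 4, 14, 6] (.cons [15, 11, 7, 5] .nil .nil) (.cons [19, 4, 14, 6] (.cons [6, 4, 14, 11] .nil .nil) (.cons [0, 8, 14, 6] (.cons [5, 6, 11, 3] .nil .nil) (.cons [3, 8, 14, 6] .nil (.cons [4, 8, 14, 6] (.cons [12, 0] .nil .nil) (.cons [5, 8, 14, 6] (.cons [15, 11, 2] .nil .nil) (.cons [7, 8, 14, 6] .nil (.cons [12, 8, 14, 6] (.cons [11, 5] .nil .nil) (.cons [14, 8, 14, 6] (.cons [3, 10, 9, 10] .nil .nil) (.cons [17, 8, 14, 6] .nil (.cons [18, 8, 14, 6] (.cons [11, 5, 6, 12] .nil .nil) (.cons [19, 8, 14, 6] .nil (.cons [1, 13, 14, 6] (.cons [2, 0, 6, 0, 6] .nil .nil) (.cons [3, 13, 14, 6] (.cons [3, 13, 4, 2] .nil .nil) (.cons [5, 13, 14, 6] (.cons [13, 7, 10, 2] .nil .nil) (.cons [8, 13, 14, 6] .nil (.cons [14, 13, 14, 6] (.cons [6, 13, 5, 5] .nil .nil) (.cons [18, 13, 14, 6] (.cons [6, 11, 8,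 11, 3] .nil .nil) (.cons [1, 12, 14, 6] .nil (.cons [3, 12, 14, 6] .nil (.cons [4, 12, 14, 6] (.cons [8, 2, 7, 15] .nil .nil) (.cons [8, 12, 14, 6] (.cons [6, 3, 11, 4, 11] .nil .nil) (.cons [17, 12, 14, 6] .nil (.cons [19, 12, 14, 6] (.cons [4, 4, 10, 5, 12] .nil .nil) (.cons [3, 14, 14, 6] (.cons [0, 0, 4, 11, 11] .nil .nil) (.cons [4, 14, 14, 6] (.cons [6, 8, 10] .nil .nil) (.cons [8, 14, 14, 6] .nil (.cons [12, 14, 14, 6] .nil (.cons [13, 14, 14, 6] (.cons [13, 9, 2, 10, 2] .nil .nil) (.cons [16, 14, 14, 6] (.cons [12, 10, 8, 7] .nil .nil) (.cons [17, 14, 14, 6] (.cons [14, 0, 6, 6] .nil .nil) (.cons [19, 14, 14, 6] (.cons [14, 6, 10, 9, 10] .nil .nil) (.cons [0, 17, 14, 6] (.cons [10, 9, 15, 3] .nil .nil) (.cons [5, 17, 14, 6] .nil (.cons [8, 17, 14, 6] (.cons [15, 11, 1, 3] .nil .nil) (.cons [17, 17, 14, 6] (.cons [12, 10, 6, 2] .nil .nil) (.cons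 [19, 17, 14, 6] .nil (.cons [0, 16, 14, 6] (.cons [10, 9, 5, 12] .nil .nil) (.cons [2, 16, 14, 6] .nil (.cons [8, 16, 14, 6] .nil (.cons [14, 16, 14, 6] .nil (.cons [16, 16, 14, 6] (.cons [11, 4, 13, 3] .nil .nil) (.cons [8, 19, 14, 6] .nil (.cons [1, 18, 14, 6] .nil (.cons [8, 18, 14, 6] (.cons [7, 11, 5, 5] .nil .nil) (.cons [3, 1, 17, 6] (.cons [6, 14, 3] .nil .nil) (.cons [7, 1, 17, 6] .nil (.cons [12, 1, 17, 6] (.cons [7, 4, 11, 12] .nil .nil) (.cons [13, 1, 17, 6] (.cons [11, 9, 2, 12, 0] .nil .nil) (.cons [15, 1, 17, 6] (.cons [4, 2, 4, 10, 12] .nil .nil) (.cons [18, 1, 17, 6] (.cons [13, 7, 3] .nil .nil) (.cons [19, 1, 17, 6] (.cons [13, 2, 0, 7] .nil .nil) (.cons [2, 0, 17, 6] .nil (.cons [3, 0, 17, 6] .nil (.cons [7, 0, 17, 6] (.cons [1, 5, 2, 1] .nil .nil) (.cons [8, 0, 17, 6] (.cons [10, 6, 6, 1, 12] .nil .nil) (.cons [12, 0, 17, 6] (.cons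 [12, 11, 9, 2] .nil .nil) (.cons [13, 0, 17, 6] .nil (.cons [14, 0, 17, 6] (.cons [12, 9, 10, 0] .nil .nil) (.cons [15, 0, 17, 6] (.cons [10, 6, 0, 13] .nil .nil) (.cons [16, 0, 17, 6] (.cons [9, 10, 3, 12, 6] .nil .nil) (.cons [17, 0, 17, 6] (.cons [2, 1, 10, 12] .nil .nil) (.cons [18, 0, 17, 6] .nil (.cons [0, 2, 17, 6] .nil (.cons [1, 2, 17, 6] (.cons [4, 12, 9] .nil .nil) (.cons [2, 2, 17, 6] .nil (.cons [4, 2, 17, 6] .nil (.cons [5, 2, 17, 6] (.cons [11, 1, 12, 9] .nil .nil) (.cons [6, 2, 17, 6] .nil (.cons [7, 2, 17, 6] (.cons [14, 6, 8, 4, 11] .nil .nil) (.cons [12, 2, 17, 6] .nil (.cons [14, 2, 17, 6] (.cons [6, 15, 4] .nil .nil) (.cons [17, 2, 17, 6] (.cons [2, 4, 6, 11, 12] .nil .nil) (.cons [18, 2, 17, 6] (.cons [7, 1, 4, 3] .nil .nil) (.cons [19, 2, 17, 6] (.cons [4, 10, 4, 6, 13] .nil .nil) (.cons [0, 5, 17, 6] (.cons [9, 12, 2] .nil .nil)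 (.cons [5, 5, 17, 6] (.cons [4, 2, 13] .nil .nil) (.cons [6, 5, 17, 6] .nil (.cons [8, 5, 17, 6] .nil (.cons [12, 5, 17, 6] .nil (.cons [13, 5, 17, 6] (.cons [5, 11, 12, 3, 5] .nil .nil) (.cons [15, 5, 17, 6] (.cons [5, 10, 9, 12, 2] .nil .nil) (.cons [18, 5, 17, 6] (.cons [3, 14, 5, 1] .nil .nil) (.cons [0, 4, 17, 6] .nil (.cons [4, 4, 17, 6] (.cons [5, 7, 11, 7] .nil .nil) (.cons [7, 4, 17, 6] (.cons [11, 2, 13, 1] .nil .nil) (.cons [12, 4, 17, 6] .nil (.cons [17, 4, 17, 6] (.cons [7, 3, 1, 13] .nil .nil) (.cons [19, 4, 17, 6] (.cons [3, 10, 2, 2] .nil .nil) (.cons [5, 7, 17, 6] (.cons [6, 8, 14, 2] .nil .nil) (.cons [8, 7, 17, 6] (.cons [2, 11, 0, 13, 3] .nil .nil) (.cons [12, 7, 17, 6] .nil (.cons [13, 7, 17, 6] .nil (.cons [15, 7, 17, 6] .nil (.cons [16, 7, 17, 6] (.cons [4, 4, 6, 11, 11] .nil .nil) (.cons [17, 7, 17, 6] .nil (.cons [18, 7, 17, 6]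 .nil (.cons [4, 6, 17, 6] (.cons [14, 10, 5, 6] .nil .nil) (.cons [5, 6, 17, 6] (.cons [8, 11, 3, 5, 12] .nil .nil) (.cons [8, 6, 17, 6] .nil (.cons [14, 6, 17, 6] .nil (.cons [18, 6, 17, 6] (.cons [0, 7, 13, 3] .nil .nil) (.cons [19, 6, 17, 6] (.cons [15, 2, 10] .nil .nil) (.cons [0, 8, 17, 6] (.cons [0, 2, 14, 6] .nil .nil) (.cons [1, 8, 17, 6] (.cons [10, 4, 10, 7] .nil .nil) (.cons [2, 8, 17, 6] .nil (.cons [4, 8, 17, 6] (.cons [5, 10, 4] .nil .nil) (.cons [6, 8, 17, 6] (.cons [3, 7, 7, 10, 3] .nil .nil) (.cons [7, 8, 17, 6] .nil (.cons [12, 8, 17, 6] (.cons [15, 9, 5, 11, 7] .nil .nil) (.cons [13, 8, 17, 6] (.cons [10, 12, 4, 4] .nil .nil) (.cons [18, 8, 17, 6] (.cons [10, 4, 1, 2] .nil .nil) (.cons [19, 8, 17, 6] .nil (.cons [0, 15, 17, 6] .nil (.cons [1, 15, 17, 6] (.cons [13, 0, 0, 7] .nil .nil) (.cons [7, 15, 17, 6] .nil (.cons [17, 15, 17, 6]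 .nil (.cons [19, 15, 17, 6] .nil (.cons [0, 14, 17, 6] (.cons [0, 0, 4, 7] .nil .nil) (.cons [1, 14, 17, 6] .nil (.cons [4, 14, 17, 6] (.cons [9, 11, 3, 12, 4] .nil .nil) (.cons [2, 17, 17, 6] (.cons [3, 0, 15, 4] .nil .nil) (.cons [4, 17, 17, 6] (.cons [12, 4, 1, 2] .nil .nil) (.cons [6, 17, 17, 6] (.cons [5, 5, 12, 11] .nil .nil) (.cons [7, 17, 17, 6] (.cons [14, 3, 7, 9, 10] .nil .nil) (.cons [19, 17, 17, 6] .nil (.cons [0, 19, 17, 6] (.cons [1, 11, 4, 6] .nil .nil) (.cons [1, 19, 17, 6] .nil (.cons [6, 19, 17, 6] (.cons [13, 11, 3, 4] .nil .nil) (.cons [7, 19, 17, 6] (.cons [14, 6, 4, 2] .nil .nil) (.cons [0, 18, 17, 6] (.cons [7, 11, 2, 1] .nil .nil) (.cons [7, 18, 17, 6] .nil (.cons [8, 18, 17, 6] (.cons [8, 11, 6, 12, 0] .nil .nil) (.cons [4, 1, 16, 6] .nil (.cons [14, 1, 16, 6] .nil (.cons [16, 1, 16, 6] (.cons [9, 10, 12, 7, 1] .nil .nil) (.cons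 [17, 1, 16, 6] .nil (.cons [2, 0, 16, 6] .nil (.cons [3, 0, 16, 6] (.cons [13, 11, 7, 10, 9] .nil .nil) (.cons [8, 0, 16, 6] (.cons [10, 2, 15] .nil .nil) (.cons [12, 0, 16, 6] (.cons [15, 9, 11, 11, 7] .nil .nil) (.cons [13, 0, 16, 6] .nil (.cons [15, 0, 16, 6] .nil (.cons [16, 0, 16, 6] .nil (.cons [17, 0, 16, 6] .nil (.cons [18, 0, 16, 6] .nil (.cons [19, 0, 16, 6] (.cons [5, 11, 8, 11, 2] .nil .nil) (.cons [0, 2, 16, 6] .nil (.cons [1, 2, 16, 6] (.cons [10, 15, 6] .nil .nil) (.cons [2, 2, 16, 6] (.cons [6, 8, 8] .nil .nil) (.cons [4, 2, 16, 6] .nil (.cons [5, 2, 16, 6] (.cons [11, 6, 12, 0] .nil .nil) (.cons [8, 2, 16, 6] (.cons [13, 11, 4, 3] .nil .nil) (.cons [12, 2, 16, 6] (.cons [8, 6, 12, 2] .nil .nil) (.cons [13, 2, 16, 6] (.cons [2, 12, 0, 3] .nil .nil) (.cons [14, 2, 16, 6] .nil (.cons [16, 2, 16, 6] .nil (.cons [18, 2, 16, 6] (.cons [14, 2,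 4, 4] .nil .nil) (.cons [19, 2, 16, 6] .nil (.cons [0, 5, 16, 6] .nil (.cons [8, 5, 16, 6] .nil (.cons [12, 5, 16, 6] (.cons [5, 9, 1, 10, 7] .nil .nil) (.cons [13, 5, 16, 6] (.cons [3, 1, 5, 13] .nil .nil) (.cons [16, 5, 16, 6] .nil (.cons [19, 5, 16, 6] (.cons [15, 6, 8, 11] .nil .nil) (.cons [12, 4, 16, 6] .nil (.cons [14, 4, 16, 6] (.cons [2, 10, 12, 5, 5] .nil .nil) (.cons [16, 4, 16, 6] (.cons [12, 4, 10, 1] .nil .nil) (.cons [0, 8, 16, 6] .nil (.cons [3, 8, 16, 6] .nil (.cons [4, 8, 16, 6] .nil (.cons [5, 8, 16, 6] (.cons [8, 10, 0, 12, 11] .nil .nil) (.cons [6, 8, 16, 6] (.cons [15, 11, 11, 5] .nil .nil) (.cons [7, 8, 16, 6] .nil (.cons [12, 8, 16, 6] .nil (.cons [14, 8, 16, 6] .nil (.cons [15, 8, 16, 6] (.cons [8, 11, 11, 5] .nil .nil) (.cons [16, 8, 16, 6] (.cons [3, 10, 3, 10, 10] .nil .nil) (.cons [19, 8, 16, 6] .nil (.cons [5, 15, 16, 6] (.cons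 [4, 1, 14, 6] .nil .nil) (.cons [16, 15, 16, 6] (.cons [13, 11, 11, 7, 5] .nil .nil) (.cons [18, 15, 16, 6] (.cons [0, 3, 12, 5] .nil .nil) (.cons [3, 14, 16, 6] (.cons [14, 10, 7, 7] .nil .nil) (.cons [8, 14, 16, 6] .nil (.cons [12, 14, 16, 6] (.cons [12, 10, 2, 2] .nil .nil) (.cons [14, 14, 16, 6] (.cons [10, 5, 3, 1] .nil .nil) (.cons [16, 14, 16, 6] (.cons [11, 5, 2, 1] .nil .nil) (.cons [19, 14, 16, 6] (.cons [6, 11, 6, 10] .nil .nil) (.cons [2, 16, 16, 6] (.cons [4, 3, 1, 11, 13] .nil .nil) (.cons [4, 16, 16, 6] (.cons [15, 2, 1, 4, 7] .nil .nil) (.cons [5, 16, 16, 6] (.cons [5, 5, 0, 5] .nil .nil) (.cons [8, 16, 16, 6] .nil (.cons [14, 16, 16, 6] (.cons [0, 10, 12, 4, 0] .nil .nil) (.cons [15, 16, 16, 6] .nil (.cons [18, 16, 16, 6] (.cons [8, 10, 5, 5, 12] .nil .nil) (.cons [19, 16, 16, 6] .nil (.cons [0, 19, 16, 6] (.cons [6, 11, 4, 13, 2] .nil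 .nil) (.cons [1, 19, 16, 6] (.cons [2, 14, 10, 1] .nil .nil) (.cons [0, 18, 16, 6] (.cons [13, 0, 3, 0] .nil .nil) (.cons [1, 18, 16, 6] .nil (.cons [8, 18, 16, 6] (.cons [3, 6, 6, 13] .nil .nil) (.cons [8, 1, 19, 6] .nil (.cons [8, 0, 19, 6] .nil (.cons [0, 8, 19, 6] .nil (.cons [1, 8, 19, 6] (.cons [2, 5, 1, 12] .nil .nil) (.cons [3, 8, 19, 6] (.cons [1, 2, 12, 11] .nil .nil) (.cons [4, 8, 19, 6] (.cons [11, 8, 13, 0] .nil .nil) (.cons [5, 8, 19, 6] (.cons [5, 8, 14, 6] .nil .nil) (.cons [12, 8, 19, 6] (.cons [2, 10, 5, 13] .nil .nil) (.cons [15, 8, 19, 6] .nil (.cons [16, 8, 19, 6] .nil (.cons [19, 8, 19, 6] (.cons [11, 0, 2, 4, 12] .nil .nil) (.cons [0, 8, 18, 6] .nil (.cons [1, 8, 18, 6] (.cons [6, 0, 6, 0] .nil .nil) (.cons [2, 8, 18, 6] (.cons [0, 6, 14, 5] .nil .nil) (.cons [3, 8, 18, 6] .nil (.cons [5, 8, 18, 6] (.cons [5, 0, 10, 5] .nil .nil)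 (.cons [6, 8, 18, 6] (.cons [7, 10, 5, 2] .nil .nil) (.cons [7, 8, 18, 6] (.cons [8, 11, 6, 15] .nil .nil) (.cons [12, 8, 18, 6] .nil (.cons [13, 8, 18, 6] .nil (.cons [14, 8, 18, 6] .nil (.cons [15, 8, 18, 6] (.cons [9, 11, 2, 5] .nil .nil) (.cons [16, 8, 18, 6] (.cons [14, 11, 9, 5, 5] .nil .nil) (.cons [17, 8, 18, 6] (.cons [7, 10, 4, 4, 12] .nil .nil) (.cons [18, 8, 18, 6] (.cons [10, 13, 3, 11, 5] .nil .nil) (.cons [19, 8, 18, 6] .nil (.cons [0, 3, 1, 8] (.cons [11, 1, 3, 12] .nil .nil) (.cons [1, 3, 1, 8] (.cons [13, 11, 11, 3] .nil .nil) (.cons [4, 3, 1, 8] .nil (.cons [5, 3, 1, 8] .nil (.cons [12, 3, 1, 8] .nil (.cons [13, 3, 1, 8] (.cons [13, 7, 1] .nil .nil) (.cons [14, 3, 1, 8] .nil (.cons [16, 3, 1, 8] (.cons [5, 8, 12, 4] .nil .nil) (.cons [17, 3, 1, 8] .nil (.cons [0, 2, 1, 8] (.cons [0, 5, 11, 8, 13] .nil .nil) (.cons [1, 2, 1, 8] (.cons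 [13, 1, 9, 4] .nil .nil) (.cons [6, 2, 1, 8] .nil (.cons [7, 2, 1, 8] .nil (.cons [8, 2, 1, 8] (.cons [3, 1, 10, 5] .nil .nil) (.cons [13, 2, 1, 8] .nil (.cons [15, 2, 1, 8] .nil (.cons [16, 2, 1, 8] (.cons [8, 10, 0, 13, 6] .nil .nil) (.cons [17, 2, 1, 8] (.cons [6, 4, 14, 7] .nil .nil) (.cons [7, 5, 1, 8] .nil (.cons [8, 5, 1, 8] (.cons [15, 1, 4, 10] .nil .nil) (.cons [16, 5, 1, 8] (.cons [11, 13, 8, 2] .nil .nil) (.cons [6, 4, 1, 8] .nil (.cons [7, 4, 1, 8] (.cons [12, 7, 2, 1, 7] .nil .nil) (.cons [17, 4, 1, 8] .nil (.cons [4, 7, 1, 8] (.cons [15, 2, 1] .nil .nil) (.cons [12, 7, 1, 8] .nil (.cons [17, 7, 1, 8] .nil (.cons [18, 7, 1, 8] (.cons [10, 4, 12, 1] .nil .nil) (.cons [19, 7, 1, 8] .nil (.cons [12, 6, 1, 8] .nil (.cons [13, 6, 1, 8] .nil (.cons [16, 6, 1, 8] .nil (.cons [17, 6, 1, 8] .nil (.cons [19, 6, 1, 8] (.cons [7, 10, 4, 1] .nil .nil)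 (.cons [1, 8, 1, 8] (.cons [3, 14, 9] .nil .nil) (.cons [2, 8, 1, 8] (.cons [14, 1, 11, 4, 3] .nil .nil) (.cons [7, 8, 1, 8] .nil (.cons [12, 8, 1, 8] .nil (.cons [13, 8, 1, 8] (.cons [8, 7, 15, 3] .nil .nil) (.cons [17, 8, 1, 8] (.cons [12, 5, 10, 4] .nil .nil) (.cons [18, 8, 1, 8] (.cons [3, 1, 3, 15] .nil .nil) (.cons [19, 8, 1, 8] (.cons [14, 10, 4, 10, 2] .nil .nil) (.cons [6, 13, 1, 8] (.cons [1, 7, 4, 4, 1] .nil .nil) (.cons [7, 17, 1, 8] (.cons [0, 11, 13, 5] .nil .nil) (.cons [8, 17, 1, 8] (.cons [6, 15, 4, 1] .nil .nil) (.cons [0, 16, 1, 8] .nil (.cons [6, 16, 1, 8] (.cons [3, 10, 3, 14, 4] .nil .nil) (.cons [7, 16, 1, 8] (.cons [12, 9, 3, 1] .nil .nil) (.cons [3, 3, 0, 8] (.cons [14, 11, 9, 2] .nil .nil) (.cons [7, 3, 0, 8] (.cons [0, 3, 12] .nil .nil) (.cons [14, 3, 0, 8] .nil (.cons [16, 3, 0, 8] (.cons [6, 10, 13, 0, 2] .nil .nil) (.cons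 [0, 2, 0, 8] (.cons [10, 0, 6, 13] .nil .nil) (.cons [6, 2, 0, 8] .nil (.cons [7, 2, 0, 8] .nil (.cons [13, 2, 0, 8] (.cons [0, 11, 12, 4, 7] .nil .nil) (.cons [0, 4, 0, 8] .nil (.cons [6, 4, 0, 8] (.cons [5, 6, 11, 8, 11] .nil .nil) (.cons [7, 4, 0, 8] (.cons [4, 11, 11, 2] .nil .nil) (.cons [8, 4, 0, 8] (.cons [7, 10, 12, 2] .nil .nil) (.cons [4, 7, 0, 8] (.cons [13, 8, 11] .nil .nil) (.cons [12, 7, 0, 8] .nil (.cons [16, 7, 0, 8] (.cons [2, 14, 5, 2] .nil .nil) (.cons [17, 7, 0, 8] .nil (.cons [19, 7, 0, 8] .nil (.cons [4, 6, 0, 8] (.cons [8, 2, 1, 7] .nil .nil) (.cons [5, 6, 0, 8] (.cons [5, 10, 4, 1, 2] .nil .nil) (.cons [12, 6, 0, 8] .nil (.cons [17, 6, 0, 8] .nil (.cons [18, 6, 0, 8] .nil (.cons [19, 6, 0, 8] .nil (.cons [0, 8, 0, 8] (.cons [12, 6, 6, 4, 10] .nil .nil) (.cons [1, 8, 0, 8] (.cons [13, 0, 5, 0] .nil .nil) (.cons [6, 8, 0, 8] (.cons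 [15, 7, 0, 3] .nil .nil) (.cons [12, 8, 0, 8] (.cons [9, 7, 9, 4] .nil .nil) (.cons [13, 8, 0, 8] .nil (.cons [12, 6, 5, 8] (.cons [7, 12, 8] .nil .nil) (.cons [14, 6, 5, 8] .nil (.cons [15, 6, 5, 8] .nil (.cons [16, 6, 5, 8] (.cons [5, 1, 3, 13] .nil .nil) (.cons [18, 6, 5, 8] (.cons [1, 15, 8, 2] .nil .nil) (.cons [19, 6, 5, 8] (.cons [4, 1, 11, 13, 11] .nil .nil) (.cons [1, 12, 5, 8] (.cons [12, 3, 0, 7] .nil .nil) (.cons [5, 5, 7, 8] (.cons [10, 6, 2, 12, 1] .nil .nil) .nil)))))))))))))))))))))))))))))))))))))))))))))))))))))))))))))))))))))))))))))))))))))))))))))))))))))))))))))))))))))))))))))))))))))))))))))))))))))))))))))))))))))))))))))))))))))))))))))))))))))))))))))))))))))))))))))))))))))))))))))))))))))))))))))))))))))))))))))))))))))))))))))))))))))))))))))))))))))))))))))))))))))))))))))))))))))))))))))))))))))))))))))))))))))))))))))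)))))))))))))))))))))))))))))))))))))))))))))))))))))))))))))))))))))))))))))))))))))))))))))))))))))))))))))))))))))))))))))))))))))))))))))))))))))))))))))))))))))))))))))))))))))))))))))))))))))))))))))))))))))))))))))))))))))))))))))))))))))))))))))))))))))))))))))))))))))))))))))))))))))))))))))))))))))))))))))))))))))))))))))))))))))))))))))))))))))))))))))))))))))))))))))))))))))))))))))))))))))))))))))))))))))))))))))))))))))))))))))))))))))))))))))))))))))))))))))))))))))))))))))))))))))))))))))))))))))))))))))))))))))))))))))))))))))))))))))))))))))))))))))))))))))))))))))))))))))))))))))))))))))))))))))))))))))))))))))))))))))))))))))))))))))))))))))))))))))))))))))))))))))))))))))))))))))))))))))))))))))))))))))))))))))))))))))))))))))))))))))))))))))))))))))))))))))))))))))))))))))))))))))))))))))))))))))))))))))))))))))))))))))))))))))))))))))))))))))))))))))))))))))))))))))))))))))))))))))))))))))))))))))))))))))))))))))))))))))))))))))))))))))))))))))))))))))))))))))))))))))))))))))))))))))))))))))))))))))))))))))))))))))))))))))))))))))))))))))))))))))))))))))))))))))))))))))))))))))))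 (⟨cu_l0.b, cu_l0.S, [], cu_R0, 0⟩ :: cu_tl) (0 :: cu_lk) Pd.nil 0 = true := by decide +kernel
theorem cu_r1 : cu_S.run (.cons [6, 5, 7, 8] (.cons [9, 11, 1, 2, 13] .nil .nil) (.cons [12, 5, 7, 8] .nil (.cons [13, 5, 7, 8] (.cons [10, 1, 7, 13, 7] .nil .nil) (.cons [4, 4, 7, 8] (.cons [11, 13, 0, 3] .nil .nil) (.cons [13, 4, 7, 8] .nil (.cons [14, 4, 7, 8] (.cons [8, 0, 13, 0] .nil .nil) (.cons [16, 4, 7, 8] (.cons [4, 0, 2, 12] .nil .nil) (.cons [2, 13, 7, 8] (.cons [4, 12, 0, 11] .nil .nil) (.cons [4, 13, 7, 8] (.cons [2, 2, 7, 11, 13] .nil .nil) (.cons [5, 13, 7, 8] .nil (.cons [8, 13, 7, 8] (.cons [7, 4, 4] .nil .nil) (.cons [13, 13, 7, 8] (.cons [7, 11, 13] .nil .nil) (.cons [15, 13, 7, 8] .nil (.cons [16, 13, 7, 8] .nil (.cons [1, 12, 7, 8] .nil (.cons [3, 12, 7, 8] (.cons [6, 1, 5, 12] .nil .nil) (.cons [8, 12, 7, 8] .nil (.cons [12, 12, 7, 8] (.cons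 [15, 11, 11, 0] .nil .nil) (.cons [14, 12, 7, 8] (.cons [2, 1, 2, 1] .nil .nil) (.cons [15, 12, 7, 8] .nil (.cons [17, 12, 7, 8] .nil (.cons [19, 12, 7, 8] .nil (.cons [3, 15, 7, 8] (.cons [12, 5, 5, 0] .nil .nil) (.cons [12, 15, 7, 8] .nil (.cons [13, 15, 7, 8] .nil (.cons [1, 14, 7, 8] (.cons [4, 0, 4, 14] .nil .nil) (.cons [7, 14, 7, 8] .nil (.cons [12, 14, 7, 8] (.cons [3, 0, 3, 3] .nil .nil) (.cons [13, 14, 7, 8] .nil (.cons [18, 14, 7, 8] (.cons [6, 10, 7, 0] .nil .nil) (.cons [0, 17, 7, 8] (.cons [4, 10, 4, 0, 12] .nil .nil) (.cons [6, 17, 7, 8] (.cons [4, 11, 2, 12] .nil .nil) (.cons [0, 16, 7, 8] (.cons [2, 5, 5, 6] .nil .nil) (.cons [4, 16, 7, 8] (.cons [14, 5, 7, 11, 6] .nil .nil) (.cons [19, 16, 7, 8] (.cons [14, 1, 6, 3, 1] .nil .nil) (.cons [1, 19, 7, 8] .nil (.cons [8, 19, 7, 8] (.cons [12, 5, 10, 7, 0] .nil .nil) (.cons [0, 18, 7, 8] .nil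 (.cons [5, 5, 6, 8] (.cons [9, 2, 11, 13] .nil .nil) (.cons [12, 5, 6, 8] .nil (.cons [13, 5, 6, 8] (.cons [6, 3, 3, 15] .nil .nil) (.cons [13, 4, 6, 8] .nil (.cons [16, 4, 6, 8] (.cons [9, 10, 12, 6, 10] .nil .nil) (.cons [2, 13, 6, 8] (.cons [7, 2, 0, 11] .nil .nil) (.cons [4, 13, 6, 8] (.cons [2, 10, 7, 13, 11] .nil .nil) (.cons [5, 13, 6, 8] (.cons [7, 11, 3, 15] .nil .nil) (.cons [15, 13, 6, 8] .nil (.cons [19, 13, 6, 8] (.cons [2, 11, 5, 3, 12] .nil .nil) (.cons [2, 12, 6, 8] (.cons [11, 3, 14, 2] .nil .nil) (.cons [3, 12, 6, 8] (.cons [12, 2, 0] .nil .nil) (.cons [5, 12, 6, 8] .nil (.cons [8, 12, 6, 8] .nil (.cons [14, 12, 6, 8] .nil (.cons [15, 12, 6, 8] .nil (.cons [17, 12, 6, 8] (.cons [13, 9, 11] .nil .nil) (.cons [18, 12, 6, 8] .nil (.cons [0, 15, 6, 8] .nil (.cons [3, 15, 6, 8] (.cons [8, 7, 11, 1, 13] .nil .nil) (.cons [13, 15, 6, 8] (.cons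 [8, 7, 7, 5] .nil .nil) (.cons [18, 15, 6, 8] (.cons [9, 0, 10, 2, 12] .nil .nil) (.cons [3, 14, 6, 8] (.cons [12, 11, 7, 7] .nil .nil) (.cons [12, 14, 6, 8] (.cons [4, 15, 1] .nil .nil) (.cons [13, 14, 6, 8] (.cons [7, 8, 0] .nil .nil) (.cons [18, 14, 6, 8] (.cons [3, 12, 3] .nil .nil) (.cons [1, 17, 6, 8] .nil (.cons [8, 17, 6, 8] .nil (.cons [19, 17, 6, 8] .nil (.cons [0, 16, 6, 8] (.cons [13, 2, 11, 4] .nil .nil) (.cons [2, 16, 6, 8] (.cons [5, 5, 11, 8, 7] (.cons [2] (.leaf 4) .nil) .nil) (.cons [8, 16, 6, 8] (.cons [14, 6, 11, 3] .nil .nil) (.cons [8, 19, 6, 8] (.cons [7, 5, 10, 13, 2] .nil .nil) (.cons [3, 1, 13, 8] (.cons [15, 11, 2, 5] .nil .nil) (.cons [6, 1, 13, 8] (.cons [15, 2, 2] .nil .nil) (.cons [7, 1, 13, 8] (.cons [4, 3, 13, 3] .nil .nil) (.cons [4, 7, 13, 8] (.cons [13, 2, 4, 10] .nil .nil) (.cons [12, 7, 13, 8] .nil (.cons [13, 7, 13,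 8] (.cons [3, 14, 0] .nil .nil) (.cons [5, 6, 13, 8] (.cons [7, 10, 3, 5, 13] .nil .nil) (.cons [8, 6, 13, 8] (.cons [3, 3, 14, 4] .nil .nil) (.cons [13, 6, 13, 8] (.cons [5, 12, 11, 4] .nil .nil) (.cons [14, 6, 13, 8] .nil (.cons [15, 6, 13, 8] .nil (.cons [16, 6, 13, 8] (.cons [11, 11, 11, 7, 5] .nil .nil) (.cons [7, 13, 13, 8] .nil (.cons [7, 1, 12, 8] .nil (.cons [5, 7, 12, 8] (.cons [14, 11, 4, 0] .nil .nil) (.cons [13, 7, 12, 8] (.cons [3, 13, 10, 7] .nil .nil) (.cons [14, 7, 12, 8] .nil (.cons [15, 7, 12, 8] .nil (.cons [16, 7, 12, 8] (.cons [1, 11, 9, 12] .nil .nil) (.cons [17, 7, 12, 8] (.cons [1, 14, 1, 11] .nil .nil) (.cons [4, 6, 12, 8] (.cons [5, 1, 6, 12] .nil .nil) (.cons [5, 6, 12, 8] (.cons [15, 0, 0, 6] .nil .nil) (.cons [12, 6, 12, 8] .nil (.cons [13, 6, 12, 8] (.cons [6, 10, 12, 8, 2] .nil .nil) (.cons [14, 6, 12, 8] (.cons [13, 3,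 7, 1, 11] .nil .nil) (.cons [15, 6, 12, 8] (.cons [14, 11, 7, 7] .nil .nil) (.cons [18, 6, 12, 8] .nil (.cons [6, 12, 12, 8] .nil (.cons [0, 5, 6, 3, 3] .nil (.cons [5, 5, 6, 3, 3] (.cons [5, 11, 8, 11, 3] .nil .nil) (.cons [6, 5, 6, 3, 3] (.cons [10, 7, 0, 12] .nil .nil) (.cons [8, 5, 6, 3, 3] .nil (.cons [12, 5, 6, 3, 3] .nil (.cons [13, 5, 6, 3, 3] (.cons [11, 8, 11] .nil .nil) (.cons [15, 5, 6, 3, 3] (.cons [3, 1, 12, 2] .nil .nil) (.cons [17, 5, 6, 3, 3] (.cons [4, 13, 4, 11] .nil .nil) (.cons [0, 4, 6, 3, 3] (.cons [14, 5, 2] .nil .nil) (.cons [13, 4, 6, 3, 3] (.cons [3, 1, 3] .nil .nil) (.cons [14, 4, 6, 3, 3] (.cons [3, 6, 11, 4] .nil .nil) (.cons [16, 4, 6, 3, 3] (.cons [8, 5, 15, 6] .nil .nil) (.cons [17, 4, 6, 3, 3] (.cons [10] .nil .nil) (.cons [18, 4, 6, 3, 3] .nil (.cons [19, 4, 6, 3, 3] (.cons [10, 1, 13, 7] .nil .nil) (.cons [3, 8, 6, 3,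 3] .nil (.cons [14, 8, 6, 3, 3] .nil (.cons [15, 8, 6, 3, 3] (.cons [4, 0] .nil .nil) (.cons [16, 8, 6, 3, 3] .nil (.cons [19, 8, 6, 3, 3] (.cons [7, 7, 3] .nil .nil) (.cons [4, 13, 6, 3, 3] (.cons [10, 5, 1, 12, 1] .nil .nil) (.cons [7, 13, 6, 3, 3] (.cons [11, 5] .nil .nil) (.cons [8, 13, 6, 3, 3] .nil (.cons [14, 13, 6, 3, 3] .nil (.cons [16, 13, 6, 3, 3] .nil (.cons [2, 12, 6, 3, 3] (.cons [14, 1, 6, 3, 1] .nil .nil) (.cons [3, 12, 6, 3, 3] .nil (.cons [5, 12, 6, 3, 3] .nil (.cons [15, 12, 6, 3, 3] (.cons [0, 13, 6, 1] .nil .nil) (.cons [16, 12, 6, 3, 3] .nil (.cons [17, 12, 6, 3, 3] (.cons [1, 9, 15, 2] .nil .nil) (.cons [19, 12, 6, 3, 3] .nil (.cons [0, 15, 6, 3, 3] .nil (.cons [6, 15, 6, 3, 3] (.cons [12, 6, 1, 3] .nil .nil) (.cons [7, 15, 6, 3, 3] (.cons [7, 10, 6, 12, 3] .nil .nil) (.cons [13, 15, 6, 3, 3] (.cons [14, 10, 8, 7] .nil .nil) (.cons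 [15, 15, 6, 3, 3] (.cons [11, 6, 3, 1] .nil .nil) (.cons [17, 15, 6, 3, 3] (.cons [7, 11, 8, 0] .nil .nil) (.cons [19, 15, 6, 3, 3] (.cons [13, 11, 5, 10] .nil .nil) (.cons [4, 14, 6, 3, 3] (.cons [10, 6, 4] .nil .nil) (.cons [8, 14, 6, 3, 3] (.cons [4, 11, 8, 13] .nil .nil) (.cons [13, 14, 6, 3, 3] (.cons [11, 4, 1, 13] .nil .nil) (.cons [18, 14, 6, 3, 3] .nil (.cons [19, 14, 6, 3, 3] (.cons [5, 6, 11, 6, 13] .nil .nil) (.cons [5, 17, 6, 3, 3] (.cons [8, 0, 0, 14] .nil .nil) (.cons [14, 17, 6, 3, 3] (.cons [2, 11, 12, 10, 6] .nil .nil) (.cons [19, 17, 6, 3, 3] (.cons [14, 10, 6, 10, 2] .nil .nil) (.cons [0, 16, 6, 3, 3] (.cons [9, 11, 5, 7] .nil .nil) (.cons [1, 16, 6, 3, 3] .nil (.cons [2, 16, 6, 3, 3] (.cons [10, 6, 4, 10] .nil .nil) (.cons [4, 16, 6, 3, 3] (.cons [11, 6, 11, 8, 11] .nil .nil) (.cons [5, 16, 6, 3, 3] .nil (.cons [8, 16, 6, 3, 3] (.cons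 [5, 13, 11, 2] .nil .nil) (.cons [16, 16, 6, 3, 3] (.cons [13, 11, 4, 2] .nil .nil) (.cons [18, 16, 6, 3, 3] (.cons [0, 4, 7, 2] .nil .nil) (.cons [19, 16, 6, 3, 3] .nil (.cons [8, 18, 6, 3, 3] (.cons [15, 2, 7, 5] .nil .nil) (.cons [2, 0, 5, 6, 3] (.cons [10, 9, 4] .nil .nil) (.cons [3, 0, 5, 6, 3] .nil (.cons [5, 0, 5, 6, 3] (.cons [14, 6, 11, 8, 6] .nil .nil) (.cons [15, 0, 5, 6, 3] .nil (.cons [18, 0, 5, 6, 3] (.cons [10, 7, 1] .nil .nil) (.cons [8, 5, 5, 6, 3] (.cons [5, 6, 10, 12] .nil .nil) (.cons [12, 5, 5, 6, 3] (.cons [10, 12, 1, 5, 6] .nil .nil) (.cons [13, 5, 5, 6, 3] (.cons [6, 2, 5, 15] .nil .nil) (.cons [14, 5, 5, 6, 3] .nil (.cons [15, 5, 5, 6, 3] (.cons [3, 0] .nil .nil) (.cons [16, 5, 5, 6, 3] (.cons [6, 3, 5, 15] .nil .nil) (.cons [19, 5, 5, 6, 3] .nil (.cons [5, 7, 5, 6, 3] (.cons [15, 3, 5, 7] .nil .nil) (.cons [19, 7, 5, 6, 3] (.cons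 [8, 10, 3, 12, 4] .nil .nil) (.cons [13, 6, 5, 6, 3] .nil (.cons [15, 6, 5, 6, 3] .nil (.cons [16, 6, 5, 6, 3] .nil (.cons [17, 6, 5, 6, 3] .nil (.cons [19, 6, 5, 6, 3] (.cons [5, 1, 5] .nil .nil) (.cons [1, 8, 5, 6, 3] (.cons [8, 4, 10, 12] .nil .nil) (.cons [2, 8, 5, 6, 3] (.cons [13, 0, 3, 3] .nil .nil) (.cons [3, 8, 5, 6, 3] (.cons [6, 1] .nil .nil) (.cons [5, 8, 5, 6, 3] (.cons [8, 1, 11, 4, 13] .nil .nil) (.cons [6, 8, 5, 6, 3] .nil (.cons [7, 8, 5, 6, 3] (.cons [2, 2, 7, 11] .nil .nil) (.cons [13, 8, 5, 6, 3] .nil (.cons [14, 8, 5, 6, 3] (.cons [13, 6, 0, 6] .nil .nil) (.cons [15, 8, 5, 6, 3] (.cons [2, 12, 7, 3] .nil .nil) (.cons [17, 8, 5, 6, 3] (.cons [11, 4, 13, 3] .nil .nil) (.cons [18, 8, 5, 6, 3] (.cons [13, 0, 2, 10] .nil .nil) (.cons [19, 8, 5, 6, 3] (.cons [13, 6, 5, 10] .nil .nil) (.cons [3, 13, 5, 6, 3] .nil (.cons [6, 13, 5, 6, 3] (.cons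 [15, 3, 10] .nil .nil) (.cons [8, 13, 5, 6, 3] (.cons [3, 11, 9, 4] .nil .nil) (.cons [15, 13, 5, 6, 3] .nil (.cons [16, 13, 5, 6, 3] (.cons [0, 3, 10, 2] .nil .nil) (.cons [19, 13, 5, 6, 3] .nil (.cons [1, 12, 5, 6, 3] (.cons [8, 4, 15, 4] .nil .nil) (.cons [2, 12, 5, 6, 3] (.cons [10, 3, 15, 0] .nil .nil) (.cons [5, 12, 5, 6, 3] (.cons [6, 1, 2, 4] .nil .nil) (.cons [6, 12, 5, 6, 3] (.cons [1, 2, 11, 4, 11] .nil .nil) (.cons [12, 12, 5, 6, 3] .nil (.cons [16, 12, 5, 6, 3] .nil (.cons [0, 15, 5, 6, 3] .nil (.cons [3, 15, 5, 6, 3] .nil (.cons [5, 15, 5, 6, 3] (.cons [10, 13, 1, 5, 5] .nil .nil) (.cons [7, 15, 5, 6, 3] .nil (.cons [12, 15, 5, 6, 3] (.cons [7, 10, 4] .nil .nil) (.cons [16, 15, 5, 6, 3] (.cons [11, 11, 3, 0] .nil .nil) (.cons [17, 15, 5, 6, 3] (.cons [1, 12, 4] .nil .nil) (.cons [18, 15, 5, 6, 3] .nil (.cons [19, 15, 5, 6, 3] (.cons [5, 12,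 5, 2] .nil .nil) (.cons [1, 14, 5, 6, 3] (.cons [7, 12, 10, 9] .nil .nil) (.cons [4, 14, 5, 6, 3] .nil (.cons [7, 14, 5, 6, 3] .nil (.cons [8, 14, 5, 6, 3] .nil (.cons [14, 14, 5, 6, 3] (.cons [14, 2, 1, 6] .nil .nil) (.cons [16, 14, 5, 6, 3] (.cons [7, 2, 12, 8] .nil .nil) (.cons [17, 14, 5, 6, 3] .nil (.cons [19, 14, 5, 6, 3] (.cons [12, 14] .nil .nil) (.cons [0, 17, 5, 6, 3] .nil (.cons [2, 17, 5, 6, 3] (.cons [4, 1, 6, 15] .nil .nil) (.cons [4, 17, 5, 6, 3] (.cons [13, 6, 5, 10, 3] .nil .nil) (.cons [5, 17, 5, 6, 3] .nil (.cons [6, 17, 5, 6, 3] (.cons [12, 4, 4, 7] .nil .nil) (.cons [17, 17, 5, 6, 3] .nil (.cons [18, 17, 5, 6, 3] (.cons [14, 5, 6, 1] .nil .nil) (.cons [15, 16, 5, 6, 3] (.cons [2, 4, 11, 12] .nil .nil) (.cons [0, 19, 5, 6, 3] (.cons [8, 1, 6, 4] .nil .nil) (.cons [1, 19, 5, 6, 3] (.cons [6, 14, 5, 5] .nil .nil) (.cons [6, 19, 5, 6,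 3] (.cons [11, 12, 9, 0] .nil .nil) (.cons [19, 19, 5, 6, 3] .nil (.cons [0, 18, 5, 6, 3] (.cons [9, 10, 10, 7] .nil .nil) (.cons [18, 18, 5, 6, 3] (.cons [6, 4, 13, 2] .nil .nil) (.cons [2, 0, 4, 6, 3] (.cons [14, 10, 9] .nil .nil) (.cons [3, 0, 4, 6, 3] .nil (.cons [5, 0, 4, 6, 3] (.cons [15, 3, 1] .nil .nil) (.cons [14, 0, 4, 6, 3] (.cons [6, 0, 12, 1] .nil .nil) (.cons [16, 0, 4, 6, 3] .nil (.cons [16, 4, 4, 6, 3] (.cons [8, 10, 2] .nil .nil) (.cons [1, 8, 4, 6, 3] (.cons [13, 5, 11, 4] .nil .nil) (.cons [2, 8, 4, 6, 3] (.cons [10, 5, 11, 3] .nil .nil) (.cons [12, 8, 4, 6, 3] (.cons [0, 6, 6, 3] .nil .nil) (.cons [14, 8, 4, 6, 3] .nil (.cons [15, 8, 4, 6, 3] (.cons [1, 5, 5, 11, 13] .nil .nil) (.cons [18, 8, 4, 6, 3] (.cons [15, 9, 5, 7] .nil .nil) (.cons [3, 13, 4, 6, 3] (.cons [11, 6, 0, 13] .nil .nil) (.cons [4, 13, 4, 6, 3] (.cons [11, 12, 11,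 4, 11] .nil .nil) (.cons [8, 13, 4, 6, 3] .nil (.cons [14, 13, 4, 6, 3] (.cons [6, 13, 4] .nil .nil) (.cons [15, 13, 4, 6, 3] (.cons [15, 8, 0] .nil .nil) (.cons [16, 13, 4, 6, 3] .nil (.cons [18, 13, 4, 6, 3] (.cons [3, 4, 11, 8] .nil .nil) (.cons [1, 12, 4, 6, 3] (.cons [6, 5, 15, 5] .nil .nil) (.cons [8, 12, 4, 6, 3] (.cons [1, 7, 4] .nil .nil) (.cons [16, 12, 4, 6, 3] (.cons [11, 5, 9, 13, 7] .nil .nil) (.cons [3, 15, 4, 6, 3] .nil (.cons [8, 15, 4, 6, 3] .nil (.cons [15, 15, 4, 6, 3] (.cons [0, 12, 1, 2] .nil .nil) (.cons [16, 15, 4, 6, 3] (.cons [9, 0, 11] .nil .nil) (.cons [17, 15, 4, 6, 3] .nil (.cons [4, 14, 4, 6, 3] (.cons [9, 7, 14, 3] .nil .nil) (.cons [5, 14, 4, 6, 3] (.cons [14, 3, 3, 4, 3] .nil .nil) (.cons [12, 14, 4, 6, 3] (.cons [13, 3, 6, 4] .nil .nil) (.cons [16, 14, 4, 6, 3] (.cons [2, 10, 7, 5, 12] .nil .nil) (.cons [17, 14, 4, 6,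 3] (.cons [15, 4, 4, 6] .nil .nil) (.cons [18, 14, 4, 6, 3] .nil (.cons [0, 17, 4, 6, 3] (.cons [15, 5, 5, 7, 2] .nil .nil) (.cons [4, 17, 4, 6, 3] (.cons [5, 3, 12] .nil .nil) (.cons [5, 17, 4, 6, 3] (.cons [2, 13, 9] .nil .nil) (.cons [14, 17, 4, 6, 3] (.cons [12, 6, 1, 11] .nil .nil) (.cons [15, 17, 4, 6, 3] (.cons [4, 7, 11] .nil .nil) (.cons [4, 16, 4, 6, 3] .nil (.cons [8, 16, 4, 6, 3] (.cons [2, 6, 11, 12] .nil .nil) (.cons [14, 16, 4, 6, 3] (.cons [10, 10, 4] .nil .nil) (.cons [16, 16, 4, 6, 3] (.cons [3, 12, 7, 3] .nil .nil) (.cons [18, 16, 4, 6, 3] (.cons [13, 4, 11, 5, 5] .nil .nil) (.cons [0, 19, 4, 6, 3] (.cons [9, 3, 3, 13] .nil .nil) (.cons [8, 19, 4, 6, 3] (.cons [13, 4, 11, 6] .nil .nil) (.cons [1, 18, 4, 6, 3] .nil (.cons [18, 18, 4, 6, 3] (.cons [12, 6, 2, 2] .nil .nil) (.cons [4, 1, 8, 6, 3] .nil (.cons [5, 1, 8, 6, 3] (.cons [7, 10,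 5, 1, 2] .nil .nil) (.cons [12, 1, 8, 6, 3] .nil (.cons [14, 1, 8, 6, 3] .nil (.cons [15, 1, 8, 6, 3] .nil (.cons [16, 1, 8, 6, 3] (.cons [12, 10, 9, 0] .nil .nil) (.cons [18, 1, 8, 6, 3] (.cons [11, 13, 1, 1] .nil .nil) (.cons [8, 0, 8, 6, 3] .nil (.cons [12, 0, 8, 6, 3] (.cons [10, 6, 0, 4] .nil .nil) (.cons [18, 0, 8, 6, 3] (.cons [7, 7, 11, 8] .nil .nil) (.cons [5, 3, 8, 6, 3] .nil (.cons [8, 3, 8, 6, 3] (.cons [6, 11, 0, 15] .nil .nil) (.cons [13, 3, 8, 6, 3] .nil (.cons [17, 3, 8, 6, 3] .nil (.cons [19, 3, 8, 6, 3] .nil (.cons [12, 5, 8, 6, 3] .nil (.cons [14, 5, 8, 6, 3] (.cons [15, 11, 4, 11] .nil .nil) (.cons [18, 5, 8, 6, 3] (.cons [5, 2, 11, 6, 13] .nil .nil) (.cons [4, 4, 8, 6, 3] .nil (.cons [6, 4, 8, 6, 3] .nil (.cons [14, 4, 8, 6, 3] (.cons [15, 11, 6, 0, 3] .nil .nil) (.cons [17, 4, 8, 6, 3] (.cons [7, 11, 7] .nil .nil) (.cons [18, 4, 8,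 6, 3] (.cons [11, 3, 7, 12] .nil .nil) (.cons [19, 4, 8, 6, 3] .nil (.cons [3, 13, 8, 6, 3] .nil (.cons [7, 13, 8, 6, 3] .nil (.cons [15, 13, 8, 6, 3] (.cons [6, 15, 2, 4] .nil .nil) (.cons [18, 13, 8, 6, 3] (.cons [12, 8, 3, 6, 4] .nil .nil) (.cons [19, 13, 8, 6, 3] .nil (.cons [7, 12, 8, 6, 3] (.cons [1, 12, 6, 10, 10] .nil .nil) (.cons [14, 12, 8, 6, 3] (.cons [8, 10, 5, 13, 1] .nil .nil) (.cons [16, 12, 8, 6, 3] (.cons [11, 5, 2, 10] .nil .nil) (.cons [1, 15, 8, 6, 3] .nil (.cons [4, 15, 8, 6, 3] (.cons [8, 11] .nil .nil) (.cons [6, 15, 8, 6, 3] (.cons [13, 0, 6, 10, 1] .nil .nil) (.cons [7, 15, 8, 6, 3] (.cons [5, 9] .nil .nil) (.cons [12, 15, 8, 6, 3] .nil (.cons [13, 15, 8, 6, 3] (.cons [0, 4, 2, 13] .nil .nil) (.cons [17, 15, 8, 6, 3] .nil (.cons [18, 15, 8, 6, 3] .nil (.cons [19, 15, 8, 6, 3] .nil (.cons [1, 14, 8, 6, 3] (.cons [11, 9, 1, 13]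 .nil .nil) (.cons [3, 14, 8, 6, 3] .nil (.cons [7, 14, 8, 6, 3] .nil (.cons [17, 14, 8, 6, 3] (.cons [9, 6, 11, 4] .nil .nil) (.cons [19, 14, 8, 6, 3] (.cons [10, 8, 0, 14] .nil .nil) (.cons [0, 17, 8, 6, 3] .nil (.cons [2, 17, 8, 6, 3] (.cons [0, 2, 7, 7] .nil .nil) (.cons [5, 17, 8, 6, 3] .nil (.cons [7, 17, 8, 6, 3] (.cons [10, 12, 3, 3] .nil .nil) (.cons [14, 17, 8, 6, 3] (.cons [15, 7, 0, 3] .nil .nil) (.cons [1, 16, 8, 6, 3] (.cons [10, 0, 4, 12, 4] .nil .nil) (.cons [2, 16, 8, 6, 3] .nil (.cons [4, 16, 8, 6, 3] (.cons [11, 11, 11, 7] .nil .nil) (.cons [5, 16, 8, 6, 3] (.cons [9, 4, 10, 4] .nil .nil) (.cons [7, 16, 8, 6, 3] .nil (.cons [15, 16, 8, 6, 3] .nil (.cons [0, 19, 8, 6, 3] (.cons [10, 13, 0, 7] .nil .nil) (.cons [8, 18, 8, 6, 3] .nil (.cons [0, 3, 13, 6, 3] (.cons [0, 13, 8, 1] .nil .nil) (.cons [1, 3, 13, 6, 3] .nil (.cons [5, 3, 13, 6,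 3] .nil (.cons [7, 3, 13, 6, 3] .nil (.cons [13, 3, 13, 6, 3] .nil (.cons [16, 3, 13, 6, 3] .nil (.cons [17, 3, 13, 6, 3] (.cons [7, 8, 2, 12] .nil .nil) (.cons [0, 2, 13, 6, 3] .nil (.cons [2, 2, 13, 6, 3] (.cons [3, 1, 7, 15] .nil .nil) (.cons [4, 2, 13, 6, 3] .nil (.cons [6, 2, 13, 6, 3] (.cons [15, 2, 0, 6] .nil .nil) (.cons [8, 2, 13, 6, 3] .nil (.cons [12, 2, 13, 6, 3] .nil (.cons [13, 5, 13, 6, 3] (.cons [1, 8, 13, 3] .nil .nil) (.cons [15, 5, 13, 6, 3] (.cons [4, 14, 6, 9] .nil .nil) (.cons [17, 5, 13, 6, 3] .nil (.cons [8, 4, 13, 6, 3] (.cons [3, 5, 10, 7] .nil .nil) (.cons [13, 4, 13, 6, 3] (.cons [5, 12, 0, 3] .nil .nil) (.cons [16, 4, 13, 6, 3] .nil (.cons [19, 4, 13, 6, 3] (.cons [0, 13, 5] .nil .nil) (.cons [4, 7, 13, 6, 3] (.cons [5, 0, 3, 15] .nil .nil) (.cons [5, 7, 13, 6, 3] (.cons [11, 5, 3, 1] .nil .nil) (.cons [8, 7, 13, 6, 3] (.cons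 [5, 7, 1, 3] .nil .nil) (.cons [12, 7, 13, 6, 3] .nil (.cons [14, 7, 13, 6, 3] .nil (.cons [15, 7, 13, 6, 3] (.cons [1, 7, 11, 12, 11] .nil .nil) (.cons [8, 6, 13, 6, 3] .nil (.cons [14, 6, 13, 6, 3] (.cons [5, 1, 13, 7] .nil .nil) (.cons [0, 8, 13, 6, 3] (.cons [14, 8, 0] .nil .nil) (.cons [1, 8, 13, 6, 3] (.cons [15, 5, 11, 6, 1] .nil .nil) (.cons [2, 8, 13, 6, 3] .nil (.cons [3, 8, 13, 6, 3] (.cons [10, 3, 12, 0, 6] .nil .nil) (.cons [4, 8, 13, 6, 3] .nil (.cons [15, 8, 13, 6, 3] (.cons [11, 3, 15, 0] .nil .nil) (.cons [19, 8, 13, 6, 3] .nil (.cons [0, 15, 13, 6, 3] (.cons [11, 3, 8, 6, 12] .nil .nil) (.cons [3, 15, 13, 6, 3] (.cons [5, 6, 5, 2] .nil .nil) (.cons [15, 15, 13, 6, 3] .nil (.cons [16, 15, 13, 6, 3] .nil (.cons [18, 15, 13, 6, 3] .nil (.cons [0, 14, 13, 6, 3] (.cons [3, 12, 5, 6] .nil .nil) (.cons [1, 14, 13, 6, 3] .nil (.cons [4, 14, 13,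 6, 3] (.cons [12, 9] .nil .nil) (.cons [13, 14, 13, 6, 3] (.cons [12] .nil .nil) (.cons [14, 14, 13, 6, 3] (.cons [11, 13, 6, 3] .nil .nil) (.cons [16, 14, 13, 6, 3] (.cons [11, 2, 9, 11] .nil .nil) (.cons [17, 14, 13, 6, 3] .nil (.cons [4, 17, 13, 6, 3] (.cons [3, 8, 8] .nil .nil) (.cons [5, 17, 13, 6, 3] (.cons [4, 10, 4, 12] .nil .nil) (.cons [6, 17, 13, 6, 3] .nil (.cons [15, 17, 13, 6, 3] (.cons [10, 12, 7, 3] .nil .nil) (.cons [19, 17, 13, 6, 3] .nil (.cons [1, 16, 13, 6, 3] (.cons [15, 4, 7, 1, 3] .nil .nil) (.cons [2, 16, 13, 6, 3] .nil (.cons [7, 16, 13, 6, 3] (.cons [4, 1, 2, 13] .nil .nil) (.cons [16, 16, 13, 6, 3] (.cons [15, 4, 0, 4] .nil .nil) (.cons [1, 19, 13, 6, 3] (.cons [2, 7, 0, 0] .nil .nil) (.cons [8, 19, 13, 6, 3] (.cons [0, 6, 12, 5] .nil .nil) (.cons [1, 18, 13, 6, 3] .nil (.cons [6, 18, 13, 6, 3] .nil (.cons [0, 3, 12, 6, 3] (.cons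 [15, 7, 3, 1, 1] .nil .nil) (.cons [1, 3, 12, 6, 3] .nil (.cons [4, 3, 12, 6, 3] (.cons [11, 11, 6, 9] .nil .nil) (.cons [12, 3, 12, 6, 3] .nil (.cons [14, 3, 12, 6, 3] (.cons [13, 5, 6, 3] .nil .nil) (.cons [15, 3, 12, 6, 3] (.cons [13, 8, 4, 7] .nil .nil) (.cons [16, 3, 12, 6, 3] .nil (.cons [17, 3, 12, 6, 3] (.cons [2, 2, 13, 2] .nil .nil) (.cons [19, 3, 12, 6, 3] (.cons [3, 10, 12, 5, 7] .nil .nil) (.cons [1, 2, 12, 6, 3] .nil (.cons [2, 2, 12, 6, 3] .nil (.cons [4, 2, 12, 6, 3] (.cons [11, 13, 7, 4, 10] .nil .nil) (.cons [12, 2, 12, 6, 3] .nil (.cons [13, 2, 12, 6, 3] (.cons [11, 3, 1, 3] .nil .nil) (.cons [18, 2, 12, 6, 3] .nil (.cons [8, 5, 12, 6, 3] (.cons [0, 13, 6, 1] .nil .nil) (.cons [12, 5, 12, 6, 3] .nil (.cons [15, 5, 12, 6, 3] (.cons [10, 12, 3, 3] .nil .nil) (.cons [17, 5, 12, 6, 3] (.cons [1, 5, 7, 1] .nil .nil) (.cons [12, 4, 12, 6,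 3] .nil (.cons [1, 8, 12, 6, 3] (.cons [3, 7, 10, 13, 2] .nil .nil) (.cons [2, 8, 12, 6, 3] .nil (.cons [6, 8, 12, 6, 3] (.cons [0, 0, 14, 9] .nil .nil) (.cons [13, 8, 12, 6, 3] (.cons [7, 9, 1, 13] .nil .nil) (.cons [14, 8, 12, 6, 3] (.cons [12, 4, 10, 4] .nil .nil) (.cons [17, 8, 12, 6, 3] (.cons [8, 5, 12, 10] .nil .nil) (.cons [0, 15, 12, 6, 3] (.cons [10, 1] .nil .nil) (.cons [1, 15, 12, 6, 3] (.cons [5, 13, 6, 11] .nil .nil) (.cons [8, 15, 12, 6, 3] .nil (.cons [12, 15, 12, 6, 3] (.cons [10, 12, 3, 4, 11] .nil .nil) (.cons [19, 15, 12, 6, 3] .nil (.cons [0, 14, 12, 6, 3] (.cons [15, 7, 7, 3] .nil .nil) (.cons [1, 14, 12, 6, 3] (.cons [10, 5, 2, 10] .nil .nil) (.cons [14, 14, 12, 6, 3] (.cons [10, 13, 5, 3] .nil .nil) (.cons [16, 14, 12, 6, 3] (.cons [15, 7, 1, 11] .nil .nil) (.cons [17, 14, 12, 6, 3] (.cons [9, 0, 0, 14] .nil .nil) (.cons [0, 17,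 12, 6, 3] .nil (.cons [2, 17, 12, 6, 3] .nil (.cons [5, 17, 12, 6, 3] (.cons [3, 10, 4, 12, 2] .nil .nil) (.cons [8, 17, 12, 6, 3] (.cons [15, 5, 5, 7, 3] .nil .nil) (.cons [14, 17, 12, 6, 3] .nil (.cons [15, 17, 12, 6, 3] (.cons [8, 6, 12] .nil .nil) (.cons [4, 16, 12, 6, 3] (.cons [6, 11, 2, 12, 8] .nil .nil) (.cons [5, 16, 12, 6, 3] .nil (.cons [8, 16, 12, 6, 3] .nil (.cons [14, 16, 12, 6, 3] .nil (.cons [8, 19, 12, 6, 3] .nil (.cons [1, 18, 12, 6, 3] (.cons [15, 1, 9, 11] .nil .nil) (.cons [8, 18, 12, 6, 3] (.cons [9, 5, 11, 4, 6] .nil .nil) (.cons [4, 1, 15, 6, 3] (.cons [8, 12, 3] .nil .nil) (.cons [5, 1, 15, 6, 3] (.cons [0, 6, 10] .nil .nil) (.cons [12, 1, 15, 6, 3] (.cons [4, 7, 1, 11, 13] .nil .nil) (.cons [13, 1, 15, 6, 3] .nil (.cons [15, 1, 15, 6, 3] (.cons [14, 2, 11, 9] .nil .nil) (.cons [16, 1, 15, 6, 3] .nil (.cons [18, 1, 15, 6, 3] (.cons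 [6, 15, 7] .nil .nil) (.cons [19, 1, 15, 6, 3] (.cons [7, 11, 2, 12, 8] .nil .nil) (.cons [4, 0, 15, 6, 3] (.cons [3, 3, 14, 2] .nil .nil) (.cons [5, 0, 15, 6, 3] (.cons [7, 12, 10, 6] .nil .nil) (.cons [13, 0, 15, 6, 3] (.cons [12, 6, 10, 8] .nil .nil) (.cons [18, 0, 15, 6, 3] (.cons [11, 7, 13, 6] .nil .nil) (.cons [5, 3, 15, 6, 3] (.cons [5, 14, 4, 4] .nil .nil) (.cons [6, 3, 15, 6, 3] (.cons [5, 10, 5, 12] .nil .nil) (.cons [8, 3, 15, 6, 3] .nil (.cons [12, 3, 15, 6, 3] .nil (.cons [15, 3, 15, 6, 3] .nil (.cons [16, 3, 15, 6, 3] (.cons [5, 14, 4, 11] .nil .nil) (.cons [18, 3, 15, 6, 3] .nil (.cons [19, 3, 15, 6, 3] (.cons [12, 11, 6, 4, 10] .nil .nil) (.cons [13, 5, 15, 6, 3] (.cons [4, 10, 12, 5, 7] .nil .nil) (.cons [15, 5, 15, 6, 3] (.cons [1, 15, 2] .nil .nil) (.cons [16, 5, 15, 6, 3] (.cons [11, 12, 7, 11] .nil .nil) (.cons [19, 5, 15, 6, 3] .nil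 (.cons [7, 4, 15, 6, 3] (.cons [15, 4, 8, 0] .nil .nil) (.cons [15, 4, 15, 6, 3] (.cons [1, 15, 1] .nil .nil) (.cons [16, 4, 15, 6, 3] .nil (.cons [4, 7, 15, 6, 3] (.cons [1, 15, 2] .nil .nil) (.cons [5, 7, 15, 6, 3] (.cons [10, 5, 5, 1] .nil .nil) (.cons [4, 6, 15, 6, 3] (.cons [15, 8, 0] .nil .nil) (.cons [5, 6, 15, 6, 3] (.cons [15, 5, 1, 5, 2] .nil .nil) (.cons [8, 6, 15, 6, 3] (.cons [10, 12, 10, 8] .nil .nil) (.cons [15, 6, 15, 6, 3] .nil (.cons [16, 6, 15, 6, 3] .nil (.cons [18, 6, 15, 6, 3] (.cons [5, 11, 6, 12, 10] .nil .nil) (.cons [3, 8, 15, 6, 3] (.cons [7, 3, 10, 8] .nil .nil) (.cons [7, 8, 15, 6, 3] .nil (.cons [13, 8, 15, 6, 3] (.cons [5, 5, 3, 3] .nil .nil) (.cons [17, 8, 15, 6, 3] (.cons [6, 11, 2, 12, 0] .nil .nil) (.cons [19, 8, 15, 6, 3] (.cons [13, 6, 6, 0] .nil .nil) (.cons [1, 13, 15, 6, 3] (.cons [11, 5, 12, 11] .nil .nil) (.cons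 [3, 13, 15, 6, 3] (.cons [4, 11, 7, 13, 0] .nil .nil) (.cons [6, 13, 15, 6, 3] (.cons [13, 11, 8, 1] .nil .nil) (.cons [7, 13, 15, 6, 3] .nil (.cons [19, 13, 15, 6, 3] .nil (.cons [1, 12, 15, 6, 3] (.cons [15, 1, 3, 7, 1] .nil .nil) (.cons [7, 12, 15, 6, 3] .nil (.cons [8, 12, 15, 6, 3] .nil (.cons [3, 15, 15, 6, 3] (.cons [3, 14, 6] .nil .nil) (.cons [12, 15, 15, 6, 3] (.cons [11, 13, 11, 7, 5] .nil .nil) (.cons [13, 15, 15, 6, 3] (.cons [12, 9, 5, 5] .nil .nil) (.cons [6, 17, 15, 6, 3] .nil (.cons [17, 17, 15, 6, 3] (.cons [7, 11, 11, 11] .nil .nil) (.cons [0, 16, 15, 6, 3] (.cons [4, 1, 12] .nil .nil) (.cons [8, 16, 15, 6, 3] (.cons [1, 10, 6, 1, 11] .nil .nil) (.cons [15, 16, 15, 6, 3] .nil (.cons [16, 16, 15, 6, 3] (.cons [3, 3, 15, 9] .nil .nil) (.cons [6, 19, 15, 6, 3] (.cons [6, 3, 3, 15] .nil .nil) (.cons [7, 18, 15, 6, 3] (.cons [14, 6, 0, 11]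 .nil .nil) (.cons [5, 1, 14, 6, 3] (.cons [12, 1, 5, 3] .nil .nil) (.cons [13, 1, 14, 6, 3] .nil (.cons [16, 1, 14, 6, 3] (.cons [10, 6, 6, 12] .nil .nil) (.cons [4, 0, 14, 6, 3] (.cons [12, 4, 10, 0, 7] .nil .nil) (.cons [13, 0, 14, 6, 3] .nil (.cons [14, 0, 14, 6, 3] (.cons [4, 11, 5] .nil .nil) (.cons [15, 0, 14, 6, 3] (.cons [11, 6, 10, 6, 9] .nil .nil) (.cons [19, 0, 14, 6, 3] (.cons [1, 2, 7, 11, 13] .nil .nil) (.cons [0, 3, 14, 6, 3] (.cons [3, 13, 1, 3] .nil .nil) (.cons [4, 3, 14, 6, 3] (.cons [11, 13, 11, 8] .nil .nil) (.cons [8, 3, 14, 6, 3] (.cons [1, 4] .nil .nil) (.cons [12, 3, 14, 6, 3] (.cons [12, 10, 0, 5] .nil .nil) (.cons [19, 3, 14, 6, 3] (.cons [10, 0, 5, 15] .nil .nil) (.cons [0, 5, 14, 6, 3] (.cons [13, 3, 1, 4, 7] .nil .nil) (.cons [5, 5, 14, 6, 3] (.cons [9, 11, 3, 4, 7] .nil .nil) (.cons [16, 5, 14, 6, 3] (.cons [6, 15, 1, 6]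 .nil .nil) (.cons [12, 4, 14, 6, 3] (.cons [14, 0, 11, 7] .nil .nil) (.cons [14, 4, 14, 6, 3] (.cons [6, 3, 1, 11] .nil .nil) (.cons [16, 4, 14, 6, 3] (.cons [5, 5, 0, 5] .nil .nil) (.cons [17, 4, 14, 6, 3] (.cons [2, 5, 10, 4, 12] .nil .nil) (.cons [2, 8, 14, 6, 3] (.cons [1, 1, 4, 6] .nil .nil) (.cons [3, 8, 14, 6, 3] .nil (.cons [4, 8, 14, 6, 3] (.cons [15, 11, 6] .nil .nil) (.cons [16, 8, 14, 6, 3] (.cons [15, 3, 11, 6, 3] .nil .nil) (.cons [17, 8, 14, 6, 3] .nil (.cons [18, 8, 14, 6, 3] (.cons [4, 7, 3, 4] .nil .nil) (.cons [19, 8, 14, 6, 3] (.cons [5, 6, 11] .nil .nil) (.cons [2, 13, 14, 6, 3] (.cons [10, 13, 10, 3] .nil .nil) (.cons [3, 13, 14, 6, 3] (.cons [2, 10, 6, 12] .nil .nil) (.cons [5, 13, 14, 6, 3] .nil (.cons [18, 13, 14, 6, 3] (.cons [1, 4, 1, 2] .nil .nil) (.cons [1, 12, 14, 6, 3] .nil (.cons [3, 12, 14, 6, 3] (.cons [1, 5, 10, 8] .nil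 .nil) (.cons [8, 12, 14, 6, 3] (.cons [12, 6, 10, 10] .nil .nil) (.cons [3, 14, 14, 6, 3] .nil (.cons [8, 14, 14, 6, 3] .nil (.cons [12, 14, 14, 6, 3] .nil (.cons [16, 14, 14, 6, 3] (.cons [13, 2, 1, 1] .nil .nil) (.cons [19, 14, 14, 6, 3] (.cons [8, 14, 5, 5] .nil .nil) (.cons [17, 17, 14, 6, 3] (.cons [13, 0, 0, 2] .nil .nil) (.cons [19, 17, 14, 6, 3] .nil (.cons [8, 19, 14, 6, 3] .nil (.cons [8, 18, 14, 6, 3] (.cons [10, 9, 4] .nil .nil) (.cons [3, 1, 17, 6, 3] (.cons [7, 4, 3, 10] .nil .nil) (.cons [12, 1, 17, 6, 3] (.cons [5, 15, 7, 3] .nil .nil) (.cons [13, 1, 17, 6, 3] (.cons [4, 10, 12, 5, 2] .nil .nil) (.cons [14, 1, 17, 6, 3] .nil (.cons [16, 1, 17, 6, 3] (.cons [2, 0, 4] .nil .nil) (.cons [19, 1, 17, 6, 3] (.cons [1, 7, 4, 15] .nil .nil) (.cons [2, 0, 17, 6, 3] (.cons [5, 7, 10, 1] .nil .nil) (.cons [3, 0, 17, 6, 3] .nil (.cons [8, 0, 17, 6,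 3] (.cons [11, 2, 7, 12] .nil .nil) (.cons [12, 0, 17, 6, 3] (.cons [6, 10, 7, 13] .nil .nil) (.cons [0, 2, 17, 6, 3] .nil (.cons [12, 2, 17, 6, 3] .nil (.cons [19, 2, 17, 6, 3] .nil (.cons [0, 5, 17, 6, 3] .nil (.cons [5, 5, 17, 6, 3] (.cons [13, 6, 9] .nil .nil) (.cons [6, 5, 17, 6, 3] (.cons [1, 12, 10] .nil .nil) (.cons [8, 5, 17, 6, 3] (.cons [12, 2, 2, 4] .nil .nil) (.cons [13, 5, 17, 6, 3] (.cons [5, 14, 10, 6] .nil .nil) (.cons [15, 5, 17, 6, 3] (.cons [10, 3, 5, 3] .nil .nil) (.cons [18, 5, 17, 6, 3] (.cons [11, 7, 13, 3] .nil .nil) (.cons [17, 4, 17, 6, 3] (.cons [13, 5, 1] .nil .nil) (.cons [8, 7, 17, 6, 3] (.cons [6, 4, 6, 14] .nil .nil) (.cons [12, 7, 17, 6, 3] .nil (.cons [13, 7, 17, 6, 3] .nil (.cons [17, 7, 17, 6, 3] .nil (.cons [19, 7, 17, 6, 3] (.cons [15, 4, 8, 0] .nil .nil) (.cons [13, 6, 17, 6, 3] (.cons [6, 15, 11] .nil .nil) (.cons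 [14, 6, 17, 6, 3] (.cons [13, 9, 11, 6] .nil .nil) (.cons [16, 6, 17, 6, 3] (.cons [3, 0, 6, 11] .nil .nil) (.cons [1, 8, 17, 6, 3] .nil (.cons [2, 8, 17, 6, 3] (.cons [0, 2, 4, 12] .nil .nil) (.cons [5, 8, 17, 6, 3] (.cons [10, 13, 3, 3, 0] .nil .nil) (.cons [6, 8, 17, 6, 3] (.cons [13, 1, 5, 2, 10] .nil .nil) (.cons [7, 8, 17, 6, 3] .nil (.cons [12, 8, 17, 6, 3] (.cons [13, 1, 2, 2] .nil .nil) (.cons [13, 8, 17, 6, 3] .nil (.cons [0, 15, 17, 6, 3] .nil (.cons [1, 15, 17, 6, 3] .nil (.cons [7, 15, 17, 6, 3] .nil (.cons [13, 15, 17, 6, 3] (.cons [0, 6, 2, 12] .nil .nil) (.cons [15, 15, 17, 6, 3] .nil (.cons [1, 14, 17, 6, 3] (.cons [6, 12, 7] .nil .nil) (.cons [3, 14, 17, 6, 3] .nil (.cons [4, 14, 17, 6, 3] (.cons [9, 5, 10, 13, 1] .nil .nil) (.cons [13, 14, 17, 6, 3] (.cons [0, 4, 10, 5, 1] .nil .nil) (.cons [18, 14, 17, 6, 3] (.cons [4, 1, 12, 2] .nil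 .nil) (.cons [2, 17, 17, 6, 3] (.cons [5, 5, 10, 12, 4] .nil .nil) (.cons [4, 17, 17, 6, 3] (.cons [5, 2, 13] .nil .nil) (.cons [8, 17, 17, 6, 3] .nil (.cons [18, 17, 17, 6, 3] (.cons [11, 13, 11, 5] .nil .nil) (.cons [19, 17, 17, 6, 3] (.cons [12, 2, 4, 11] .nil .nil) (.cons [0, 19, 17, 6, 3] (.cons [12, 11, 8] .nil .nil) (.cons [1, 19, 17, 6, 3] (.cons [9, 2, 12, 0] .nil .nil) (.cons [6, 19, 17, 6, 3] (.cons [13, 3, 1] .nil .nil) (.cons [0, 18, 17, 6, 3] .nil (.cons [1, 18, 17, 6, 3] .nil (.cons [7, 18, 17, 6, 3] .nil (.cons [8, 18, 17, 6, 3] (.cons [15, 0, 3, 10] .nil .nil) (.cons [3, 1, 16, 6, 3] (.cons [5, 11, 13, 1] .nil .nil) (.cons [4, 1, 16, 6, 3] .nil (.cons [8, 1, 16, 6, 3] (.cons [14, 10, 3] .nil .nil) (.cons [14, 1, 16, 6, 3] .nil (.cons [16, 1, 16, 6, 3] (.cons [6, 6, 3, 5] .nil .nil) (.cons [17, 1, 16, 6, 3] (.cons [12, 10, 1, 5] .nil .nil)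 (.cons [18, 1, 16, 6, 3] (.cons [11, 5, 0, 2] .nil .nil) (.cons [2, 0, 16, 6, 3] (.cons [15, 11, 8, 2] .nil .nil) (.cons [8, 0, 16, 6, 3] (.cons [11, 7, 15, 3] .nil .nil) (.cons [13, 0, 16, 6, 3] .nil (.cons [14, 0, 16, 6, 3] (.cons [15, 11, 6] .nil .nil) (.cons [16, 0, 16, 6, 3] (.cons [7, 14, 2] .nil .nil) (.cons [17, 0, 16, 6, 3] (.cons [12, 10, 5, 10] .nil .nil) (.cons [0, 2, 16, 6, 3] (.cons [9, 6, 1, 1] .nil .nil) (.cons [13, 2, 16, 6, 3] (.cons [3, 7, 10, 12] .nil .nil) (.cons [14, 2, 16, 6, 3] .nil (.cons [16, 2, 16, 6, 3] .nil (.cons [0, 5, 16, 6, 3] (.cons [8, 3, 6, 3, 11] .nil .nil) (.cons [12, 5, 16, 6, 3] (.cons [11, 12, 2, 10, 4] .nil .nil) (.cons [13, 5, 16, 6, 3] .nil (.cons [4, 4, 16, 6, 3] (.cons [6, 10, 0, 7] .nil .nil) (.cons [14, 4, 16, 6, 3] .nil (.cons [16, 4, 16, 6, 3] (.cons [13, 11, 4, 3] .nil .nil) (.cons [0, 8, 16, 6, 3] (.cons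 [12, 5, 3, 1] .nil .nil) (.cons [3, 8, 16, 6, 3] (.cons [1, 15, 9, 2] .nil .nil) (.cons [5, 8, 16, 6, 3] (.cons [15, 5, 11, 6, 1] .nil .nil) (.cons [13, 8, 16, 6, 3] (.cons [4, 3, 11, 6, 3] .nil .nil) (.cons [15, 8, 16, 6, 3] (.cons [13, 5, 0, 11] .nil .nil) (.cons [3, 15, 16, 6, 3] (.cons [4, 11, 5, 5] .nil .nil) (.cons [5, 15, 16, 6, 3] (.cons [11, 3, 12, 6] .nil .nil) (.cons [8, 15, 16, 6, 3] .nil (.cons [12, 15, 16, 6, 3] (.cons [1, 12, 1, 11] .nil .nil) (.cons [0, 14, 16, 6, 3] (.cons [11, 3, 13] .nil .nil) (.cons [1, 14, 16, 6, 3] (.cons [5, 3, 11, 5] .nil .nil) (.cons [14, 14, 16, 6, 3] .nil (.cons [16, 14, 16, 6, 3] .nil (.cons [19, 14, 16, 6, 3] (.cons [2, 5, 10, 6, 13] .nil .nil) (.cons [5, 16, 16, 6, 3] (.cons [0, 12, 3] .nil .nil) (.cons [14, 16, 16, 6, 3] (.cons [11, 2, 5, 12, 11] .nil .nil) (.cons [15, 16, 16, 6, 3] .nil (.cons [18, 16, 16,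 6, 3] (.cons [1, 9, 5, 14] .nil .nil) (.cons [1, 19, 16, 6, 3] (.cons [11, 5, 1, 5, 13] .nil .nil) (.cons [8, 19, 16, 6, 3] .nil (.cons [0, 18, 16, 6, 3] (.cons [4, 1, 12, 2] .nil .nil) (.cons [8, 1, 19, 6, 3] .nil (.cons [8, 0, 19, 6, 3] .nil (.cons [5, 8, 19, 6, 3] (.cons [4, 0, 3, 11] .nil .nil) (.cons [12, 8, 19, 6, 3] (.cons [10, 9, 12, 5] .nil .nil) (.cons [16, 8, 19, 6, 3] .nil (.cons [19, 8, 19, 6, 3] (.cons [14, 6, 11, 6] .nil .nil) (.cons [0, 8, 18, 6, 3] .nil (.cons [1, 8, 18, 6, 3] (.cons [9, 5, 5] .nil .nil) (.cons [3, 8, 18, 6, 3] .nil (.cons [4, 8, 18, 6, 3] (.cons [1, 1, 4, 10, 12] .nil .nil) (.cons [6, 8, 18, 6, 3] (.cons [1, 3, 7, 1, 3] .nil .nil) (.cons [7, 8, 18, 6, 3] (.cons [13, 9, 4] .nil .nil) (.cons [13, 8, 18, 6, 3] (.cons [2, 1, 5, 2] .nil .nil) (.cons [14, 8, 18, 6, 3] .nil (.cons [17, 8, 18, 6, 3] (.cons [9, 5, 11, 4, 6] .nil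 .nil) (.cons [12, 8, 1, 8, 3] (.cons [6, 1, 11, 7] .nil .nil) (.cons [8, 5, 7, 8, 3] (.cons [0, 2, 4, 10, 7] .nil .nil) (.cons [12, 5, 7, 8, 3] .nil (.cons [13, 5, 7, 8, 3] (.cons [4, 15, 4, 4] .nil .nil) (.cons [4, 4, 7, 8, 3] (.cons [2, 0] .nil .nil) (.cons [12, 4, 7, 8, 3] .nil (.cons [15, 13, 7, 8, 3] .nil (.cons [17, 13, 7, 8, 3] (.cons [8, 4, 7, 12] .nil .nil) (.cons [1, 12, 7, 8, 3] .nil (.cons [2, 12, 7, 8, 3] .nil (.cons [6, 12, 7, 8, 3] (.cons [14, 5, 10] .nil .nil) (.cons [17, 12, 7, 8, 3] (.cons [0, 15, 6, 0] .nil .nil) (.cons [18, 12, 7, 8, 3] (.cons [14, 3, 10, 6] .nil .nil) (.cons [18, 15, 7, 8, 3] (.cons [3, 12, 3] .nil .nil) (.cons [3, 14, 7, 8, 3] (.cons [15, 3, 1, 6] .nil .nil) (.cons [13, 14, 7, 8, 3] (.cons [12, 0, 6, 4] .nil .nil) (.cons [6, 17, 7, 8, 3] .nil (.cons [8, 17, 7, 8, 3] .nil (.cons [8, 19, 7, 8, 3] .nil (.cons [13, 5,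 6, 8, 3] (.cons [8, 5, 10, 2] .nil .nil) (.cons [15, 13, 6, 8, 3] .nil (.cons [2, 12, 6, 8, 3] (.cons [5, 15, 2, 2] .nil .nil) (.cons [3, 12, 6, 8, 3] (.cons [15, 1, 6, 3] .nil .nil) (.cons [8, 12, 6, 8, 3] .nil (.cons [18, 12, 6, 8, 3] (.cons [8, 5, 12] .nil .nil) (.cons [13, 14, 6, 8, 3] (.cons [1, 8, 8] .nil .nil) (.cons [6, 1, 13, 8, 3] (.cons [10, 12, 0, 11] .nil .nil) (.cons [7, 1, 13, 8, 3] (.cons [4, 0, 2, 0, 14] .nil .nil) (.cons [4, 7, 13, 8, 3] (.cons [12, 0, 0, 4] .nil .nil) (.cons [5, 7, 13, 8, 3] (.cons [11, 12, 6, 9, 11] .nil .nil) (.cons [8, 7, 13, 8, 3] (.cons [11, 6, 12, 5] .nil .nil) (.cons [13, 7, 13, 8, 3] (.cons [13, 0, 2, 10, 2] .nil .nil) (.cons [15, 7, 13, 8, 3] (.cons [2, 0, 14, 10] .nil .nil) (.cons [17, 7, 13, 8, 3] .nil (.cons [18, 7, 13, 8, 3] (.cons [6, 11, 2, 12, 0] .nil .nil) (.cons [5, 6, 13, 8, 3] (.cons [6, 4, 15] .nil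 .nil) (.cons [14, 6, 13, 8, 3] .nil (.cons [15, 6, 13, 8, 3] .nil (.cons [16, 6, 13, 8, 3] (.cons [3, 13, 2, 4] .nil .nil) (.cons [18, 6, 13, 8, 3] (.cons [14, 1, 8, 1] .nil .nil) (.cons [6, 1, 12, 8, 3] (.cons [10, 12, 4, 4, 6] .nil .nil) (.cons [7, 1, 12, 8, 3] .nil (.cons [5, 7, 12, 8, 3] (.cons [7, 10, 6, 9] .nil .nil) (.cons [14, 7, 12, 8, 3] .nil (.cons [15, 7, 12, 8, 3] .nil (.cons [16, 7, 12, 8, 3] .nil (.cons [5, 6, 12, 8, 3] (.cons [3, 0, 10, 4] .nil .nil) (.cons [12, 6, 12, 8, 3] .nil (.cons [13, 6, 12, 8, 3] (.cons [14, 2, 10, 3, 3] .nil .nil) (.cons [14, 6, 12, 8, 3] (.cons [14, 9, 6, 1, 1] .nil .nil) (.cons [8, 5, 6, 0, 2] .nil (.cons [13, 5, 6, 0, 2] .nil (.cons [15, 5, 6, 0, 2] (.cons [12, 11, 5, 6, 11] .nil .nil) (.cons [17, 5, 6, 0, 2] (.cons [12, 6, 0, 0] .nil .nil) (.cons [13, 4, 6, 0, 2] .nil (.cons [15, 4, 6, 0, 2] (.cons [5, 2, 11,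 7] .nil .nil) (.cons [16, 4, 6, 0, 2] (.cons [1, 11, 4, 13, 6] .nil .nil) (.cons [17, 4, 6, 0, 2] .nil (.cons [19, 4, 6, 0, 2] (.cons [8, 4, 15, 4] .nil .nil) (.cons [15, 8, 6, 0, 2] (.cons [1, 5, 7, 1] .nil .nil) (.cons [16, 8, 6, 0, 2] .nil (.cons [19, 8, 6, 0, 2] .nil (.cons [7, 13, 6, 0, 2] (.cons [4, 8, 10, 1] .nil .nil) (.cons [15, 13, 6, 0, 2] (.cons [7, 12, 2, 5] .nil .nil) (.cons [19, 13, 6, 0, 2] (.cons [5, 10, 1, 13] .nil .nil) (.cons [3, 12, 6, 0, 2] .nil (.cons [17, 12, 6, 0, 2] (.cons [12, 4, 1, 2] .nil .nil) (.cons [19, 12, 6, 0, 2] .nil (.cons [15, 15, 6, 0, 2] (.cons [5, 3, 15] .nil .nil) (.cons [17, 15, 6, 0, 2] .nil (.cons [18, 15, 6, 0, 2] .nil (.cons [19, 15, 6, 0, 2] (.cons [3, 1, 11, 7] .nil .nil) (.cons [4, 14, 6, 0, 2] (.cons [7, 10, 10] .nil .nil) (.cons [8, 14, 6, 0, 2] (.cons [2, 13, 9, 7] .nil .nil) (.cons [12, 14, 6, 0, 2]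 .nil (.cons [13, 14, 6, 0, 2] (.cons [4, 15, 8, 1] .nil .nil) (.cons [14, 14, 6, 0, 2] (.cons [12, 9, 3, 1] .nil .nil) (.cons [18, 14, 6, 0, 2] (.cons [10, 4, 12, 1] .nil .nil) (.cons [0, 17, 6, 0, 2] (.cons [11, 12, 3, 1, 7] .nil .nil) (.cons [5, 17, 6, 0, 2] (.cons [6, 4, 10, 13, 5] .nil .nil) (.cons [14, 17, 6, 0, 2] .nil (.cons [19, 17, 6, 0, 2] (.cons [12, 8, 2, 1, 7] .nil .nil) (.cons [1, 16, 6, 0, 2] (.cons [10, 4, 10, 7] .nil .nil) (.cons [4, 16, 6, 0, 2] .nil (.cons [8, 16, 6, 0, 2] (.cons [11, 8, 1, 5, 12] .nil .nil) (.cons [16, 16, 6, 0, 2] (.cons [0, 11, 4, 12] .nil .nil) (.cons [18, 16, 6, 0, 2] (.cons [11, 4, 10, 0] .nil .nil) (.cons [19, 16, 6, 0, 2] .nil (.cons [8, 18, 6, 0, 2] (.cons [6, 0, 2, 2] .nil .nil) (.cons [2, 0, 5, 6, 2] (.cons [5, 0, 10, 5] .nil .nil) (.cons [3, 0, 5, 6, 2] (.cons [13, 11, 11, 7, 1] .nil .nil) (.cons [14, 0,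 5, 6, 2] .nil (.cons [15, 0, 5, 6, 2] (.cons [11, 12, 3, 1, 3] .nil .nil) (.cons [18, 0, 5, 6, 2] (.cons [10, 3] .nil .nil) (.cons [8, 5, 5, 6, 2] (.cons [6, 11, 2, 1] .nil .nil) (.cons [12, 5, 5, 6, 2] .nil (.cons [13, 5, 5, 6, 2] (.cons [1, 6, 1, 2] .nil .nil) (.cons [15, 5, 5, 6, 2] .nil (.cons [16, 6, 5, 6, 2] .nil (.cons [17, 6, 5, 6, 2] .nil (.cons [2, 8, 5, 6, 2] (.cons [0, 6, 6, 11] .nil .nil) (.cons [7, 8, 5, 6, 2] (.cons [12, 10, 6, 5] .nil .nil) (.cons [15, 8, 5, 6, 2] (.cons [13, 8, 11, 4] .nil .nil) (.cons [16, 8, 5, 6, 2] (.cons [6, 15, 5, 5] .nil .nil) (.cons [18, 8, 5, 6, 2] (.cons [5, 13, 4, 10] .nil .nil) (.cons [2, 13, 5, 6, 2] .nil (.cons [5, 13, 5, 6, 2] (.cons [6, 8, 6, 12] .nil .nil) (.cons [7, 13, 5, 6, 2] (.cons [11, 6, 12, 6] .nil .nil) (.cons [8, 13, 5, 6, 2] (.cons [6, 10, 5, 10] .nil .nil) (.cons [14, 13, 5, 6, 2] .nil (.cons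 [16, 13, 5, 6, 2] .nil (.cons [19, 13, 5, 6, 2] .nil (.cons [5, 12, 5, 6, 2] .nil (.cons [6, 12, 5, 6, 2] (.cons [9, 4, 6, 15] .nil .nil) (.cons [16, 12, 5, 6, 2] (.cons [13, 2, 4, 1, 7] .nil .nil) (.cons [17, 12, 5, 6, 2] (.cons [13, 1, 11, 6] .nil .nil) (.cons [7, 15, 5, 6, 2] (.cons [12, 3, 3] .nil .nil) (.cons [16, 15, 5, 6, 2] (.cons [3, 12, 11, 9] .nil .nil) (.cons [19, 15, 5, 6, 2] (.cons [15, 0, 2, 6, 0] .nil .nil) (.cons [4, 14, 5, 6, 2] (.cons [7, 7, 11, 2, 13] .nil .nil) (.cons [7, 14, 5, 6, 2] .nil (.cons [8, 14, 5, 6, 2] .nil (.cons [16, 14, 5, 6, 2] (.cons [9, 3, 14, 5] .nil .nil) (.cons [17, 14, 5, 6, 2] .nil (.cons [0, 17, 5, 6, 2] (.cons [12, 11, 7, 5] .nil .nil) (.cons [4, 17, 5, 6, 2] (.cons [15, 11, 9, 2] .nil .nil) (.cons [5, 17, 5, 6, 2] (.cons [10, 2, 12] .nil .nil) (.cons [6, 17, 5, 6, 2] (.cons [3, 0, 0, 7] .nil .nil) (.cons [7,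 17, 5, 6, 2] .nil (.cons [15, 17, 5, 6, 2] (.cons [1, 1, 13] .nil .nil) (.cons [17, 17, 5, 6, 2] (.cons [12, 3, 10] .nil .nil) (.cons [18, 17, 5, 6, 2] (.cons [11, 12, 11, 8] .nil .nil) (.cons [2, 16, 5, 6, 2] .nil (.cons [5, 16, 5, 6, 2] (.cons [8, 7, 15, 6] .nil .nil) (.cons [14, 16, 5, 6, 2] (.cons [2, 0, 6, 13] .nil .nil) (.cons [15, 16, 5, 6, 2] .nil (.cons [19, 16, 5, 6, 2] (.cons [11, 3, 6, 10] .nil .nil) (.cons [0, 19, 5, 6, 2] .nil (.cons [1, 19, 5, 6, 2] .nil (.cons [19, 19, 5, 6, 2] .nil (.cons [3, 0, 4, 6, 2] .nil (.cons [4, 0, 4, 6, 2] (.cons [6, 12, 10, 10] .nil .nil) (.cons [14, 0, 4, 6, 2] (.cons [3, 3, 13, 3] .nil .nil) (.cons [17, 0, 4, 6, 2] .nil (.cons [12, 4, 4, 6, 2] .nil (.cons [13, 4, 4, 6, 2] (.cons [2, 6, 12, 10] .nil .nil) (.cons [1, 8, 4, 6, 2] (.cons [11, 5, 5, 13, 1] .nil .nil) (.cons [2, 8, 4, 6, 2] (.cons [3, 15, 6] .nil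 .nil) (.cons [6, 8, 4, 6, 2] (.cons [4, 6, 11, 4, 13] .nil .nil) (.cons [17, 8, 4, 6, 2] (.cons [4, 1, 6, 15] .nil .nil) (.cons [4, 13, 4, 6, 2] (.cons [6, 4, 10, 9, 12] .nil .nil) (.cons [14, 13, 4, 6, 2] (.cons [15, 0, 8, 2] .nil .nil) (.cons [15, 13, 4, 6, 2] (.cons [7, 0, 6, 2] .nil .nil) (.cons [16, 13, 4, 6, 2] .nil (.cons [17, 13, 4, 6, 2] (.cons [5, 2, 1, 12] .nil .nil) (.cons [18, 13, 4, 6, 2] (.cons [10, 4, 10, 4] .nil .nil) (.cons [1, 12, 4, 6, 2] (.cons [5, 10, 12, 3] .nil .nil) (.cons [4, 12, 4, 6, 2] (.cons [12, 5, 7, 5] .nil .nil) (.cons [12, 12, 4, 6, 2] (.cons [10, 12, 2] .nil .nil) (.cons [19, 12, 4, 6, 2] (.cons [12, 1, 2, 4] .nil .nil) (.cons [3, 15, 4, 6, 2] .nil (.cons [8, 15, 4, 6, 2] (.cons [14, 0, 3, 5] .nil .nil) (.cons [15, 15, 4, 6, 2] (.cons [6, 6, 12, 2] .nil .nil) (.cons [4, 14, 4, 6, 2] (.cons [6, 10, 7, 9, 13] .nil .nil)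 (.cons [12, 14, 4, 6, 2] (.cons [13, 3, 4, 4, 1] .nil .nil) (.cons [16, 14, 4, 6, 2] (.cons [2, 1, 11, 8, 7] .nil .nil) (.cons [0, 17, 4, 6, 2] (.cons [6, 10, 2, 12] .nil .nil) (.cons [1, 17, 4, 6, 2] .nil (.cons [4, 17, 4, 6, 2] (.cons [15, 9, 3, 5] .nil .nil) (.cons [5, 17, 4, 6, 2] (.cons [8, 10, 5, 1] .nil .nil) (.cons [0, 16, 4, 6, 2] .nil (.cons [16, 16, 4, 6, 2] (.cons [11, 13, 1, 1] .nil .nil) (.cons [18, 16, 4, 6, 2] (.cons [0, 10, 7, 1] .nil .nil) (.cons [18, 18, 4, 6, 2] (.cons [1, 7, 7, 10] .nil .nil) (.cons [2, 1, 8, 6, 2] (.cons [4, 14, 7, 10] .nil .nil) (.cons [8, 1, 8, 6, 2] .nil (.cons [15, 1, 8, 6, 2] (.cons [5, 2, 15] .nil .nil) (.cons [18, 1, 8, 6, 2] .nil (.cons [8, 0, 8, 6, 2] .nil (.cons [12, 0, 8, 6, 2] (.cons [14, 4, 2, 6, 4] .nil .nil) (.cons [18, 0, 8, 6, 2] .nil (.cons [8, 3, 8, 6, 2] .nil (.cons [13, 3, 8, 6, 2] .nil (.cons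 [18, 3, 8, 6, 2] (.cons [9, 0, 0, 5] .nil .nil) (.cons [4, 2, 8, 6, 2] .nil (.cons [12, 5, 8, 6, 2] .nil (.cons [17, 5, 8, 6, 2] (.cons [15, 9, 10, 6, 4] .nil .nil) (.cons [19, 5, 8, 6, 2] .nil (.cons [17, 4, 8, 6, 2] (.cons [4, 11, 11, 7] .nil .nil) (.cons [19, 4, 8, 6, 2] .nil (.cons [4, 7, 8, 6, 2] (.cons [6, 12, 4] .nil .nil) (.cons [8, 7, 8, 6, 2] (.cons [5, 5, 6, 3] .nil .nil) (.cons [12, 7, 8, 6, 2] (.cons [3, 1, 10, 13, 7] .nil .nil) (.cons [18, 7, 8, 6, 2] (.cons [10, 13, 6, 2] .nil .nil) (.cons [8, 6, 8, 6, 2] .nil (.cons [12, 6, 8, 6, 2] (.cons [1, 5, 1, 7] .nil .nil) (.cons [15, 6, 8, 6, 2] (.cons [2, 5, 1] .nil .nil) (.cons [4, 13, 8, 6, 2] .nil (.cons [16, 13, 8, 6, 2] (.cons [2, 10, 2] .nil .nil) (.cons [19, 13, 8, 6, 2] (.cons [5, 15, 5] .nil .nil) (.cons [7, 12, 8, 6, 2] (.cons [11, 8, 13, 2] .nil .nil) (.cons [14, 12, 8, 6, 2] .nil (.cons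 [17, 12, 8, 6, 2] .nil (.cons [1, 15, 8, 6, 2] .nil (.cons [6, 15, 8, 6, 2] (.cons [10, 3, 14, 5] .nil .nil) (.cons [7, 15, 8, 6, 2] (.cons [14, 10, 1, 3] .nil .nil) (.cons [13, 15, 8, 6, 2] (.cons [4, 10, 6, 13, 1] .nil .nil) (.cons [18, 15, 8, 6, 2] (.cons [7, 13, 11, 4] .nil .nil) (.cons [1, 14, 8, 6, 2] .nil (.cons [3, 14, 8, 6, 2] .nil (.cons [19, 14, 8, 6, 2] (.cons [2, 4] .nil .nil) (.cons [2, 17, 8, 6, 2] (.cons [12, 7, 0, 7, 7] .nil .nil) (.cons [7, 17, 8, 6, 2] .nil (.cons [0, 16, 8, 6, 2] (.cons [6, 10, 1, 4, 12] .nil .nil) (.cons [2, 16, 8, 6, 2] .nil (.cons [5, 16, 8, 6, 2] (.cons [15, 5, 5, 0, 2] .nil .nil) (.cons [0, 19, 8, 6, 2] (.cons [10, 0, 12, 4] .nil .nil) (.cons [7, 19, 8, 6, 2] (.cons [4, 6, 0, 6] .nil .nil) (.cons [13, 1, 13, 6, 2] (.cons [1, 4, 4, 1] (.cons [1, 3] (.leaf 6) .nil) .nil) (.cons [14, 1, 13, 6, 2] .nil (.cons [15,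 1, 13, 6, 2] (.cons [2, 10, 3] .nil .nil) (.cons [16, 1, 13, 6, 2] (.cons [6, 0, 5, 3] .nil .nil) (.cons [8, 3, 13, 6, 2] (.cons [2, 4, 6, 11, 12] .nil .nil) (.cons [12, 3, 13, 6, 2] .nil (.cons [13, 3, 13, 6, 2] .nil (.cons [14, 3, 13, 6, 2] .nil (.cons [15, 3, 13, 6, 2] .nil (.cons [16, 3, 13, 6, 2] .nil (.cons [17, 3, 13, 6, 2] (.cons [2, 10, 8, 12] .nil .nil) (.cons [18, 3, 13, 6, 2] .nil (.cons [2, 2, 13, 6, 2] (.cons [1, 11, 12, 3, 0] .nil .nil) (.cons [4, 2, 13, 6, 2] (.cons [12, 6, 11, 3] .nil .nil) (.cons [7, 2, 13, 6, 2] .nil (.cons [13, 2, 13, 6, 2] (.cons [5, 2, 12, 10] .nil .nil) (.cons [14, 2, 13, 6, 2] (.cons [11, 5, 13, 6, 4] .nil .nil) (.cons [16, 2, 13, 6, 2] .nil (.cons [5, 5, 13, 6, 2] .nil (.cons [6, 5, 13, 6, 2] (.cons [14, 4, 11, 7] .nil .nil) (.cons [13, 5, 13, 6, 2] (.cons [12, 10, 5, 8, 0] .nil .nil) (.cons [15, 5, 13, 6, 2] .nil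 (.cons [6, 4, 13, 6, 2] (.cons [10, 13, 6, 0, 6] .nil .nil) (.cons [8, 4, 13, 6, 2] (.cons [15, 7, 4, 7] .nil .nil) (.cons [16, 4, 13, 6, 2] .nil (.cons [19, 4, 13, 6, 2] (.cons [3, 15, 7, 2] .nil .nil) (.cons [5, 7, 13, 6, 2] (.cons [1, 14, 10, 8] .nil .nil) (.cons [17, 7, 13, 6, 2] (.cons [10, 12, 0, 11] .nil .nil) (.cons [18, 7, 13, 6, 2] .nil (.cons [4, 6, 13, 6, 2] (.cons [12, 8, 7, 0, 7] .nil .nil) (.cons [5, 6, 13, 6, 2] .nil (.cons [8, 6, 13, 6, 2] .nil (.cons [1, 8, 13, 6, 2] (.cons [7, 0, 7, 11] .nil .nil) (.cons [2, 8, 13, 6, 2] .nil (.cons [14, 8, 13, 6, 2] (.cons [12, 6, 5, 5] .nil .nil) (.cons [3, 13, 13, 6, 2] (.cons [9, 10, 12, 7] .nil .nil) (.cons [14, 13, 13, 6, 2] (.cons [13, 7, 2, 2] .nil .nil) (.cons [18, 13, 13, 6, 2] (.cons [2, 12, 0, 3] .nil .nil) (.cons [0, 15, 13, 6, 2] (.cons [5, 11, 4, 0] .nil .nil) (.cons [4, 15, 13, 6, 2]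 .nil (.cons [7, 15, 13, 6, 2] (.cons [3, 6, 12, 7] .nil .nil) (.cons [1, 14, 13, 6, 2] .nil (.cons [8, 14, 13, 6, 2] .nil (.cons [16, 14, 13, 6, 2] .nil (.cons [4, 17, 13, 6, 2] (.cons [2, 5, 10] .nil .nil) (.cons [15, 17, 13, 6, 2] (.cons [11, 8, 1] .nil .nil) (.cons [18, 17, 13, 6, 2] (.cons [4, 8, 4] .nil .nil) (.cons [19, 17, 13, 6, 2] .nil (.cons [8, 16, 13, 6, 2] (.cons [7, 4, 10, 12] .nil .nil) (.cons [16, 16, 13, 6, 2] (.cons [5, 11, 8, 4, 13] .nil .nil) (.cons [8, 19, 13, 6, 2] (.cons [3, 10, 6, 9] .nil .nil) (.cons [19, 19, 13, 6, 2] (.cons [3, 10, 9, 10] .nil .nil) (.cons [0, 18, 13, 6, 2] .nil (.cons [7, 18, 13, 6, 2] .nil (.cons [13, 1, 12, 6, 2] .nil (.cons [15, 1, 12, 6, 2] (.cons [0, 11, 4, 6] .nil .nil) (.cons [16, 1, 12, 6, 2] (.cons [11, 6, 12, 8] .nil .nil) (.cons [12, 3, 12, 6, 2] (.cons [13, 2, 9, 0] .nil .nil) (.cons [17, 3, 12,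 6, 2] (.cons [5, 6, 10, 13, 7] .nil .nil) (.cons [18, 3, 12, 6, 2] .nil (.cons [19, 3, 12, 6, 2] .nil (.cons [4, 2, 12, 6, 2] (.cons [8, 8] .nil .nil) (.cons [8, 2, 12, 6, 2] (.cons [0, 3, 13] .nil .nil) (.cons [12, 2, 12, 6, 2] .nil (.cons [18, 2, 12, 6, 2] .nil (.cons [5, 5, 12, 6, 2] (.cons [6, 11, 6, 13] .nil .nil) (.cons [8, 5, 12, 6, 2] (.cons [11, 3, 13, 5, 0] .nil .nil) (.cons [15, 5, 12, 6, 2] (.cons [10, 1, 7, 11] .nil .nil) (.cons [19, 5, 12, 6, 2] (.cons [1, 6, 2, 12] .nil .nil) (.cons [12, 4, 12, 6, 2] .nil (.cons [16, 4, 12, 6, 2] (.cons [7, 0, 6, 2] .nil .nil) (.cons [1, 8, 12, 6, 2] .nil (.cons [2, 8, 12, 6, 2] .nil (.cons [4, 8, 12, 6, 2] (.cons [4, 3, 1, 3] .nil .nil) (.cons [7, 8, 12, 6, 2] (.cons [10, 4, 11, 9] .nil .nil) (.cons [13, 8, 12, 6, 2] (.cons [8, 7] .nil .nil) (.cons [14, 8, 12, 6, 2] (.cons [2, 11, 11, 11] .nil .nil) (.cons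 [17, 8, 12, 6, 2] (.cons [6, 1, 5, 2] .nil .nil) (.cons [3, 12, 12, 6, 2] (.cons [12, 2, 11, 2] .nil .nil) (.cons [14, 12, 12, 6, 2] .nil (.cons [15, 12, 12, 6, 2] .nil (.cons [17, 12, 12, 6, 2] (.cons [14, 2, 6, 4] .nil .nil) (.cons [1, 15, 12, 6, 2] (.cons [11, 13, 2, 10] .nil .nil) (.cons [12, 15, 12, 6, 2] (.cons [13, 6, 6, 5] .nil .nil) (.cons [19, 15, 12, 6, 2] .nil (.cons [0, 14, 12, 6, 2] (.cons [11, 12, 0, 4] .nil .nil) (.cons [1, 14, 12, 6, 2] (.cons [10, 5, 10, 7, 0] .nil .nil) (.cons [12, 14, 12, 6, 2] (.cons [13, 3, 9, 3] .nil .nil) (.cons [14, 14, 12, 6, 2] (.cons [0, 11, 5, 6, 12] .nil .nil) (.cons [0, 17, 12, 6, 2] .nil (.cons [2, 17, 12, 6, 2] (.cons [4, 12, 6, 9] .nil .nil) (.cons [8, 17, 12, 6, 2] (.cons [11, 12, 7, 10, 3] .nil .nil) (.cons [14, 17, 12, 6, 2] .nil (.cons [15, 17, 12, 6, 2] (.cons [0, 3, 10, 2] .nil .nil) (.cons [19,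 17, 12, 6, 2] (.cons [15, 1, 5, 2] .nil .nil) (.cons [0, 16, 12, 6, 2] (.cons [0, 6, 13, 3] .nil .nil) (.cons [1, 16, 12, 6, 2] (.cons [11, 11, 7, 5] .nil .nil) (.cons [8, 16, 12, 6, 2] .nil (.cons [14, 16, 12, 6, 2] .nil (.cons [0, 19, 12, 6, 2] .nil (.cons [8, 19, 12, 6, 2] .nil (.cons [18, 18, 12, 6, 2] .nil (.cons [4, 1, 15, 6, 2] (.cons [2, 1, 1, 3] .nil .nil) (.cons [5, 1, 15, 6, 2] (.cons [9, 5, 11, 3] .nil .nil) (.cons [12, 1, 15, 6, 2] (.cons [2, 5, 10, 3] .nil .nil) (.cons [15, 1, 15, 6, 2] (.cons [10, 13, 1, 5] .nil .nil) (.cons [4, 0, 15, 6, 2] .nil (.cons [5, 0, 15, 6, 2] (.cons [13, 3, 10, 3] .nil .nil) (.cons [17, 5, 15, 6, 2] (.cons [15, 0, 4, 3] .nil .nil) (.cons [7, 4, 15, 6, 2] (.cons [1, 15, 7] .nil .nil) (.cons [4, 6, 15, 6, 2] (.cons [7, 0, 6, 2] .nil .nil) (.cons [8, 6, 15, 6, 2] .nil (.cons [16, 6, 15, 6, 2] .nil (.cons [0, 8, 15,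 6, 2] (.cons [6, 15, 3] .nil .nil) (.cons [6, 8, 15, 6, 2] .nil (.cons [7, 8, 15, 6, 2] .nil (.cons [14, 8, 15, 6, 2] (.cons [7, 11, 5, 10] .nil .nil) (.cons [15, 8, 15, 6, 2] (.cons [0, 7, 13, 4] .nil .nil) (.cons [3, 13, 15, 6, 2] (.cons [11, 0, 3, 12] .nil .nil) (.cons [5, 12, 15, 6, 2] (.cons [15, 6, 0, 2] .nil .nil) (.cons [7, 12, 15, 6, 2] .nil (.cons [13, 15, 15, 6, 2] (.cons [12, 1, 6, 2, 2] .nil .nil) (.cons [6, 17, 15, 6, 2] .nil (.cons [7, 17, 15, 6, 2] .nil (.cons [1, 16, 15, 6, 2] .nil (.cons [8, 16, 15, 6, 2] .nil (.cons [6, 19, 15, 6, 2] .nil (.cons [8, 19, 15, 6, 2] (.cons [3, 13, 7] .nil .nil) (.cons [7, 18, 15, 6, 2] (.cons [11, 12, 5, 1, 3] .nil .nil) (.cons [3, 1, 14, 6, 2] .nil (.cons [13, 1, 14, 6, 2] .nil (.cons [5, 0, 14, 6, 2] (.cons [13, 7, 3, 0, 11] .nil .nil) (.cons [13, 0, 14, 6, 2] .nil (.cons [16, 0, 14, 6, 2] (.cons [3,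 10, 6, 11, 5] .nil .nil) (.cons [0, 5, 14, 6, 2] (.cons [11, 0, 11, 4, 11] .nil .nil) (.cons [5, 5, 14, 6, 2] .nil (.cons [14, 4, 14, 6, 2] (.cons [6, 11, 4, 6] .nil .nil) (.cons [17, 4, 14, 6, 2] (.cons [5, 2, 10, 8, 12] .nil .nil) (.cons [1, 8, 14, 6, 2] (.cons [15, 4, 7, 10] .nil .nil) (.cons [1, 13, 14, 6, 2] (.cons [10, 7, 0, 7, 11] .nil .nil) (.cons [3, 13, 14, 6, 2] .nil (.cons [5, 13, 14, 6, 2] .nil (.cons [18, 13, 14, 6, 2] (.cons [5, 1, 5, 2] .nil .nil) (.cons [1, 12, 14, 6, 2] .nil (.cons [3, 14, 14, 6, 2] (.cons [14, 6, 5, 2] .nil .nil) (.cons [4, 14, 14, 6, 2] (.cons [1, 4, 11, 4] .nil .nil) (.cons [5, 14, 14, 6, 2] .nil (.cons [13, 14, 14, 6, 2] (.cons [5, 10, 2] .nil .nil) (.cons [16, 14, 14, 6, 2] (.cons [13, 4, 0, 11] .nil .nil) (.cons [17, 14, 14, 6, 2] .nil (.cons [19, 14, 14, 6, 2] (.cons [15, 2, 7, 5] (.cons [3] (.leaf 8) .nil) .nil)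 (.cons [19, 17, 14, 6, 2] .nil (.cons [8, 16, 14, 6, 2] .nil (.cons [16, 16, 14, 6, 2] (.cons [6, 10, 1, 12] .nil .nil) (.cons [1, 19, 14, 6, 2] (.cons [7, 4, 2, 0] .nil .nil) (.cons [3, 1, 17, 6, 2] (.cons [15, 3, 10, 2, 2] .nil .nil) (.cons [12, 1, 17, 6, 2] (.cons [1, 5, 5] .nil .nil) (.cons [13, 1, 17, 6, 2] (.cons [10, 7, 7] .nil .nil) (.cons [2, 0, 17, 6, 2] (.cons [13, 6, 8, 11] .nil .nil) (.cons [3, 0, 17, 6, 2] .nil (.cons [6, 0, 17, 6, 2] (.cons [8, 11, 4, 11, 4] .nil .nil) (.cons [8, 0, 17, 6, 2] (.cons [5, 1, 11, 0, 12] .nil .nil) (.cons [15, 0, 17, 6, 2] (.cons [1, 2, 7, 11, 13] .nil .nil) (.cons [17, 0, 17, 6, 2] (.cons [14, 3, 4, 7, 11] .nil .nil) (.cons [0, 2, 17, 6, 2] .nil (.cons [5, 2, 17, 6, 2] (.cons [15, 2, 2, 1] .nil .nil) (.cons [17, 2, 17, 6, 2] (.cons [7, 5, 10, 12, 6] .nil .nil) (.cons [0, 5, 17, 6, 2] .nil (.cons [6, 5, 17,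 6, 2] (.cons [4, 11, 13, 0, 11] .nil .nil) (.cons [13, 5, 17, 6, 2] (.cons [11, 0, 2, 5] .nil .nil) (.cons [18, 5, 17, 6, 2] .nil (.cons [12, 7, 17, 6, 2] (.cons [0, 10, 13, 6, 10] .nil .nil) (.cons [13, 7, 17, 6, 2] .nil (.cons [17, 7, 17, 6, 2] .nil (.cons [14, 6, 17, 6, 2] (.cons [2, 7, 12, 4] .nil .nil) (.cons [1, 8, 17, 6, 2] (.cons [15, 9, 5, 5] .nil .nil) (.cons [5, 8, 17, 6, 2] (.cons [13, 4, 4, 3] .nil .nil) (.cons [7, 8, 17, 6, 2] .nil (.cons [13, 8, 17, 6, 2] (.cons [4, 13, 8, 7] .nil .nil) (.cons [19, 8, 17, 6, 2] .nil (.cons [1, 15, 17, 6, 2] (.cons [7, 5, 13, 7] .nil .nil) (.cons [7, 15, 17, 6, 2] .nil (.cons [1, 14, 17, 6, 2] (.cons [10, 3, 13, 2, 0] .nil .nil) (.cons [4, 14, 17, 6, 2] (.cons [6, 6, 11, 13, 4] .nil .nil) (.cons [2, 17, 17, 6, 2] (.cons [0, 11, 5, 13, 7] .nil .nil) (.cons [4, 17, 17, 6, 2] (.cons [6, 4, 1, 2] .nil .nil) (.cons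 [7, 17, 17, 6, 2] .nil (.cons [19, 17, 17, 6, 2] (.cons [11, 11, 5, 3] .nil .nil) (.cons [1, 19, 17, 6, 2] (.cons [7, 1, 10, 1, 13] .nil .nil) (.cons [6, 19, 17, 6, 2] (.cons [5, 0, 3, 15] .nil .nil) (.cons [3, 1, 16, 6, 2] (.cons [13, 5, 3, 11, 9] .nil .nil) (.cons [19, 1, 16, 6, 2] .nil (.cons [8, 0, 16, 6, 2] (.cons [2, 11, 5, 12] .nil .nil) (.cons [16, 0, 16, 6, 2] (.cons [0, 9, 10, 7, 7] .nil .nil) (.cons [12, 2, 16, 6, 2] .nil (.cons [13, 2, 16, 6, 2] (.cons [2, 0, 5, 0, 5] .nil .nil) (.cons [14, 2, 16, 6, 2] .nil (.cons [16, 2, 16, 6, 2] .nil (.cons [0, 5, 16, 6, 2] .nil (.cons [19, 5, 16, 6, 2] (.cons [7, 14, 7, 0] .nil .nil) (.cons [13, 4, 16, 6, 2] (.cons [6, 10, 9, 13] .nil .nil) (.cons [14, 4, 16, 6, 2] (.cons [4, 3, 12] .nil .nil) (.cons [18, 4, 16, 6, 2] .nil (.cons [5, 8, 16, 6, 2] (.cons [11, 9, 13, 2] .nil .nil) (.cons [12, 8, 16, 6, 2]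 .nil (.cons [15, 8, 16, 6, 2] (.cons [5, 11, 13, 7, 0] .nil .nil) (.cons [16, 15, 16, 6, 2] (.cons [8, 2, 14] .nil .nil) (.cons [19, 14, 16, 6, 2] .nil (.cons [5, 16, 16, 6, 2] (.cons [4, 4, 6, 4] .nil .nil) (.cons [14, 16, 16, 6, 2] (.cons [6, 5, 6, 12] .nil .nil) (.cons [8, 19, 16, 6, 2] (.cons [8, 11, 3, 13, 7] .nil .nil) (.cons [0, 18, 16, 6, 2] (.cons [12, 0, 0, 6] .nil .nil) (.cons [1, 18, 16, 6, 2] .nil (.cons [8, 1, 19, 6, 2] .nil (.cons [16, 1, 19, 6, 2] .nil (.cons [17, 0, 19, 6, 2] (.cons [15, 7, 4, 7] .nil .nil) (.cons [5, 8, 19, 6, 2] .nil (.cons [0, 8, 18, 6, 2] .nil (.cons [6, 8, 18, 6, 2] .nil (.cons [7, 8, 18, 6, 2] (.cons [12, 1, 4, 2] .nil .nil) (.cons [14, 8, 18, 6, 2] .nil (.cons [12, 8, 1, 8, 2] (.cons [0, 11, 8, 7] .nil .nil) (.cons [13, 8, 1, 8, 2] (.cons [4, 0, 14, 1] .nil .nil) (.cons [17, 3, 0, 5, 6] (.cons [4, 0, 12, 4] .nil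 .nil) (.cons [5, 2, 0, 5, 6] (.cons [12, 4, 10, 4] .nil .nil) (.cons [12, 2, 0, 5, 6] (.cons [15, 8, 5, 5] .nil .nil) (.cons [15, 2, 0, 5, 6] (.cons [7, 9, 7, 10, 1] .nil .nil) (.cons [16, 2, 0, 5, 6] (.cons [14, 7, 3, 0] .nil .nil) (.cons [18, 2, 0, 5, 6] .nil (.cons [5, 5, 0, 5, 6] .nil (.cons [6, 5, 0, 5, 6] .nil (.cons [7, 5, 0, 5, 6] .nil (.cons [13, 5, 0, 5, 6] .nil (.cons [18, 5, 0, 5, 6] (.cons [10, 2, 7, 15] .nil .nil) (.cons [4, 4, 0, 5, 6] .nil (.cons [7, 4, 0, 5, 6] (.cons [14, 0, 10, 5] .nil .nil) (.cons [8, 4, 0, 5, 6] (.cons [14, 5, 5, 1] .nil .nil) (.cons [19, 4, 0, 5, 6] .nil (.cons [5, 7, 0, 5, 6] (.cons [10, 7, 12, 2] .nil .nil) (.cons [17, 6, 0, 5, 6] (.cons [11, 5] .nil .nil) (.cons [18, 6, 0, 5, 6] .nil (.cons [2, 8, 0, 5, 6] (.cons [1, 10, 12, 2, 0] .nil .nil) (.cons [5, 8, 0, 5, 6] (.cons [1, 3, 3, 0] .nil .nil) (.cons [6, 8, 0,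 5, 6] (.cons [1, 13, 2, 10] .nil .nil) (.cons [7, 8, 0, 5, 6] (.cons [7, 11, 13, 3] .nil .nil) (.cons [14, 8, 0, 5, 6] (.cons [0, 6, 0, 6] .nil .nil) (.cons [1, 15, 0, 5, 6] .nil (.cons [6, 15, 0, 5, 6] (.cons [15, 6, 6, 0, 2] .nil .nil) (.cons [7, 15, 0, 5, 6] (.cons [2, 2, 13] .nil .nil) (.cons [13, 15, 0, 5, 6] (.cons [12, 11, 2, 4] .nil .nil) (.cons [16, 15, 0, 5, 6] (.cons [5, 11, 8, 7, 3] .nil .nil) (.cons [8, 14, 0, 5, 6] (.cons [0, 6, 11] .nil .nil) (.cons [17, 14, 0, 5, 6] .nil (.cons [19, 14, 0, 5, 6] .nil (.cons [0, 17, 0, 5, 6] (.cons [14, 2, 8, 1] .nil .nil) (.cons [7, 17, 0, 5, 6] (.cons [4, 15] .nil .nil) (.cons [8, 17, 0, 5, 6] (.cons [4, 10, 5, 1] .nil .nil) (.cons [19, 17, 0, 5, 6] (.cons [15, 2, 2] .nil .nil) (.cons [4, 16, 0, 5, 6] (.cons [14, 4, 9, 4] .nil .nil) (.cons [19, 16, 0, 5, 6] .nil (.cons [8, 19, 0, 5, 6] (.cons [3, 10, 6,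 12, 10] .nil .nil) (.cons [8, 18, 0, 5, 6] .nil (.cons [8, 6, 5, 5, 6] .nil (.cons [13, 6, 5, 5, 6] (.cons [1, 11, 7, 13, 0] .nil .nil) (.cons [0, 8, 5, 5, 6] .nil (.cons [12, 8, 5, 5, 6] .nil (.cons [8, 13, 5, 5, 6] .nil (.cons [17, 13, 5, 5, 6] .nil (.cons [5, 12, 5, 5, 6] (.cons [11, 6, 15, 1] .nil .nil) (.cons [17, 12, 5, 5, 6] (.cons [12, 3, 1] .nil .nil) (.cons [18, 12, 5, 5, 6] (.cons [11, 5, 10, 2] .nil .nil) (.cons [6, 15, 5, 5, 6] (.cons [8, 11, 0] .nil .nil) (.cons [12, 15, 5, 5, 6] .nil (.cons [8, 14, 5, 5, 6] (.cons [5, 10, 12, 4] .nil .nil) (.cons [12, 14, 5, 5, 6] (.cons [14, 11, 2, 4, 7] .nil .nil) (.cons [15, 17, 5, 5, 6] (.cons [12, 8, 10] .nil .nil) (.cons [7, 16, 5, 5, 6] (.cons [3, 12, 5, 5] .nil .nil) (.cons [7, 19, 5, 5, 6] (.cons [11, 5, 13, 6, 4] .nil .nil) (.cons [13, 5, 7, 5, 6] (.cons [6, 11, 5, 2, 13] .nil .nil) (.cons [15,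 5, 7, 5, 6] .nil (.cons [4, 4, 7, 5, 6] (.cons [14, 2, 5, 5, 0] .nil .nil) (.cons [16, 4, 7, 5, 6] (.cons [4, 6, 2, 2] .nil .nil) (.cons [19, 4, 7, 5, 6] (.cons [14, 3, 9, 11] .nil .nil) (.cons [2, 13, 7, 5, 6] (.cons [1, 13, 9, 10] .nil .nil) (.cons [19, 13, 7, 5, 6] .nil (.cons [15, 12, 7, 5, 6] (.cons [7, 7, 12, 3] .nil .nil) (.cons [0, 15, 7, 5, 6] (.cons [9, 10] .nil .nil) (.cons [4, 15, 7, 5, 6] .nil (.cons [7, 15, 7, 5, 6] .nil (.cons [8, 15, 7, 5, 6] .nil (.cons [18, 15, 7, 5, 6] .nil (.cons [5, 14, 7, 5, 6] (.cons [2, 4, 10, 12] .nil .nil) (.cons [16, 14, 7, 5, 6] .nil (.cons [17, 14, 7, 5, 6] (.cons [11, 4, 3, 1] .nil .nil) (.cons [18, 14, 7, 5, 6] (.cons [0, 13, 7, 1] .nil .nil) (.cons [1, 16, 7, 5, 6] (.cons [2, 1, 4, 13] .nil .nil) (.cons [6, 16, 7, 5, 6] .nil (.cons [14, 16, 7, 5, 6] (.cons [1, 6, 12, 2] .nil .nil) (.cons [19, 19, 7, 5, 6]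 .nil (.cons [7, 18, 7, 5, 6] (.cons [4, 0, 4, 14] .nil .nil) (.cons [8, 18, 7, 5, 6] (.cons [5, 0, 0, 14] .nil .nil) (.cons [12, 5, 6, 5, 6] .nil (.cons [17, 5, 6, 5, 6] (.cons [0, 14, 8, 0] .nil .nil) (.cons [15, 4, 6, 5, 6] (.cons [1, 7, 11, 13, 6] .nil .nil) (.cons [1, 8, 6, 5, 6] (.cons [11, 3, 0, 13, 5] .nil .nil) (.cons [2, 8, 6, 5, 6] .nil (.cons [7, 8, 6, 5, 6] .nil (.cons [12, 8, 6, 5, 6] (.cons [14, 7, 7] .nil .nil) (.cons [3, 13, 6, 5, 6] .nil (.cons [14, 13, 6, 5, 6] (.cons [15, 4, 10] .nil .nil) (.cons [4, 12, 6, 5, 6] .nil (.cons [16, 12, 6, 5, 6] (.cons [9, 10, 5, 10, 0] .nil .nil) (.cons [19, 12, 6, 5, 6] .nil (.cons [3, 15, 6, 5, 6] .nil (.cons [12, 15, 6, 5, 6] (.cons [9, 6, 1, 1] .nil .nil) (.cons [13, 15, 6, 5, 6] .nil (.cons [18, 15, 6, 5, 6] (.cons [12, 5, 5, 7] .nil .nil) (.cons [0, 16, 6, 5, 6] (.cons [12, 6, 10, 9] .nil .nil) (.cons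 [1, 16, 6, 5, 6] .nil (.cons [7, 1, 8, 5, 6] (.cons [2, 4, 13, 0] .nil .nil) (.cons [19, 1, 8, 5, 6] .nil (.cons [5, 3, 8, 5, 6] (.cons [12, 6, 0, 5] .nil .nil) (.cons [6, 3, 8, 5, 6] .nil (.cons [17, 3, 8, 5, 6] (.cons [14, 2, 1] .nil .nil) (.cons [4, 2, 8, 5, 6] (.cons [11, 4, 6, 12] .nil .nil) (.cons [16, 2, 8, 5, 6] .nil (.cons [19, 2, 8, 5, 6] .nil (.cons [12, 5, 8, 5, 6] .nil (.cons [18, 5, 8, 5, 6] (.cons [10, 12, 2, 0] .nil .nil) (.cons [8, 7, 8, 5, 6] .nil (.cons [12, 7, 8, 5, 6] (.cons [14, 0, 7] .nil .nil) (.cons [8, 6, 8, 5, 6] (.cons [12, 10, 10, 6] .nil .nil) (.cons [13, 6, 8, 5, 6] (.cons [5, 15] .nil .nil) (.cons [17, 6, 8, 5, 6] (.cons [11, 5, 13, 1, 2] .nil .nil) (.cons [15, 13, 8, 5, 6] .nil (.cons [4, 12, 8, 5, 6] .nil (.cons [1, 15, 8, 5, 6] .nil (.cons [15, 15, 8, 5, 6] .nil (.cons [12, 14, 8, 5, 6] (.cons [9, 15, 5, 5] .nil .nil)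 (.cons [0, 17, 8, 5, 6] .nil (.cons [4, 17, 8, 5, 6] .nil (.cons [4, 16, 8, 5, 6] (.cons [9, 7, 11, 12, 11] .nil .nil) (.cons [8, 16, 8, 5, 6] (.cons [7, 13, 6, 2] .nil .nil) (.cons [8, 19, 8, 5, 6] (.cons [3, 10, 7, 7, 12] .nil .nil) (.cons [14, 1, 13, 5, 6] (.cons [10, 7, 7, 2, 2] .nil .nil) (.cons [5, 3, 13, 5, 6] (.cons [1, 11, 5, 13] .nil .nil) (.cons [6, 3, 13, 5, 6] (.cons [10, 5, 11, 0] .nil .nil) (.cons [2, 2, 13, 5, 6] .nil (.cons [6, 2, 13, 5, 6] (.cons [1, 2, 1, 7] .nil .nil) (.cons [8, 2, 13, 5, 6] (.cons [7, 11, 9, 13] .nil .nil) (.cons [13, 2, 13, 5, 6] (.cons [15, 6, 10, 1] .nil .nil) (.cons [15, 2, 13, 5, 6] (.cons [10, 0, 2, 14] .nil .nil) (.cons [6, 5, 13, 5, 6] (.cons [10, 7, 11, 13] .nil .nil) (.cons [17, 5, 13, 5, 6] .nil (.cons [13, 7, 13, 5, 6] (.cons [4, 0, 4] .nil .nil) (.cons [0, 8, 13, 5, 6] (.cons [7, 5, 2, 14] .nil .nil) (.cons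 [7, 8, 13, 5, 6] (.cons [0, 6, 10, 0] .nil .nil) (.cons [16, 8, 13, 5, 6] .nil (.cons [3, 13, 13, 5, 6] (.cons [4, 6, 15, 1] .nil .nil) (.cons [17, 13, 13, 5, 6] .nil (.cons [1, 15, 13, 5, 6] (.cons [6, 11, 3, 14] .nil .nil) (.cons [7, 15, 13, 5, 6] (.cons [13, 2, 11, 5, 5] .nil .nil) (.cons [1, 14, 13, 5, 6] (.cons [7, 7, 14, 5] .nil .nil) (.cons [3, 14, 13, 5, 6] (.cons [15, 1, 8, 4] .nil .nil) (.cons [7, 14, 13, 5, 6] (.cons [10, 7, 12, 4, 3] .nil .nil) (.cons [19, 17, 13, 5, 6] (.cons [13, 3, 8, 10] .nil .nil) (.cons [6, 16, 13, 5, 6] .nil (.cons [7, 16, 13, 5, 6] (.cons [14, 2, 4, 4] .nil .nil) (.cons [3, 1, 12, 5, 6] (.cons [12, 1, 6] .nil .nil) (.cons [12, 3, 12, 5, 6] (.cons [13, 6, 10, 2, 10] .nil .nil) (.cons [15, 3, 12, 5, 6] .nil (.cons [17, 3, 12, 5, 6] (.cons [1, 4, 12, 1] .nil .nil) (.cons [13, 2, 12, 5, 6] (.cons [4, 11, 8] .nil .nil) (.cons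 [14, 2, 12, 5, 6] (.cons [2, 1, 12, 1] .nil .nil) (.cons [17, 2, 12, 5, 6] (.cons [15, 6, 11, 6, 10] .nil .nil) (.cons [0, 5, 12, 5, 6] (.cons [6, 1, 6] .nil .nil) (.cons [7, 5, 12, 5, 6] .nil (.cons [14, 6, 12, 5, 6] (.cons [10, 6, 12, 1] .nil .nil) (.cons [5, 8, 12, 5, 6] .nil (.cons [7, 12, 12, 5, 6] .nil (.cons [14, 12, 12, 5, 6] .nil (.cons [15, 12, 12, 5, 6] (.cons [10, 9, 0, 14] .nil .nil) (.cons [16, 12, 12, 5, 6] (.cons [10, 6, 4, 4, 2] .nil .nil) (.cons [0, 15, 12, 5, 6] .nil (.cons [3, 14, 12, 5, 6] (.cons [15, 11, 6, 10, 8] .nil .nil) (.cons [6, 14, 12, 5, 6] (.cons [14, 8, 5, 3] .nil .nil) (.cons [14, 14, 12, 5, 6] .nil (.cons [7, 17, 12, 5, 6] (.cons [0, 15, 4, 11] .nil .nil) (.cons [18, 16, 12, 5, 6] .nil (.cons [17, 1, 15, 5, 6] (.cons [11, 4, 2] .nil .nil) (.cons [2, 0, 15, 5, 6] .nil (.cons [5, 3, 15, 5, 6] (.cons [4, 15] .nil .nil) (.cons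 [16, 3, 15, 5, 6] (.cons [9, 4, 11, 7] .nil .nil) (.cons [19, 3, 15, 5, 6] (.cons [13, 3, 3, 5, 3] .nil .nil) (.cons [6, 4, 15, 5, 6] (.cons [10, 5, 12, 4, 3] .nil .nil) (.cons [4, 7, 15, 5, 6] (.cons [7, 3, 11, 13, 3] .nil .nil) (.cons [12, 7, 15, 5, 6] (.cons [8, 5, 11, 7] .nil .nil) (.cons [15, 7, 15, 5, 6] (.cons [3, 11, 4, 13, 2] .nil .nil) (.cons [18, 7, 15, 5, 6] .nil (.cons [19, 7, 15, 5, 6] (.cons [6, 12, 7, 3] .nil .nil) (.cons [4, 6, 15, 5, 6] (.cons [4, 11, 5, 3, 1] .nil .nil) (.cons [2, 8, 15, 5, 6] (.cons [13, 0, 7, 7] .nil .nil) (.cons [6, 13, 15, 5, 6] .nil (.cons [7, 12, 15, 5, 6] (.cons [4, 15, 4, 0] .nil .nil) (.cons [19, 15, 15, 5, 6] (.cons [13, 1, 3, 3] .nil .nil) (.cons [2, 17, 15, 5, 6] .nil (.cons [8, 17, 15, 5, 6] (.cons [15, 3, 5, 7] .nil .nil) (.cons [6, 19, 15, 5, 6] (.cons [12, 1, 6, 3, 11] .nil .nil) (.cons [6, 18, 15, 5,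 6] (.cons [8, 6, 10, 6, 13] .nil .nil) (.cons [8, 0, 14, 5, 6] (.cons [6, 1, 10, 12, 2] .nil .nil) (.cons [16, 0, 14, 5, 6] (.cons [2, 4, 14, 3] .nil .nil) (.cons [4, 3, 14, 5, 6] (.cons [7, 11, 1, 4, 7] .nil .nil) (.cons [15, 3, 14, 5, 6] .nil (.cons [6, 5, 14, 5, 6] (.cons [9, 4, 10, 12] .nil .nil) (.cons [12, 7, 14, 5, 6] (.cons [2, 10, 6, 11] .nil .nil) (.cons [15, 7, 14, 5, 6] .nil (.cons [16, 7, 14, 5, 6] (.cons [1, 12, 3, 5] .nil .nil) (.cons [17, 7, 14, 5, 6] .nil (.cons [15, 6, 14, 5, 6] (.cons [6, 0, 12, 1] .nil .nil) (.cons [3, 8, 14, 5, 6] .nil (.cons [19, 8, 14, 5, 6] .nil (.cons [18, 13, 14, 5, 6] .nil (.cons [2, 12, 14, 5, 6] (.cons [7, 4, 11, 9] .nil .nil) (.cons [14, 12, 14, 5, 6] (.cons [12, 1, 2, 2] .nil .nil) (.cons [5, 14, 14, 5, 6] (.cons [13, 6, 11, 3, 5] .nil .nil) (.cons [12, 14, 14, 5, 6] (.cons [12, 4, 1, 3] .nil .nil) (.cons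 [8, 16, 14, 5, 6] (.cons [14, 10, 7, 9, 3] .nil .nil) (.cons [0, 19, 14, 5, 6] .nil (.cons [1, 1, 17, 5, 6] .nil (.cons [7, 1, 17, 5, 6] (.cons [11, 6, 12, 9] .nil .nil) (.cons [8, 1, 17, 5, 6] (.cons [12, 4, 10, 1] .nil .nil) (.cons [18, 1, 17, 5, 6] (.cons [1, 4, 11] .nil .nil) (.cons [6, 0, 17, 5, 6] .nil (.cons [7, 0, 17, 5, 6] .nil (.cons [19, 0, 17, 5, 6] .nil (.cons [2, 2, 17, 5, 6] (.cons [11, 11, 3, 1] .nil .nil) (.cons [15, 2, 17, 5, 6] .nil (.cons [5, 6, 17, 5, 6] (.cons [6, 14] .nil .nil) (.cons [19, 6, 17, 5, 6] .nil (.cons [1, 8, 17, 5, 6] .nil (.cons [15, 8, 17, 5, 6] .nil (.cons [0, 14, 17, 5, 6] .nil (.cons [2, 17, 17, 5, 6] .nil (.cons [7, 17, 17, 5, 6] .nil (.cons [15, 17, 17, 5, 6] (.cons [11, 5, 15] .nil .nil) (.cons [18, 17, 17, 5, 6] .nil (.cons [6, 19, 17, 5, 6] .nil (.cons [2, 1, 16, 5, 6] (.cons [7, 3, 10, 7, 12] .nil .nil) (.cons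 [16, 1, 16, 5, 6] (.cons [9, 14, 1, 1] .nil .nil) (.cons [0, 2, 16, 5, 6] (.cons [8, 12, 2, 2] .nil .nil) (.cons [4, 2, 16, 5, 6] (.cons [2, 4, 13, 0] .nil .nil) (.cons [12, 2, 16, 5, 6] (.cons [13, 7, 8, 5, 3] .nil .nil) (.cons [14, 2, 16, 5, 6] (.cons [5, 5, 7, 14] .nil .nil) (.cons [15, 2, 16, 5, 6] (.cons [15, 4, 10, 5, 1] .nil .nil) (.cons [17, 2, 16, 5, 6] (.cons [12, 11, 8, 4] .nil .nil) (.cons [12, 5, 16, 5, 6] (.cons [6, 4, 11, 11] .nil .nil) (.cons [7, 4, 16, 5, 6] .nil (.cons [15, 6, 16, 5, 6] .nil (.cons [17, 6, 16, 5, 6] (.cons [10, 1, 4, 6, 13] .nil .nil) (.cons [4, 8, 16, 5, 6] .nil (.cons [7, 15, 16, 5, 6] (.cons [3, 15, 0] .nil .nil) (.cons [0, 14, 16, 5, 6] (.cons [11, 13, 5, 1, 5] .nil .nil) (.cons [8, 18, 16, 5, 6] .nil (.cons [2, 1, 19, 5, 6] .nil (.cons [4, 1, 19, 5, 6] (.cons [0, 13, 4, 4] .nil .nil) (.cons [16, 1, 19, 5, 6] (.cons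 [11, 9, 13, 0, 2] .nil .nil) (.cons [3, 0, 19, 5, 6] (.cons [6, 10, 2, 10] .nil .nil) (.cons [8, 0, 19, 5, 6] .nil (.cons [16, 0, 19, 5, 6] (.cons [15, 8, 7, 3] .nil .nil) (.cons [13, 6, 19, 5, 6] (.cons [5, 3, 12] .nil .nil) (.cons [0, 8, 19, 5, 6] (.cons [10, 5, 8, 11] .nil .nil) (.cons [16, 8, 19, 5, 6] (.cons [7, 5, 0, 11] .nil .nil) (.cons [7, 1, 18, 5, 6] (.cons [2, 4, 10, 7] .nil .nil) (.cons [15, 1, 18, 5, 6] (.cons [15, 7, 2, 10] .nil .nil) (.cons [14, 0, 18, 5, 6] (.cons [5, 7, 13, 9] .nil .nil) (.cons [16, 0, 18, 5, 6] .nil (.cons [8, 7, 18, 5, 6] .nil (.cons [15, 7, 18, 5, 6] .nil (.cons [13, 6, 18, 5, 6] .nil (.cons [16, 6, 18, 5, 6] .nil (.cons [6, 18, 18, 5, 6] .nil (.cons [14, 3, 0, 4, 6] .nil (.cons [18, 3, 0, 4, 6] (.cons [12, 6, 0, 2] .nil .nil) (.cons [15, 2, 0, 4, 6] (.cons [15, 10, 3] .nil .nil) (.cons [8, 5, 0, 4, 6] (.cons [9, 5,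 14, 2] .nil .nil) (.cons [1, 8, 0, 4, 6] (.cons [10, 15, 5, 7] .nil .nil) (.cons [3, 8, 0, 4, 6] .nil (.cons [15, 15, 0, 4, 6] (.cons [11, 7, 0, 0] .nil .nil) (.cons [2, 17, 0, 4, 6] (.cons [3, 10, 4, 3] .nil .nil) (.cons [8, 17, 0, 4, 6] .nil (.cons [15, 8, 4, 4, 6] .nil (.cons [15, 13, 4, 4, 6] (.cons [11, 4, 13, 7, 7] .nil .nil) (.cons [8, 15, 4, 4, 6] (.cons [10, 2, 10] .nil .nil) (.cons [12, 15, 4, 4, 6] .nil (.cons [14, 16, 4, 4, 6] (.cons [11, 12, 9, 3, 1] .nil .nil) (.cons [8, 18, 4, 4, 6] .nil (.cons [7, 1, 8, 4, 6] .nil (.cons [12, 1, 8, 4, 6] (.cons [12, 4, 6, 4] .nil .nil) (.cons [6, 3, 8, 4, 6] (.cons [9, 0, 11, 5] .nil .nil) (.cons [7, 3, 8, 4, 6] (.cons [0, 0, 12, 9] .nil .nil) (.cons [6, 2, 8, 4, 6] .nil (.cons [7, 2, 8, 4, 6] (.cons [8, 7, 12, 3] .nil .nil) (.cons [4, 6, 8, 4, 6] (.cons [2, 1, 11, 8, 7] .nil .nil) (.cons [12, 15, 8, 4,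 6] (.cons [14, 10, 4, 10] .nil .nil) (.cons [3, 14, 8, 4, 6] .nil (.cons [6, 16, 8, 4, 6] (.cons [3, 0, 14, 0] .nil .nil) (.cons [7, 16, 8, 4, 6] (.cons [15, 9, 11, 11, 7] .nil .nil) (.cons [14, 16, 8, 4, 6] (.cons [11, 5, 13, 2] .nil .nil) (.cons [16, 16, 8, 4, 6] (.cons [8, 4, 12] .nil .nil) (.cons [18, 16, 8, 4, 6] (.cons [15, 2, 9, 10] .nil .nil) (.cons [17, 1, 13, 4, 6] (.cons [9, 3, 14, 10] .nil .nil) (.cons [3, 3, 13, 4, 6] (.cons [15, 3, 4] .nil .nil) (.cons [4, 3, 13, 4, 6] (.cons [10, 5, 13, 2] .nil .nil) (.cons [14, 3, 13, 4, 6] (.cons [12, 6, 6, 0] .nil .nil) (.cons [15, 2, 13, 4, 6] (.cons [9, 6, 10, 4, 10] .nil .nil) (.cons [16, 2, 13, 4, 6] (.cons [9, 11, 5, 14] .nil .nil) (.cons [3, 8, 13, 4, 6] (.cons [7, 10, 9, 12, 5] .nil .nil) (.cons [4, 8, 13, 4, 6] .nil (.cons [2, 13, 13, 4, 6] (.cons [12, 5, 6] .nil .nil) (.cons [16, 15, 13, 4, 6]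 (.cons [10, 12, 1, 7, 3] .nil .nil) (.cons [0, 14, 13, 4, 6] (.cons [1, 6, 2] .nil .nil) (.cons [4, 14, 13, 4, 6] .nil (.cons [14, 1, 12, 4, 6] .nil (.cons [17, 1, 12, 4, 6] (.cons [12, 4, 3, 6, 10] .nil .nil) (.cons [0, 3, 12, 4, 6] .nil (.cons [14, 3, 12, 4, 6] (.cons [0, 2, 10, 12] .nil .nil) (.cons [8, 2, 12, 4, 6] .nil (.cons [17, 4, 12, 4, 6] .nil (.cons [4, 8, 12, 4, 6] .nil (.cons [6, 8, 12, 4, 6] .nil (.cons [19, 8, 12, 4, 6] .nil (.cons [1, 15, 12, 4, 6] (.cons [1, 14, 1, 1] .nil .nil) (.cons [15, 15, 12, 4, 6] (.cons [13, 0, 6, 5, 10] .nil .nil) (.cons [1, 14, 12, 4, 6] (.cons [8, 4, 2, 2] .nil .nil) (.cons [1, 17, 12, 4, 6] .nil (.cons [8, 17, 12, 4, 6] (.cons [12, 2, 8, 5] .nil .nil) (.cons [17, 17, 12, 4, 6] .nil (.cons [2, 16, 12, 4, 6] .nil (.cons [4, 16, 12, 4, 6] (.cons [5, 0, 7, 0] .nil .nil) (.cons [3, 1, 15, 4, 6] .nil (.cons [18,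 1, 15, 4, 6] (.cons [10, 13, 11, 2] .nil .nil) (.cons [2, 0, 15, 4, 6] (.cons [15, 1, 5, 3] .nil .nil) (.cons [8, 0, 15, 4, 6] (.cons [9, 3, 14, 5] .nil .nil) (.cons [17, 3, 15, 4, 6] (.cons [12, 7] .nil .nil) (.cons [8, 5, 15, 4, 6] (.cons [7, 3, 11, 5] .nil .nil) (.cons [3, 13, 15, 4, 6] .nil (.cons [4, 12, 15, 4, 6] (.cons [4, 0, 12, 2] .nil .nil) (.cons [8, 12, 15, 4, 6] (.cons [5, 3, 6, 10] .nil .nil) (.cons [16, 16, 15, 4, 6] (.cons [13, 3, 10, 7] .nil .nil) (.cons [1, 19, 15, 4, 6] .nil (.cons [8, 19, 15, 4, 6] (.cons [6, 5, 11, 12, 4] .nil .nil) (.cons [0, 18, 15, 4, 6] .nil (.cons [1, 18, 15, 4, 6] (.cons [11, 12, 11, 8, 0] .nil .nil) (.cons [2, 0, 14, 4, 6] (.cons [1, 5, 1, 5] .nil .nil) (.cons [4, 0, 14, 4, 6] (.cons [10, 15, 1, 2] .nil .nil) (.cons [5, 0, 14, 4, 6] (.cons [11, 7, 0, 2] .nil .nil) (.cons [17, 0, 14, 4, 6] (.cons [1, 11, 7, 12]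 .nil .nil) (.cons [18, 0, 14, 4, 6] .nil (.cons [14, 4, 14, 4, 6] (.cons [1, 5, 12, 0] .nil .nil) (.cons [0, 8, 14, 4, 6] (.cons [14, 3, 7, 1, 11] .nil .nil) (.cons [13, 8, 14, 4, 6] (.cons [5, 7, 14] .nil .nil) (.cons [15, 8, 14, 4, 6] .nil (.cons [19, 8, 14, 4, 6] (.cons [10, 5, 12, 11, 6] .nil .nil) (.cons [12, 14, 14, 4, 6] (.cons [11, 2, 13, 6, 0] .nil .nil) (.cons [2, 17, 14, 4, 6] .nil (.cons [2, 1, 17, 4, 6] (.cons [1, 5, 2, 14] .nil .nil) (.cons [5, 2, 17, 4, 6] (.cons [11, 13, 3, 7, 1] .nil .nil) (.cons [0, 4, 17, 4, 6] .nil (.cons [2, 8, 17, 4, 6] .nil (.cons [4, 8, 17, 4, 6] .nil (.cons [3, 15, 17, 4, 6] (.cons [11, 12, 4, 7] .nil .nil) (.cons [0, 14, 17, 4, 6] (.cons [11, 7, 2, 0] .nil .nil) (.cons [13, 0, 16, 4, 6] (.cons [10, 7, 7, 14] .nil .nil) (.cons [8, 4, 16, 4, 6] .nil (.cons [12, 8, 16, 4, 6] .nil (.cons [4, 16, 16, 4, 6] (.cons [14,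 2, 4, 4] .nil .nil) (.cons [18, 16, 16, 4, 6] (.cons [12, 11, 8] .nil .nil) (.cons [2, 1, 19, 4, 6] (.cons [7, 7, 0, 3] .nil .nil) (.cons [1, 8, 19, 4, 6] (.cons [5, 5, 1, 2] .nil .nil) (.cons [3, 1, 18, 4, 6] (.cons [7, 10, 1, 13, 4] .nil .nil) (.cons [17, 0, 18, 4, 6] .nil (.cons [7, 1, 1, 8, 6] (.cons [11, 8, 5, 12, 10] .nil .nil) (.cons [13, 5, 1, 8, 6] (.cons [4, 3, 14, 11] .nil .nil) (.cons [15, 5, 1, 8, 6] .nil (.cons [7, 4, 1, 8, 6] .nil (.cons [19, 4, 1, 8, 6] (.cons [1, 10, 0] .nil .nil) (.cons [17, 7, 1, 8, 6] (.cons [12, 9, 4, 1] .nil .nil) (.cons [12, 6, 1, 8, 6] (.cons [9, 11, 13, 4] .nil .nil) (.cons [12, 8, 1, 8, 6] (.cons [3, 6, 13, 1] .nil .nil) (.cons [16, 8, 1, 8, 6] (.cons [5, 11, 2, 12] .nil .nil) (.cons [5, 13, 1, 8, 6] (.cons [7, 10] .nil .nil) (.cons [6, 13, 1, 8, 6] .nil (.cons [15, 12, 1, 8, 6] .nil (.cons [13, 15, 1, 8, 6] (.cons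 [11, 13, 5, 11, 3] .nil .nil) (.cons [7, 14, 1, 8, 6] .nil (.cons [17, 14, 1, 8, 6] .nil (.cons [2, 16, 1, 8, 6] .nil (.cons [6, 16, 1, 8, 6] .nil (.cons [8, 16, 1, 8, 6] (.cons [10, 3, 14, 2] .nil .nil) (.cons [14, 16, 1, 8, 6] (.cons [3, 11, 5, 15] .nil .nil) (.cons [4, 0, 0, 8, 6] (.cons [13, 9, 2, 0, 11] .nil .nil) (.cons [17, 3, 0, 8, 6] (.cons [6, 10, 6] .nil .nil) (.cons [13, 2, 0, 8, 6] (.cons [8, 6, 15, 11] .nil .nil) (.cons [14, 5, 0, 8, 6] (.cons [2, 1, 1, 3] .nil .nil) (.cons [4, 4, 0, 8, 6] (.cons [13, 6, 4, 6] .nil .nil) (.cons [12, 7, 0, 8, 6] (.cons [12, 5, 5, 2] .nil .nil) (.cons [14, 7, 0, 8, 6] .nil (.cons [16, 6, 0, 8, 6] (.cons [2, 10, 3, 4] .nil .nil) (.cons [7, 8, 0, 8, 6] .nil (.cons [7, 12, 0, 8, 6] (.cons [6, 11, 13, 5] .nil .nil) (.cons [4, 15, 0, 8, 6] (.cons [5, 15, 2, 2] .nil .nil) (.cons [5, 15, 0, 8, 6] .nil (.cons [6, 15,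 0, 8, 6] (.cons [1, 1, 15, 0] .nil .nil) (.cons [8, 15, 0, 8, 6] .nil (.cons [16, 15, 0, 8, 6] .nil (.cons [19, 15, 0, 8, 6] .nil (.cons [0, 14, 0, 8, 6] .nil (.cons [3, 14, 0, 8, 6] .nil .nil)))))))))))))))))))))))))))))))))))))))))))))))))))))))))))))))))))))))))))))))))))))))))))))))))))))))))))))))))))))))))))))))))))))))))))))))))))))))))))))))))))))))))))))))))))))))))))))))))))))))))))))))))))))))))))))))))))))))))))))))))))))))))))))))))))))))))))))))))))))))))))))))))))))))))))))))))))))))))))))))))))))))))))))))))))))))))))))))))))))))))))))))))))))))))))))))))))))))))))))))))))))))))))))))))))))))))))))))))))))))))))))))))))))))))))))))))))))))))))))))))))))))))))))))))))))))))))))))))))))))))))))))))))))))))))))))))))))))))))))))))))))))))))))))))))))))))))))))))))))))))))))))))))))))))))))))))))))))))))))))))))))))))))))))))))))))))))))))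))))))))))))))))))))))))))))))))))))))))))))))))))))))))))))))))))))))))))))))))))))))))))))))))))))))))))))))))))))))))))))))))))))))))))))))))))))))))))))))))))))))))))))))))))))))))))))))))))))))))))))))))))))))))))))))))))))))))))))))))))))))))))))))))))))))))))))))))))))))))))))))))))))))))))))))))))))))))))))))))))))))))))))))))))))))))))))))))))))))))))))))))))))))))))))))))))))))))))))))))))))))))))))))))))))))))))))))))))))))))))))))))))))))))))))))))))))))))))))))))))))))))))))))))))))))))))))))))))))))))))))))))))))))))))))))))))))))))))))))))))))))))))))))))))))))))))))))))))))))))))))))))))))))))))))))))))))))))))))))))))))))))))))))))))))))))))))))))))))))))))))))))))))))))))))))))))))))))))))))))))))))))))))))))))))))))))))))))))))))))))))))))))))))))))))))))))))))))))))))))))))))))))))))))))))))))))))) (⟨cu_l0.b, cu_l0.S, [], cu_R1, 0⟩ ::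 cu_tl) (0 :: cu_lk) Pd.nil 0 = true := by decide +kernel
theorem cu_r2 : cu_S.run (.cons [5, 14, 0, 8, 6] .nil (.cons [17, 14, 0, 8, 6] (.cons [12, 3, 6, 4] .nil .nil) (.cons [18, 17, 0, 8, 6] .nil (.cons [1, 16, 0, 8, 6] .nil (.cons [16, 16, 0, 8, 6] (.cons [14, 1, 3, 1, 3] .nil .nil) (.cons [18, 16, 0, 8, 6] (.cons [14, 7, 8, 2] .nil .nil) (.cons [17, 1, 3, 8, 6] .nil (.cons [15, 5, 3, 8, 6] .nil (.cons [19, 5, 3, 8, 6] (.cons [15, 1, 1, 5] .nil .nil) (.cons [8, 4, 3, 8, 6] (.cons [7, 7, 8, 8] .nil .nil) (.cons [12, 4, 3, 8, 6] (.cons [10, 9, 12, 2] .nil .nil) (.cons [15, 4, 3, 8, 6] (.cons [11, 0, 11, 6] .nil .nil) (.cons [2, 13, 3, 8, 6] .nil (.cons [3, 13, 3, 8, 6] (.cons [15, 1] .nil .nil) (.cons [4, 17, 3, 8, 6] (.cons [0, 5, 5, 7, 2] .nil .nil) (.cons [3, 8, 2, 8, 6] (.cons [12, 6, 11, 8] .nil .nil) (.cons [17, 15, 2, 8, 6] (.cons [2, 1, 11, 7]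 .nil .nil) (.cons [0, 17, 2, 8, 6] .nil (.cons [18, 17, 2, 8, 6] (.cons [15, 8, 7] .nil .nil) (.cons [2, 16, 2, 8, 6] (.cons [7, 10, 5, 13] .nil .nil) (.cons [3, 0, 5, 8, 6] (.cons [10, 13, 3, 4] .nil .nil) (.cons [19, 6, 5, 8, 6] (.cons [5, 0, 6, 14] .nil .nil) (.cons [1, 8, 5, 8, 6] (.cons [3, 3, 7, 1] .nil .nil) (.cons [3, 12, 5, 8, 6] .nil (.cons [6, 12, 5, 8, 6] (.cons [12, 3, 8, 4, 11] .nil .nil) (.cons [18, 12, 5, 8, 6] .nil (.cons [7, 15, 5, 8, 6] .nil (.cons [5, 0, 4, 8, 6] .nil (.cons [17, 8, 4, 8, 6] (.cons [7, 1, 13, 6] .nil .nil) (.cons [6, 15, 4, 8, 6] (.cons [8, 2, 7, 11, 13] .nil .nil) (.cons [7, 15, 4, 8, 6] .nil (.cons [5, 14, 4, 8, 6] .nil (.cons [12, 14, 4, 8, 6] (.cons [0, 7, 15, 4] .nil .nil) (.cons [2, 16, 4, 8, 6] (.cons [2, 10, 7, 13] .nil .nil) (.cons [4, 4, 7, 8, 6] (.cons [5, 6, 6, 8, 10] .nil .nil) (.cons [12, 4, 7, 8, 6] (.cons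 [7, 7, 0, 7] .nil .nil) (.cons [5, 8, 7, 8, 6] (.cons [13, 4, 6, 4] .nil .nil) (.cons [1, 12, 7, 8, 6] .nil (.cons [17, 12, 7, 8, 6] .nil (.cons [17, 15, 7, 8, 6] (.cons [11, 14, 8, 0] .nil .nil) (.cons [6, 16, 7, 8, 6] .nil (.cons [16, 16, 7, 8, 6] .nil (.cons [1, 19, 7, 8, 6] (.cons [4, 10] .nil .nil) (.cons [18, 15, 6, 8, 6] (.cons [7, 0, 11, 5] .nil .nil) (.cons [12, 14, 6, 8, 6] (.cons [11, 11, 7, 0] .nil .nil) (.cons [2, 17, 6, 8, 6] (.cons [6, 14, 5] .nil .nil) (.cons [0, 16, 6, 8, 6] (.cons [12, 6, 11] .nil .nil) (.cons [6, 1, 13, 8, 6] (.cons [4, 12, 5] .nil .nil) (.cons [15, 1, 13, 8, 6] .nil (.cons [19, 3, 13, 8, 6] .nil (.cons [1, 2, 13, 8, 6] .nil (.cons [19, 2, 13, 8, 6] .nil (.cons [5, 5, 13, 8, 6] (.cons [4, 15, 1] .nil .nil) (.cons [16, 5, 13, 8, 6] (.cons [2, 14, 5, 3] .nil .nil) (.cons [18, 7, 13, 8, 6] .nil (.cons [8, 6, 13, 8, 6] (.cons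 [10, 1, 3, 13] .nil .nil) (.cons [4, 13, 13, 8, 6] (.cons [1, 10, 12, 6, 10] .nil .nil) (.cons [19, 13, 13, 8, 6] (.cons [9, 3, 14, 10] .nil .nil) (.cons [3, 15, 13, 8, 6] (.cons [6, 2, 12, 7] .nil .nil) (.cons [16, 16, 13, 8, 6] .nil (.cons [18, 18, 13, 8, 6] .nil (.cons [8, 1, 12, 8, 6] (.cons [5, 6] .nil .nil) (.cons [18, 2, 12, 8, 6] .nil (.cons [17, 6, 12, 8, 6] (.cons [9, 11, 0, 13, 6] .nil .nil) (.cons [19, 6, 12, 8, 6] (.cons [2, 1, 12, 5] .nil .nil) (.cons [1, 8, 12, 8, 6] .nil (.cons [19, 12, 12, 8, 6] (.cons [3, 6, 10, 8, 10] .nil .nil) (.cons [0, 17, 12, 8, 6] .nil (.cons [6, 16, 12, 8, 6] (.cons [5, 0, 14, 5] .nil .nil) (.cons [7, 19, 12, 8, 6] .nil (.cons [6, 18, 12, 8, 6] .nil (.cons [19, 7, 15, 8, 6] (.cons [6, 11, 12] .nil .nil) (.cons [16, 6, 15, 8, 6] (.cons [10, 5, 7] .nil .nil) (.cons [17, 6, 15, 8, 6] (.cons [11, 13, 4, 4] .nil .nil)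 (.cons [0, 8, 15, 8, 6] .nil (.cons [15, 8, 15, 8, 6] (.cons [11, 13, 2, 10, 3] .nil .nil) (.cons [2, 13, 15, 8, 6] .nil (.cons [5, 13, 15, 8, 6] .nil (.cons [16, 13, 15, 8, 6] .nil (.cons [8, 6, 14, 8, 6] .nil (.cons [13, 7, 17, 8, 6] (.cons [14, 3, 7, 1, 11] .nil .nil) (.cons [19, 6, 17, 8, 6] .nil (.cons [19, 8, 17, 8, 6] .nil (.cons [7, 0, 16, 8, 6] (.cons [11, 4, 1, 3] .nil .nil) (.cons [16, 0, 16, 8, 6] (.cons [2, 12, 4, 3] .nil .nil) (.cons [15, 5, 16, 8, 6] (.cons [0, 7, 8, 0] .nil .nil) (.cons [18, 7, 16, 8, 6] (.cons [0, 6, 10, 13, 7] .nil .nil) (.cons [13, 6, 16, 8, 6] (.cons [12, 3, 3] .nil .nil) (.cons [12, 8, 16, 8, 6] .nil (.cons [13, 8, 16, 8, 6] .nil (.cons [4, 1, 19, 8, 6] (.cons [15, 7, 10, 0] .nil .nil) (.cons [7, 0, 19, 8, 6] (.cons [10, 6, 11, 7] .nil .nil) (.cons [8, 1, 18, 8, 6] (.cons [10, 2, 7, 12] .nil .nil) (.cons [16, 1, 18,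 8, 6] .nil (.cons [5, 6, 18, 8, 6] .nil (.cons [17, 6, 18, 8, 6] (.cons [3, 3, 0, 12] .nil .nil) (.cons [6, 1, 3, 13, 6] .nil (.cons [5, 3, 3, 13, 6] (.cons [12, 1, 5, 10, 0] .nil .nil) (.cons [12, 3, 3, 13, 6] (.cons [10, 8, 1, 13] .nil .nil) (.cons [12, 7, 3, 13, 6] .nil (.cons [17, 8, 3, 13, 6] (.cons [11, 9, 12, 1] .nil .nil) (.cons [5, 13, 3, 13, 6] (.cons [12, 4, 0, 7] .nil .nil) (.cons [4, 15, 3, 13, 6] (.cons [13, 4, 3, 11, 11] .nil .nil) (.cons [5, 14, 3, 13, 6] .nil (.cons [0, 18, 3, 13, 6] (.cons [4, 0, 12, 7] .nil .nil) (.cons [6, 18, 3, 13, 6] .nil (.cons [8, 0, 2, 13, 6] (.cons [10, 7, 13, 6, 4] .nil .nil) (.cons [12, 0, 2, 13, 6] (.cons [3, 12, 7, 10] .nil .nil) (.cons [14, 4, 2, 13, 6] .nil (.cons [8, 6, 2, 13, 6] .nil (.cons [6, 8, 2, 13, 6] (.cons [9, 10, 5, 13, 1] .nil .nil) (.cons [13, 13, 2, 13, 6] .nil (.cons [15, 12, 2, 13, 6] (.cons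 [5, 9, 13, 6] .nil .nil) (.cons [2, 17, 2, 13, 6] (.cons [8, 6, 12] .nil .nil) (.cons [13, 7, 5, 13, 6] .nil (.cons [18, 7, 5, 13, 6] .nil (.cons [12, 6, 5, 13, 6] (.cons [5, 11, 7, 0] .nil .nil) (.cons [3, 8, 5, 13, 6] .nil (.cons [6, 8, 5, 13, 6] .nil (.cons [15, 13, 5, 13, 6] .nil (.cons [0, 15, 5, 13, 6] (.cons [2, 4, 6, 11] .nil .nil) (.cons [7, 18, 5, 13, 6] (.cons [2, 11, 6, 2, 13] .nil .nil) (.cons [4, 7, 4, 13, 6] (.cons [15, 11, 6, 10, 9] .nil .nil) (.cons [5, 6, 4, 13, 6] (.cons [11, 11, 4, 11] .nil .nil) (.cons [15, 8, 4, 13, 6] .nil (.cons [8, 19, 4, 13, 6] (.cons [5, 6, 10, 8] .nil .nil) (.cons [7, 5, 7, 13, 6] (.cons [9, 6, 10, 6, 12] .nil .nil) (.cons [7, 17, 7, 13, 6] (.cons [0, 13, 5, 2, 2] .nil .nil) (.cons [0, 4, 6, 13, 6] .nil (.cons [4, 15, 6, 13, 6] .nil (.cons [2, 0, 8, 13, 6] (.cons [7, 0, 4, 3] .nil .nil) (.cons [13, 3, 8, 13,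 6] .nil (.cons [2, 2, 8, 13, 6] (.cons [4, 12, 8, 1] .nil .nil) (.cons [18, 2, 8, 13, 6] (.cons [9, 10, 0, 7] .nil .nil) (.cons [5, 5, 8, 13, 6] .nil (.cons [16, 5, 8, 13, 6] (.cons [2, 13, 6] .nil .nil) (.cons [8, 14, 8, 13, 6] (.cons [11, 11, 6, 2] .nil .nil) (.cons [7, 19, 8, 13, 6] (.cons [4, 3, 11] .nil .nil) (.cons [7, 15, 15, 13, 6] .nil (.cons [15, 16, 15, 13, 6] .nil (.cons [4, 3, 14, 13, 6] (.cons [6, 11, 12, 5, 7] .nil .nil) (.cons [17, 3, 14, 13, 6] (.cons [7, 11, 13, 7, 10] .nil .nil) (.cons [16, 5, 14, 13, 6] (.cons [11, 2, 5, 2] .nil .nil) (.cons [7, 4, 14, 13, 6] (.cons [0, 5, 3] .nil .nil) (.cons [13, 7, 14, 13, 6] .nil (.cons [17, 7, 14, 13, 6] .nil (.cons [7, 13, 14, 13, 6] .nil (.cons [8, 1, 17, 13, 6] .nil (.cons [16, 0, 17, 13, 6] (.cons [0, 10, 12, 4, 0] .nil .nil) (.cons [12, 8, 17, 13, 6] .nil (.cons [0, 15, 17, 13, 6] .nil (.cons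 [0, 14, 17, 13, 6] .nil (.cons [8, 6, 16, 13, 6] (.cons [5, 10, 7, 13, 5] .nil .nil) (.cons [16, 8, 16, 13, 6] .nil (.cons [16, 15, 16, 13, 6] (.cons [7, 13, 1, 7] .nil .nil) (.cons [1, 14, 16, 13, 6] (.cons [9, 3] .nil .nil) (.cons [4, 16, 16, 13, 6] (.cons [3, 15, 2, 1] .nil .nil) (.cons [7, 1, 19, 13, 6] .nil (.cons [5, 7, 19, 13, 6] .nil (.cons [15, 7, 19, 13, 6] .nil (.cons [18, 8, 19, 13, 6] (.cons [15, 6, 5, 3] .nil .nil) (.cons [16, 7, 18, 13, 6] .nil (.cons [5, 6, 18, 13, 6] .nil (.cons [18, 3, 3, 12, 6] .nil (.cons [18, 4, 3, 12, 6] .nil (.cons [4, 14, 3, 12, 6] (.cons [2, 11, 12, 10, 6] .nil .nil) (.cons [0, 18, 3, 12, 6] (.cons [0, 14, 0, 3] .nil .nil) (.cons [13, 5, 2, 12, 6] (.cons [4, 7, 11, 8, 13] .nil .nil) (.cons [17, 14, 2, 12, 6] (.cons [12, 7, 9, 2] .nil .nil) (.cons [17, 17, 5, 12, 6] .nil (.cons [7, 7, 8, 12, 6] (.cons [10, 7, 0,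 7, 11] .nil .nil) (.cons [14, 7, 8, 12, 6] .nil (.cons [16, 6, 8, 12, 6] .nil (.cons [4, 15, 8, 12, 6] (.cons [15, 1, 6, 11, 6] .nil .nil) (.cons [12, 1, 15, 12, 6] (.cons [2, 11, 5, 10, 1] .nil .nil) (.cons [3, 12, 15, 12, 6] .nil (.cons [16, 1, 14, 12, 6] (.cons [0, 3, 10, 2] .nil .nil) (.cons [18, 8, 14, 12, 6] .nil (.cons [18, 16, 14, 12, 6] (.cons [13, 4, 11, 3] .nil .nil) (.cons [12, 1, 17, 12, 6] (.cons [15, 9, 5, 7] .nil .nil) (.cons [14, 2, 17, 12, 6] (.cons [7, 10, 5, 7, 12] .nil .nil) (.cons [1, 15, 17, 12, 6] .nil (.cons [2, 17, 17, 12, 6] .nil (.cons [4, 17, 17, 12, 6] .nil (.cons [8, 18, 17, 12, 6] (.cons [12, 0, 7, 3] .nil .nil) (.cons [8, 0, 16, 12, 6] (.cons [5, 11, 1, 3] .nil .nil) (.cons [18, 0, 16, 12, 6] (.cons [2, 0, 4, 11] .nil .nil) (.cons [18, 8, 16, 12, 6] (.cons [7, 5] .nil .nil) (.cons [8, 19, 16, 12, 6] (.cons [15, 11, 7, 3,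 4] .nil .nil) (.cons [8, 18, 16, 12, 6] .nil (.cons [18, 8, 19, 12, 6] (.cons [10, 7, 4] .nil .nil) (.cons [16, 8, 1, 15, 6] (.cons [9, 11, 0, 5, 3] .nil .nil) (.cons [2, 12, 1, 15, 6] .nil (.cons [7, 15, 1, 15, 6] .nil (.cons [6, 16, 1, 15, 6] .nil (.cons [5, 2, 0, 15, 6] (.cons [0, 3, 7, 13] .nil .nil) (.cons [4, 13, 0, 15, 6] (.cons [5, 9, 11, 5, 13] .nil .nil) (.cons [6, 17, 0, 15, 6] (.cons [11, 3, 7, 12] .nil .nil) (.cons [12, 5, 3, 15, 6] (.cons [9, 6, 5, 2, 10] .nil .nil) (.cons [3, 15, 3, 15, 6] (.cons [15, 7, 3, 0, 3] .nil .nil) (.cons [19, 15, 3, 15, 6] (.cons [13, 0, 3, 11, 9] .nil .nil) (.cons [12, 14, 3, 15, 6] (.cons [0, 3, 11, 6] .nil .nil) (.cons [14, 14, 3, 15, 6] (.cons [14, 5, 11, 5] .nil .nil) (.cons [7, 17, 3, 15, 6] .nil (.cons [19, 17, 3, 15, 6] .nil (.cons [0, 18, 3, 15, 6] .nil (.cons [17, 0, 5, 15, 6] (.cons [11, 8, 7, 13, 11]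 .nil .nil) (.cons [6, 5, 7, 15, 6] .nil (.cons [17, 8, 7, 15, 6] (.cons [12, 1, 3, 5] .nil .nil) (.cons [6, 18, 7, 15, 6] .nil (.cons [18, 5, 6, 15, 6] .nil (.cons [5, 8, 6, 15, 6] (.cons [5, 7, 2, 14] .nil .nil) (.cons [16, 12, 6, 15, 6] (.cons [11, 9, 12] .nil .nil) (.cons [18, 16, 6, 15, 6] .nil (.cons [6, 3, 13, 15, 6] (.cons [10, 5, 14] .nil .nil) (.cons [19, 3, 13, 15, 6] (.cons [14, 4, 10, 9] .nil .nil) (.cons [1, 8, 13, 15, 6] (.cons [15, 6, 1, 11, 6] .nil .nil) (.cons [12, 1, 12, 15, 6] .nil (.cons [6, 17, 12, 15, 6] .nil (.cons [7, 12, 15, 15, 6] .nil (.cons [12, 0, 17, 15, 6] .nil (.cons [18, 6, 17, 15, 6] (.cons [11, 5, 7, 14] .nil .nil) (.cons [16, 14, 1, 14, 6] (.cons [11, 2, 6, 0] .nil .nil) (.cons [4, 2, 0, 14, 6] (.cons [0, 6, 6, 3] .nil .nil) (.cons [13, 2, 0, 14, 6] (.cons [7, 0, 2, 2] .nil .nil) (.cons [2, 12, 0, 14, 6] .nil (.cons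 [0, 17, 0, 14, 6] .nil (.cons [16, 1, 3, 14, 6] (.cons [6, 6, 1, 11] .nil .nil) (.cons [14, 3, 3, 14, 6] .nil (.cons [0, 15, 3, 14, 6] .nil (.cons [1, 17, 4, 14, 6] (.cons [3, 11, 7, 1] .nil .nil) (.cons [6, 17, 8, 14, 6] (.cons [0, 6, 0, 14] .nil .nil) (.cons [16, 8, 13, 14, 6] .nil (.cons [1, 3, 12, 14, 6] (.cons [5, 1, 7, 7] .nil .nil) (.cons [3, 1, 17, 14, 6] .nil (.cons [1, 2, 17, 14, 6] .nil (.cons [19, 8, 1, 17, 6] (.cons [4, 8, 11, 5, 5] .nil .nil) (.cons [3, 12, 1, 17, 6] (.cons [6, 4, 11, 4, 11] .nil .nil) (.cons [6, 8, 0, 17, 6] .nil (.cons [8, 7, 2, 17, 6] .nil (.cons [4, 8, 2, 17, 6] .nil (.cons [5, 7, 5, 17, 6] (.cons [13, 1, 1] .nil .nil) (.cons [16, 5, 7, 17, 6] (.cons [2, 7, 13, 5] .nil .nil) (.cons [1, 19, 7, 17, 6] (.cons [15, 0, 6, 2] .nil .nil) (.cons [2, 16, 1, 16, 6] (.cons [6, 2, 1, 7] .nil .nil) (.cons [17, 5, 2, 16, 6] (.cons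 [13, 4, 1, 6] .nil .nil) (.cons [6, 5, 8, 16, 6] (.cons [1, 9, 4] .nil .nil) (.cons [3, 12, 15, 16, 6] (.cons [8, 4] .nil .nil) (.cons [14, 16, 14, 16, 6] (.cons [0, 14] .nil .nil) (.cons [15, 0, 18, 16, 6] (.cons [7, 13, 9, 4] .nil .nil) (.cons [15, 8, 1, 19, 6] (.cons [10, 10, 10, 0] .nil .nil) (.cons [13, 2, 8, 19, 6] .nil (.cons [6, 16, 8, 1, 8] .nil (.cons [6, 2, 13, 1, 8] .nil (.cons [18, 6, 13, 5, 8] (.cons [14, 2, 1, 2, 1] .nil .nil) (.cons [1, 16, 12, 7, 8] (.cons [11, 7, 1, 13] .nil .nil) (.cons [16, 12, 7, 12, 8] (.cons [0, 0, 6, 2] .nil .nil) (.cons [16, 6, 5, 6, 3, 3] .nil (.cons [15, 17, 13, 6, 3, 3] .nil (.cons [5, 1, 15, 6, 3, 3] (.cons [9, 0, 0, 10, 4] .nil .nil) (.cons [15, 8, 0, 5, 6, 3] (.cons [15, 1, 11, 5] .nil .nil) (.cons [17, 14, 0, 5, 6, 3] .nil (.cons [8, 17, 0, 5, 6, 3] (.cons [10, 6, 4, 2] .nil .nil) (.cons [15, 8, 4, 13, 6,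 3] (.cons [15, 6, 8, 11] .nil .nil) (.cons [8, 13, 8, 13, 6, 3] (.cons [13, 6, 10, 2] .nil .nil) (.cons [3, 12, 8, 12, 6, 3] (.cons [2, 6, 11, 9] .nil .nil) .nil)))))))))))))))))))))))))))))))))))))))))))))))))))))))))))))))))))))))))))))))))))))))))))))))))))))))))))))))))))))))))))))))))))))))))))))))))))))))))))))))))))))))))))))))))))))))))))))))))))))))))))))))))))))))))))))))))))))))))))))))))))))))))))))))))))))))))) (⟨cu_l0.b, cu_l0.S, [], cu_R2, 0⟩ :: cu_tl) (0 :: cu_lk) Pd.nil 0 = true := by decide +kernel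
theorem cu_sound {G : Type*} [Group G] {φ : G →* Equiv.Perm ℕ} {γ : ℕ → G}
    (M : Model φ γ 15 m_ns m_ts) : ChainSound φ (gp γ [0, 2, 4, 6, 8, 10, 12, 14, 16, 18]) 15 [] cu_ls :=
  ⟨Level.ok_sound' M cu_l0_ok,
   Level.ok_sound' M cu_l1_ok,
   Level.okT_sound M cu_l2_ok, trivial⟩
theorem cu_cent {G : Type*} [Group G] {φ : G →* Equiv.Perm ℕ} {γ : ℕ → G}
    (C : Cert φ γ 15 m_ns m_ts [0, 2, 4, 6, 8, 10, 12, 14, 16, 18] c_ls) : Cent γ cu_S.u cu_S.Cl 5 :=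
  have X := (C.rechain (cu_sound C.M) (by decide +kernel)).exact
  have A := Srch.auxB_sound (S := cu_S) C.M (K := ⊤) le_top rfl cu_aux
  have F := fun {tr : Tr} {R : ℕ} => Srch.found_of_run (S := cu_S) C.M C.base (by decide +kernel) X A (tr := tr) (R := R)
  Cent.of_found (S := cu_S) C.M X rfl ((F cu_r0).or ((F cu_r1).or (F cu_r2))) cu_cov

end Cfsg.Agent.LyO
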